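import Cfsg.Agent.Lib.MTwelveRecog.Std
import Cfsg.Agent.Lib.MTwelveRecog.Table

/-!
The centraliser of a central involution in the standard group of degree 12 as a table group on `Fin 192`.
-/

set_option autoImplicit false
set_option maxRecDepth 100000

namespace Cfsg.Lib.MTwelveRecog

/-- A byte of a packed list. -/
def byteAt (p i : ℕ) : ℕ := (p >>> (8 * i)) &&& 255

/-- A byte of a packed list as an index. -/
def idxAt (p : ℕ) (i : Fin 192) : Fin 192 := ⟨byteAt p i % 192, Nat.mod_lt _ (by norm_num)⟩

/-- The product of two indices. -/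
def cMul (i j : Fin 192) : Fin 192 := idxAt (Table.row i) j

/-- The inverse of an index. -/
def cInv (i : Fin 192) : Fin 192 := idxAt Table.invN i

/-- The central involution. -/
def cT : Fin 192 := 14

/-- The power of an index. -/
def cPow (i : Fin 192) : ℕ → Fin 192
  | 0 => 0
  | n + 1 => cMul i (cPow i n)

theorem cPow_zero_eq (i : Fin 192) : cPow i 0 = 0 := by rw [cPow]

theorem cPow_succ_eq (i : Fin 192) (n : ℕ) : cPow i (n + 1) = cMul i (cPow i n) := by rw [cPow]

theorem cPow_unfold_eq (i : Fin 192) (n : ℕ) :
    cPow i n = match n with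
      | 0 => 0
      | n + 1 => cMul i (cPow i n) := cPow.eq_def i n

/-- The conjugate of `i` by `h`. -/
def cConj (h i : Fin 192) : Fin 192 := cMul (cMul h i) (cInv h)

/-- The first automorphism. -/
def cAutOne (i : Fin 192) : Fin 192 := idxAt Table.autOneN i

/-- The second automorphism. -/
def cAutTwo (i : Fin 192) : Fin 192 := idxAt Table.autTwoN i

/-- The number of the class of an index. -/
def cCls (i : Fin 192) : ℕ := byteAt Table.clsN i

/-- The representative of the class of an index. -/
def cRep (i : Fin 192) : Fin 192 := ⟨Table.repL.getD (cCls i) 0 % 192, Nat.mod_lt _ (by norm_num)⟩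

/-- The conjugator from the representative. -/
def cWit (i : Fin 192) : Fin 192 := idxAt Table.cwN i

/-- The number of fixed points. -/
def cFix (i : Fin 192) : ℕ :=
  (List.range 12).countP fun p => Nat.beq (pk (Table.perm i) p) p

theorem cMul_table : ∀ i j : Fin 192,
    (List.range 12).all (fun p => Nat.beq (pk (Table.perm i) (pk (Table.perm j) p)) (pk (Table.perm (cMul i j)) p)) = true := by
  decide +kernel

theorem cMul_inv : ∀ i : Fin 192, cMul i (cInv i) = 0 ∧ cMul (cInv i) i = 0 ∧ cMul 0 i = i ∧ cMul i 0 = i := by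
  decide +kernel

theorem perm_inj : ∀ i j : Fin 192, Table.perm i = Table.perm j → i = j := by decide +kernel

theorem perm_lt : ∀ i : Fin 192, ∀ p : Fin 12, pk (Table.perm i) p < 12 := by decide +kernel

theorem perm_pack : ∀ i : Fin 192,
    (List.range 12).foldr (fun p acc => pk (Table.perm i) p + 16 * acc) 0 = Table.perm i := by decide +kernel

theorem perm_zero : ∀ p : Fin 12, pk (Table.perm (0 : Fin 192)) p = p := by decide +kernel

theorem cAut_hom : ∀ i j : Fin 192,
    cAutOne (cMul i j) = cMul (cAutOne i) (cAutOne j) ∧ cAutTwo (cMul i j) = cMul (cAutTwo i) (cAutTwo j) := by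
  decide +kernel

theorem cAut_bij : (∀ i j : Fin 192, cAutOne i = cAutOne j → i = j) ∧
    (∀ i j : Fin 192, cAutTwo i = cAutTwo j → i = j) := by
  decide +kernel

theorem cConj_wit : ∀ i : Fin 192, cConj (cWit i) (cRep i) = i := by decide +kernel

end Cfsg.Lib.MTwelveRecog
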