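import Cfsg.Agent.Lib.MTwelveRecog.Central

/-!
A group with an involution whose centraliser is the table group, and the reduction to it of the
hypothesis that a centraliser is that of a 2-central involution of M12.
-/

set_option autoImplicit false
set_option linter.style.haveILetI false
set_option linter.unusedSectionVars false
set_option maxRecDepth 100000

namespace Cfsg.Lib.MTwelveRecog

open Cfsg

universe u

/-- An involution `t` with centraliser enumerated as the table group. -/
structure Setup (G : Type u) [Group G] where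
  /-- the involution -/
  t : G
  /-- the elements of the centraliser -/
  f : Fin 192 → G
  inj : Function.Injective f
  fmul : ∀ i j, f (cMul i j) = f i * f j
  f_t : f cT = t
  mem_iff : ∀ g : G, g * t = t * g ↔ ∃ i, f i = g

namespace Setup

variable {G : Type u} [Group G] (S : Setup G)

theorem fone : S.f 0 = 1 := by
  have h := S.fmul 0 0
  rw [(cMul_inv 0).2.2.1] at h
  exact left_eq_mul.1 h

theorem finv (i : Fin 192) : S.f (cInv i) = (S.f i)⁻¹ :=
  eq_inv_of_mul_eq_one_left (by rw [← S.fmul, (cMul_inv i).2.1, S.fone])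

theorem fconj (h i : Fin 192) : S.f (cConj h i) = S.f h * S.f i * (S.f h)⁻¹ := by
  rw [cConj, S.fmul, S.fmul, S.finv]

theorem comm_t (i : Fin 192) : S.f i * S.t = S.t * S.f i := (S.mem_iff _).2 ⟨i, rfl⟩

theorem isConj_rep (i : Fin 192) : IsConj (S.f (cRep i)) (S.f i) :=
  isConj_iff.2 ⟨S.f (cWit i), by rw [← S.fconj, cConj_wit]⟩

theorem t_ne_one : S.t ≠ 1 := fun h => by
  rw [← S.f_t, ← S.fone] at h
  exact absurd (S.inj h) (by decide)

theorem t_sq : S.t * S.t = 1 := by
  rw [← S.f_t, ← S.fmul, ← S.fone]; exact congrArg S.f (by decide +kernel)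

/-- Composition with an automorphism of the table. -/
def precomp (α : Fin 192 → Fin 192) (hi : Function.Injective α)
    (hm : ∀ i j, α (cMul i j) = cMul (α i) (α j)) (ht : α cT = cT) : Setup G where
  t := S.t
  f := S.f ∘ α
  inj := S.inj.comp hi
  fmul i j := by simp only [Function.comp_apply, hm, S.fmul]
  f_t := by simp only [Function.comp_apply, ht, S.f_t]
  mem_iff g := (S.mem_iff g).trans
    ⟨fun ⟨i, hi'⟩ => by
        obtain ⟨j, rfl⟩ := (Finite.injective_iff_surjective.1 hi) i
        exact ⟨j, hi'⟩,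
      fun ⟨i, hi'⟩ => ⟨α i, hi'⟩⟩

end Setup

/-- The indices of a Sylow 2-subgroup of the table group. -/
def inSyl (i : Fin 192) : Bool :=
  Nat.testBit 1446679665481494516024154474780627244928634839718744088601 i

theorem inSyl_facts : inSyl 0 = true ∧ inSyl cT = true ∧
    (∀ i j : Fin 192, inSyl i = true → inSyl j = true → inSyl (cMul i j) = true) ∧
    (∀ i : Fin 192, inSyl i = true → inSyl (cInv i) = true) ∧
    ((List.finRange 192).filter inSyl).length = 64 ∧
    (∀ i : Fin 192, inSyl i = true →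
      (∀ j : Fin 192, inSyl j = true → cMul i j = cMul j i) → i = 0 ∨ i = cT) := by
  decide +kernel

/-- The Sylow subgroup in the standard group. -/
def sylStd : Subgroup stdTwelve where
  carrier := {g | ∃ i, inSyl i = true ∧ el i = (g : Equiv.Perm (Fin 12))}
  one_mem' := ⟨0, inSyl_facts.1, el_zero⟩
  mul_mem' := by
    rintro _ _ ⟨i, hi, ei⟩ ⟨j, hj, ej⟩
    exact ⟨cMul i j, inSyl_facts.2.2.1 i j hi hj, by rw [el_mul, ei, ej]; rfl⟩
  inv_mem' := by
    rintro _ ⟨i, hi, ei⟩
    exact ⟨cInv i, inSyl_facts.2.2.2.1 i hi, by rw [el_inv, ei]; rfl⟩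

theorem card_sylStd : Nat.card sylStd = 64 := by
  let I := {i : Fin 192 // inSyl i = true}
  let F : I → sylStd := fun i => ⟨⟨el i.1, el_mem i.1⟩, i.1, i.2, rfl⟩
  have hF : Function.Bijective F := by
    refine ⟨fun i j h => Subtype.ext (el_injective (congrArg (fun s : sylStd => ((s : stdTwelve) :
      Equiv.Perm (Fin 12))) h)), ?_⟩
    rintro ⟨⟨g, hg⟩, i, hi, e⟩
    exact ⟨⟨i, hi⟩, Subtype.ext (Subtype.ext e)⟩
  rw [← Nat.card_eq_of_bijective F hF, Nat.card_eq_fintype_card, Fintype.card_subtype,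
    ← inSyl_facts.2.2.2.2.1]
  rfl

/-- A 2-central involution of the standard group is conjugate to the standard one. -/
theorem exists_conj_tStd {v : stdTwelve} (hv : IsTwoCentralInvolution v) :
    ∃ g : stdTwelve, ((g * v * g⁻¹ : stdTwelve) : Equiv.Perm (Fin 12)) = tStd := by
  haveI : Fact (Nat.Prime 2) := ⟨Nat.prime_two⟩
  obtain ⟨hv2, P, hvP, hvc⟩ := hv
  have h64 : Nat.card sylStd = 2 ^ (Nat.card stdTwelve).factorization 2 := by
    rw [card_sylStd, card_stdTwelve, show (95040 : ℕ) = 2 ^ 6 * 1485 by norm_num,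
      Nat.factorization_mul (by norm_num) (by norm_num), Finsupp.add_apply,
      Nat.Prime.factorization_pow Nat.prime_two, Finsupp.single_eq_same,
      Nat.factorization_eq_zero_of_not_dvd (by norm_num : ¬ 2 ∣ 1485)]
    norm_num
  set Q : Sylow 2 stdTwelve := Sylow.ofCard sylStd h64 with hQ
  obtain ⟨g, hg⟩ := MulAction.exists_smul_eq stdTwelve P Q
  have hmem : ∀ p, p ∈ (P : Subgroup stdTwelve) → g * p * g⁻¹ ∈ sylStd := by
    intro p hp
    have : g * p * g⁻¹ ∈ (Q : Subgroup stdTwelve) := by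
      rw [← hg, Sylow.coe_subgroup_smul, Subgroup.mem_smul_pointwise_iff_exists]
      exact ⟨p, hp, rfl⟩
    exact this
  obtain ⟨i, hi, hie⟩ := hmem v hvP
  refine ⟨g, ?_⟩
  have hcent : ∀ j, inSyl j = true → cMul i j = cMul j i := fun j hj => el_injective (by
      have hQj : (⟨el j, el_mem j⟩ : stdTwelve) ∈ (Q : Subgroup stdTwelve) := ⟨j, hj, rfl⟩
      rw [← hg, Sylow.coe_subgroup_smul, Subgroup.mem_smul_pointwise_iff_exists] at hQj
      obtain ⟨p, hp, hpe⟩ := hQj
      have hpe' : g * p * g⁻¹ = (⟨el j, el_mem j⟩ : stdTwelve) := hpe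
      rw [el_mul, el_mul, hie, show el j = ((g * p * g⁻¹ : stdTwelve) : Equiv.Perm (Fin 12)) by rw [hpe'],
        ← Subgroup.coe_mul, ← Subgroup.coe_mul]
      congr 1
      calc g * v * g⁻¹ * (g * p * g⁻¹) = g * (v * p) * g⁻¹ := by group
        _ = g * (p * v) * g⁻¹ := by rw [hvc p hp]
        _ = g * p * g⁻¹ * (g * v * g⁻¹) := by group)
  rcases inSyl_facts.2.2.2.2.2 i hi hcent with h | h
  · exfalso
    rw [h, el_zero] at hie
    have h1 : g * v * g⁻¹ = 1 := Subtype.ext hie.symm
    rw [conj_eq_one_iff.1 h1, orderOf_one] at hv2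
    norm_num at hv2
  · rw [← hie, h]; rfl

variable {G : Type u} [Group G]

/-- The setup from an isomorphism with the centraliser of a 2-central involution of M12. -/
theorem nonempty_setup {u : Spor.M12} (hu : IsTwoCentralInvolution u) {t : G} (ht : orderOf t = 2)
    (e : Subgroup.centralizer ({t} : Set G) ≃* Subgroup.centralizer ({u} : Set Spor.M12)) :
    ∃ S : Setup G, S.t = t := by
  classical
  obtain ⟨ι⟩ := nonempty_sporM12_std
  have hv : IsTwoCentralInvolution (ι u) := by
    obtain ⟨h2, P, hP, hc⟩ := hu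
    refine ⟨by rw [MulEquiv.orderOf_eq]; exact h2, P.mapSurjective (f := ι.toMonoidHom) ι.surjective, ?_, ?_⟩
    · exact ⟨u, hP, rfl⟩
    · rintro _ ⟨x, hx, rfl⟩
      show ι x * ι u = ι u * ι x
      rw [← map_mul, hc x hx, map_mul]
  obtain ⟨g, hg⟩ := exists_conj_tStd hv
  set ψ : Spor.M12 ≃* stdTwelve := ι.trans (MulAut.conj g) with hψ
  have hψu : ((ψ u : stdTwelve) : Equiv.Perm (Fin 12)) = tStd := hg
  have hmem : ∀ i, ψ.symm ⟨el i, el_mem i⟩ ∈ Subgroup.centralizer ({u} : Set Spor.M12) := fun i => by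
    rw [Subgroup.mem_centralizer_singleton_iff]
    refine ψ.injective (Subtype.ext ?_)
    simp only [map_mul, MulEquiv.apply_symm_apply, Subgroup.coe_mul, hψu]
    exact comm_tStd i
  let F : Fin 192 → G := fun i => ((e.symm ⟨ψ.symm ⟨el i, el_mem i⟩, hmem i⟩ :
    Subgroup.centralizer ({t} : Set G)) : G)
  have hFm : ∀ i j, F (cMul i j) = F i * F j := fun i j => by
    simp only [F]
    rw [← Subgroup.coe_mul, ← map_mul]
    refine congrArg Subtype.val (congrArg e.symm (Subtype.ext ?_))
    simp only [Subgroup.coe_mul, ← map_mul]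
    exact congrArg ψ.symm (Subtype.ext (el_mul i j))
  have hFi : Function.Injective F := fun i j h => by
    have h1 := congrArg Subtype.val (ψ.symm.injective (congrArg Subtype.val
      (e.symm.injective (Subtype.ext h))))
    exact el_injective h1
  have hall : ∀ x : G, x * t = t * x → ∃ i, F i = x := by
    intro x hx
    set y := e ⟨x, Subgroup.mem_centralizer_singleton_iff.2 hx⟩ with hy
    have hyu := Subgroup.mem_centralizer_singleton_iff.1 y.2
    have hc : ((ψ y.1 : stdTwelve) : Equiv.Perm (Fin 12)) * tStd = tStd * (ψ y.1 : stdTwelve) := by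
      rw [← hψu, ← Subgroup.coe_mul, ← map_mul, hyu, map_mul]; rfl
    obtain ⟨i, hi⟩ := exists_el_of_comm (ψ y.1).2 hc
    refine ⟨i, ?_⟩
    show ((e.symm _ : Subgroup.centralizer ({t} : Set G)) : G) = x
    rw [show (⟨ψ.symm ⟨el i, el_mem i⟩, hmem i⟩ : Subgroup.centralizer ({u} : Set Spor.M12)) = y from
      Subtype.ext (show ψ.symm ⟨el i, el_mem i⟩ = y.1 by rw [MulEquiv.symm_apply_eq]; exact Subtype.ext hi),
      hy, MulEquiv.symm_apply_apply]
  have hFt : F cT = t := by
    obtain ⟨k, hk⟩ := hall t rfl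
    have hF0 : F 0 = 1 := by
      have h := hFm 0 0
      rw [(cMul_inv 0).2.2.1] at h
      exact left_eq_mul.1 h
    rcases (cT_central k).2 fun j => hFi (by
      rw [hFm, hFm, hk]
      exact (Subgroup.mem_centralizer_singleton_iff.1
        (e.symm ⟨ψ.symm ⟨el j, el_mem j⟩, hmem j⟩).2).symm) with h | h
    · exfalso
      rw [h, hF0] at hk
      rw [← hk, orderOf_one] at ht
      norm_num at ht
    · rw [← h, hk]
  refine ⟨⟨t, F, hFi, hFm, hFt, fun x => ⟨hall x, ?_⟩⟩, rfl⟩
  rintro ⟨i, rfl⟩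
  exact Subgroup.mem_centralizer_singleton_iff.1 (e.symm _).2

end Cfsg.Lib.MTwelveRecog
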