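import Cfsg.Agent.Lib.MTwelveRecog.Model
import Mathlib.GroupTheory.Sylow

/-!
The table group as permutations of twelve points inside the standard group.
-/

set_option autoImplicit false
set_option maxRecDepth 100000

namespace Cfsg.Lib.MTwelveRecog

/-- An index as a map of the points. -/
def elFun (i : Fin 192) (p : Fin 12) : Fin 12 := ⟨pk (Table.perm i) p % 12, Nat.mod_lt _ (by norm_num)⟩

theorem elFun_val (i : Fin 192) (p : Fin 12) : (elFun i p : ℕ) = pk (Table.perm i) p :=
  Nat.mod_eq_of_lt (perm_lt i p)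

theorem elFun_mul (i j : Fin 192) (p : Fin 12) : elFun (cMul i j) p = elFun i (elFun j p) := by
  apply Fin.ext
  rw [elFun_val, elFun_val, elFun_val]
  have h := List.all_eq_true.1 (cMul_table i j) p.val (List.mem_range.2 p.2)
  exact (Nat.eq_of_beq_eq_true h).symm

theorem elFun_zero (p : Fin 12) : elFun 0 p = p := Fin.ext (by rw [elFun_val]; exact perm_zero p)

/-- An index as a permutation. -/
def el (i : Fin 192) : Equiv.Perm (Fin 12) where
  toFun := elFun i
  invFun := elFun (cInv i)
  left_inv p := by rw [← elFun_mul, (cMul_inv i).2.1, elFun_zero]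
  right_inv p := by rw [← elFun_mul, (cMul_inv i).1, elFun_zero]

theorem el_mul (i j : Fin 192) : el (cMul i j) = el i * el j := Equiv.ext fun p => elFun_mul i j p

theorem el_zero : el 0 = 1 := Equiv.ext elFun_zero

theorem el_injective : Function.Injective el := fun i j h => by
  refine perm_inj i j ?_
  rw [← perm_pack i, ← perm_pack j]
  have hp : ∀ p ∈ List.range 12, pk (Table.perm i) p = pk (Table.perm j) p := fun p hp => by
    have := congrArg (fun σ : Equiv.Perm (Fin 12) => (σ ⟨p, List.mem_range.1 hp⟩).val) h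
    simpa [el, elFun_val] using this
  exact List.foldr_ext _ _ _ fun p hp' acc => by simp only [hp p hp']

theorem el_inv (i : Fin 192) : el (cInv i) = (el i)⁻¹ :=
  eq_inv_of_mul_eq_one_left (by rw [← el_mul, (cMul_inv i).2.1, el_zero])

/-- The words of the two generators in the standard generators. -/
def genWord : ℕ → List (Fin 4)
  | 1 => [2, 0, 2, 2, 1, 0, 0, 2, 3]
  | 2 => [3, 0, 0, 2, 2, 0, 1, 1, 0]
  | _ => []

/-- The standard generators. -/
def stdGen : Fin 4 → Equiv.Perm (Fin 12) := ![shE, muE, twE, sw0]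

theorem stdGen_mem (k : Fin 4) : stdGen k ∈ stdTwelve := by
  refine Subgroup.subset_closure ?_
  fin_cases k <;> simp [stdGen]

theorem el_gen : ∀ i : Fin 192, ∀ p : Fin 12, i = 0 ∨
    byteAt Table.parPrevN i < i ∧
      (((genWord (byteAt Table.parGenN i)).map stdGen).prod * el ⟨byteAt Table.parPrevN i % 192, Nat.mod_lt _ (by norm_num)⟩) p =
        el i p := by
  decide +kernel

theorem el_mem (i : Fin 192) : el i ∈ stdTwelve := by
  obtain ⟨n, hn⟩ := i
  induction n using Nat.strong_induction_on with
  | _ n ih =>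
    by_cases h0 : (⟨n, hn⟩ : Fin 192) = 0
    · rw [h0, el_zero]; exact one_mem _
    · have h := fun p => (el_gen ⟨n, hn⟩ p).resolve_left h0
      rw [← Equiv.ext fun p => (h p).2]
      refine mul_mem (Subgroup.list_prod_mem _ fun q hq => ?_) (ih _ ?_ _)
      · obtain ⟨k, -, rfl⟩ := List.mem_map.1 hq
        exact stdGen_mem k
      · exact lt_of_le_of_lt (Nat.mod_le _ _) (h 0).1

/-- The central involution as a permutation. -/
def tStd : Equiv.Perm (Fin 12) := el cT

theorem cT_central : ∀ i : Fin 192, cMul i cT = cMul cT i ∧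
    ((∀ j : Fin 192, cMul i j = cMul j i) → i = 0 ∨ i = cT) := by
  decide +kernel

/-- The table group. -/
def cGrp : Subgroup (Equiv.Perm (Fin 12)) where
  carrier := Set.range el
  one_mem' := ⟨0, el_zero⟩
  mul_mem' := by rintro _ _ ⟨i, rfl⟩ ⟨j, rfl⟩; exact ⟨cMul i j, el_mul i j⟩
  inv_mem' := by rintro _ ⟨i, rfl⟩; exact ⟨cInv i, el_inv i⟩

theorem card_cGrp : Nat.card cGrp = 192 :=
  (Nat.card_range_of_injective el_injective).trans (Nat.card_fin 192)

end Cfsg.Lib.MTwelveRecog
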