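import Cfsg.Agent.Lib.MTwelveRecog.Ident
import Cfsg.Agent.Lib.MTwelveRecog.Model2
import Cfsg.Agent.Lib.Concrete.SporMathieu
import Cfsg.Agent.Lib.MEleven.Fusion

/-!
The standard group of degree 12 is M12, the table group is the centraliser of an involution in it, and
every 2-central involution of M12 has this centraliser.
-/

set_option autoImplicit false
set_option linter.style.haveILetI false
set_option linter.unusedSectionVars false
set_option maxRecDepth 100000

namespace Cfsg.Lib.MTwelveRecog

open Cfsg Cfsg.Lib.MEleven Cfsg.Lib.Concrete MulAction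
open scoped Pointwise

theorem sporM11_le_twelve : Spor.M11 ≤ Spor.M12 := inf_le_left

theorem index_sporM11 : (Spor.M11.subgroupOf Spor.M12).index = 12 := by
  have h1 := (Spor.M11.subgroupOf Spor.M12).index_mul_card
  rw [Nat.card_congr (Subgroup.subgroupOfEquivOfLe sporM11_le_twelve).toEquiv,
    card_sporM11, card_sporM12] at h1
  omega

theorem isM11_subgroupOf : IsM11 ↥(Spor.M11.subgroupOf Spor.M12) :=
  have e := Subgroup.subgroupOfEquivOfLe sporM11_le_twelve
  have := isSimple_sporM11
  ⟨e.isSimpleGroup_congr.2 this, by rw [Nat.card_congr e.toEquiv, card_sporM11]⟩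

theorem nonempty_sporM12_std : Nonempty (Spor.M12 ≃* stdTwelve) := by
  haveI := isSimple_sporM12
  haveI : Finite Spor.M12 := Finite.of_injective Subtype.val Subtype.val_injective
  exact exists_equiv_std card_sporM12 index_sporM11 isM11_subgroupOf

theorem card_stdTwelve : Nat.card stdTwelve = 95040 := by
  obtain ⟨e⟩ := nonempty_sporM12_std
  rw [← Nat.card_congr e.toEquiv, card_sporM12]

theorem isM11_stdGroup : IsM11 stdGroup := by
  haveI : Fintype Spor.M11 := Fintype.ofFinite _
  obtain ⟨e⟩ := nonempty_mulEquiv_std isM11_spor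
  have := isSimple_sporM11
  exact ⟨e.isSimpleGroup_congr.1 this, by rw [← Nat.card_congr e.toEquiv, card_sporM11]⟩

theorem extPerm_injective : Function.Injective extPerm := by
  intro p q h
  refine Equiv.ext fun i => ?_
  have := congrArg (fun σ : Equiv.Perm (Fin 12) => σ (Fin.castSucc (n := 11) i)) h
  simp only [extPerm_castSucc] at this
  exact Fin.castSucc_injective 11 this

/-- The point stabiliser of the standard group. -/
theorem mem_ext_of_fix {g : Equiv.Perm (Fin 12)} (hg : g ∈ stdTwelve)
    (hfix : g (Fin.last 11) = Fin.last 11) : g ∈ stdGroup.map extPerm := by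
  classical
  haveI : Fintype stdTwelve := Fintype.ofFinite _
  set K := stabilizer stdTwelve (Fin.last 11) with hK
  have horb : orbit stdTwelve (Fin.last 11) = Set.univ := by
    refine Set.eq_univ_of_forall fun s => ?_
    obtain ⟨q, hq, e⟩ := exists_mem_last s
    exact ⟨⟨q, hq⟩, e⟩
  have hcard : Nat.card K = 7920 := by
    have h := K.index_mul_card
    rw [hK, index_stabilizer, horb, Set.ncard_univ, Nat.card_fin, card_stdTwelve] at h
    rw [hK]; omega
  set L := (stdGroup.map extPerm).subgroupOf stdTwelve with hL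
  have hLle : stdGroup.map extPerm ≤ stdTwelve := by
    rintro _ ⟨q, hq, rfl⟩
    exact extPerm_mem hq
  have hLcard : Nat.card L = 7920 := by
    rw [hL, Nat.card_congr (Subgroup.subgroupOfEquivOfLe hLle).toEquiv,
      Subgroup.card_map_of_injective extPerm_injective, isM11_stdGroup.2]
  have hLK : L ≤ K := by
    rintro ⟨p, hp⟩ hpL
    obtain ⟨q, -, rfl⟩ := Subgroup.mem_subgroupOf.1 hpL
    exact extPerm_last q
  have heq := Subgroup.eq_of_le_of_card_ge hLK (by rw [hLcard, hcard])
  have hm : (⟨g, hg⟩ : stdTwelve) ∈ L := heq.symm ▸ hfix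
  exact Subgroup.mem_subgroupOf.1 hm

theorem tStd_fix : ∀ q : Fin 12, elFun cT q = q → ∃ j : Fin 192, elFun j (Fin.last 11) = q := by
  decide +kernel

theorem tStd_last : elFun cT (Fin.last 11) = Fin.last 11 := by decide +kernel

theorem card_fix_last :
    ((List.finRange 192).filter fun i => decide (elFun i (Fin.last 11) = Fin.last 11)).length = 48 := by
  decide +kernel

theorem tStd_ne_one : tStd ≠ 1 := fun h => absurd (el_injective (h.trans el_zero.symm)) (by decide)

theorem tStd_sq : tStd * tStd = 1 := by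
  rw [tStd, ← el_mul, ← el_zero]; exact congrArg el (by decide +kernel)

theorem comm_tStd (i : Fin 192) : el i * tStd = tStd * el i := by
  rw [tStd, ← el_mul, ← el_mul, (cT_central i).1]

/-- The centraliser of the involution. -/
theorem exists_el_of_comm {g : Equiv.Perm (Fin 12)} (hg : g ∈ stdTwelve) (hc : g * tStd = tStd * g) :
    ∃ i, el i = g := by
  classical
  haveI : Fintype stdGroup := Fintype.ofFinite _
  haveI : Fact (Nat.Prime 2) := ⟨by norm_num⟩
  haveI : Fact (Nat.Prime 3) := ⟨by norm_num⟩
  haveI : Fact (Nat.Prime 5) := ⟨by norm_num⟩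
  haveI : Fact (Nat.Prime 11) := ⟨by norm_num⟩
  obtain ⟨j, hj⟩ := tStd_fix (g (Fin.last 11)) (by
    show tStd (g (Fin.last 11)) = g (Fin.last 11)
    rw [← Equiv.Perm.mul_apply, ← hc, Equiv.Perm.mul_apply]
    exact congrArg g tStd_last)
  set h := (el j)⁻¹ * g with hh
  have hhfix : h (Fin.last 11) = Fin.last 11 := by
    rw [hh, Equiv.Perm.mul_apply, ← hj, Equiv.Perm.inv_def]
    exact Equiv.symm_apply_apply _ _
  obtain ⟨q, hq, hqh⟩ := mem_ext_of_fix (mul_mem (inv_mem (el_mem j)) hg) hhfix
  obtain ⟨a, ha, hat⟩ := mem_ext_of_fix (el_mem cT) tStd_last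
  have hcomm : q * a = a * q := extPerm_injective (by
    rw [map_mul, map_mul, hqh, hat]
    show h * tStd = tStd * h
    rw [hh, mul_assoc, hc, ← mul_assoc, ← mul_assoc]
    congr 1
    rw [← el_inv, comm_tStd])
  set C := Subgroup.centralizer ({(⟨a, ha⟩ : stdGroup)} : Set stdGroup) with hC
  have hord : orderOf (⟨a, ha⟩ : stdGroup) = 2 := by
    refine orderOf_eq_prime ?_ fun h1 => ?_
    · rw [sq]
      refine Subtype.ext (extPerm_injective ?_)
      show extPerm (a * a) = extPerm 1
      rw [map_mul, hat, map_one]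
      exact tStd_sq
    · have := congrArg (fun s : stdGroup => extPerm (s : Equiv.Perm (ZMod 11))) h1
      simp only [hat, OneMemClass.coe_one, map_one] at this
      exact tStd_ne_one this
  have hC48 : Nat.card C = 48 := card_centralizer_involution isM11_stdGroup hord
  let I := {i : Fin 192 // elFun i (Fin.last 11) = Fin.last 11}
  have hI : ∀ i : I, ∃ b : C, extPerm ((b : stdGroup) : Equiv.Perm (ZMod 11)) = el i.1 := by
    intro i
    obtain ⟨b, hb, hbe⟩ := mem_ext_of_fix (el_mem i.1) i.2
    refine ⟨⟨⟨b, hb⟩, Subgroup.mem_centralizer_singleton_iff.2 (Subtype.ext (extPerm_injective ?_))⟩, hbe⟩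
    show extPerm (b * a) = extPerm (a * b)
    rw [map_mul, map_mul, hbe, hat]
    exact comm_tStd i.1
  choose F hF using hI
  have hFinj : Function.Injective F := fun i i' e =>
    Subtype.ext (el_injective (by rw [← hF, ← hF, e]))
  have hcardI : Nat.card I = 48 := by
    rw [Nat.card_eq_fintype_card, Fintype.card_subtype, ← card_fix_last]
    rfl
  have hbij : Function.Bijective F :=
    (Nat.bijective_iff_injective_and_card F).2 ⟨hFinj, by rw [hcardI, hC48]⟩
  obtain ⟨i, hi⟩ := hbij.2 ⟨⟨q, hq⟩, Subgroup.mem_centralizer_singleton_iff.2 (Subtype.ext hcomm)⟩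
  refine ⟨cMul j i.1, ?_⟩
  rw [el_mul, ← hF, hi]
  show el j * extPerm q = g
  rw [hqh]
  exact mul_inv_cancel_left _ _

end Cfsg.Lib.MTwelveRecog
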