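import Cfsg.Agent.Lib.MTwelveRecog.Std
import Cfsg.Agent.Lib.MEleven.Spor
import Cfsg.Agent.Lib.Small.SimpleOrder

/-!
A simple group of order 95040 with a subgroup of index 12 isomorphic to M11 is the standard group of
degree 12.
-/

set_option autoImplicit false
set_option linter.style.haveILetI false
set_option linter.unusedSectionVars false
set_option maxHeartbeats 800000

namespace Cfsg.Lib.MTwelveRecog

open Cfsg Cfsg.Lib.MEleven

universe u

variable {G : Type u} [Group G] [Finite G] [IsSimpleGroup G]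

/-- The action on the cosets of the subgroup in coordinates: the subgroup is the standard point
stabiliser. -/
theorem exists_coord (hG : Nat.card G = 95040) {K : Subgroup G} (hK : K.index = 12)
    (hM : IsM11 K) : ∃ φ : G →* Equiv.Perm (Fin 12), Function.Injective φ ∧
      (∀ s : Fin 12, ∃ g : G, φ g (Fin.last 11) = s) ∧
      (∀ g : G, φ g (Fin.last 11) = Fin.last 11 ↔ g ∈ K) ∧
      (∀ k ∈ K, ∃ q ∈ stdGroup, φ k = extPerm q) ∧ (∀ q ∈ stdGroup, ∃ k ∈ K, φ k = extPerm q) := by
  classical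
  haveI : Fintype G := Fintype.ofFinite G
  haveI : Fintype K := Fintype.ofFinite K
  haveI : Fact (Nat.Prime 2) := ⟨by norm_num⟩
  haveI : Fact (Nat.Prime 3) := ⟨by norm_num⟩
  haveI : Fact (Nat.Prime 5) := ⟨by norm_num⟩
  haveI : Fact (Nat.Prime 11) := ⟨by norm_num⟩
  haveI : Fintype (G ⧸ K) := Fintype.ofFinite _
  have h12 : Nat.card (G ⧸ K) = 12 := hK
  have hfaith : ∀ g : G, (∀ q : G ⧸ K, g • q = q) → g = 1 := by
    intro g hg
    have hmem : g ∈ K.normalCore := by
      rw [Subgroup.normalCore_eq_ker]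
      exact Equiv.ext hg
    rcases K.normalCore_normal.eq_bot_or_eq_top with h | h
    · rwa [h, Subgroup.mem_bot] at hmem
    · exfalso
      have hle : (⊤ : Subgroup G) ≤ K := h ▸ K.normalCore_le
      rw [top_le_iff.1 hle, Subgroup.index_top] at hK
      norm_num at hK
  set o : G ⧸ K := ((1 : G) : G ⧸ K) with ho
  have hstab : ∀ g : G, g • o = o ↔ g ∈ K := by
    intro g
    rw [ho, MulAction.Quotient.smul_coe, smul_eq_mul, mul_one, eq_comm, QuotientGroup.eq, inv_one, one_mul]
  -- an element of order 11 in `K`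
  obtain ⟨⟨x, hxK⟩, hx⟩ := exists_prime_orderOf_dvd_card' (G := K) 11 (by rw [hM.2]; norm_num)
  rw [Subgroup.orderOf_mk] at hx
  have hp11 : IsPGroup 11 (Subgroup.zpowers x) :=
    IsPGroup.of_card (n := 1) (by rw [Nat.card_zpowers, hx]; norm_num)
  -- `x` moves every other point
  have hxfix : ∀ q : G ⧸ K, x • q = q → q = o := by
    intro q hq
    by_contra hne
    have hmem : ∀ q : G ⧸ K, x • q = q → q ∈ MulAction.fixedPoints (Subgroup.zpowers x) (G ⧸ K) := by
      rintro q hq ⟨y, hy⟩
      obtain ⟨i, rfl⟩ := Subgroup.mem_zpowers_iff.1 hy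
      show x ^ i • q = q
      have : x ∈ MulAction.stabilizer G q := hq
      exact (MulAction.stabilizer G q).zpow_mem this i
    have hmod := hp11.card_modEq_card_fixedPoints (G ⧸ K)
    rw [h12] at hmod
    have hle : Nat.card (MulAction.fixedPoints (Subgroup.zpowers x) (G ⧸ K)) ≤ 12 := by
      rw [← h12]; exact Nat.card_le_card_of_injective _ Subtype.val_injective
    have h2 : 1 < Nat.card (MulAction.fixedPoints (Subgroup.zpowers x) (G ⧸ K)) :=
      Finite.one_lt_card_iff_nontrivial.2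
        ⟨⟨⟨o, hmem o ((hstab x).2 hxK)⟩, ⟨q, hmem q hq⟩, fun h => hne (congrArg Subtype.val h).symm⟩⟩
    have hall : Nat.card (MulAction.fixedPoints (Subgroup.zpowers x) (G ⧸ K)) = 12 := by
      rw [Nat.ModEq] at hmod; omega
    have hbij : Function.Bijective
        (Subtype.val : MulAction.fixedPoints (Subgroup.zpowers x) (G ⧸ K) → G ⧸ K) :=
      (Nat.bijective_iff_injective_and_card _).2 ⟨Subtype.val_injective, by rw [hall, h12]⟩
    have : x = 1 := hfaith x fun r => by
      obtain ⟨⟨r', hr'⟩, rfl⟩ := hbij.2 r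
      exact hr' ⟨x, Subgroup.mem_zpowers x⟩
    rw [this, orderOf_one] at hx
    norm_num at hx
  -- a second point
  obtain ⟨p, hp⟩ : ∃ p : G ⧸ K, p ≠ o := by
    haveI : Nontrivial (G ⧸ K) := Finite.one_lt_card_iff_nontrivial.1 (by rw [h12]; norm_num)
    exact exists_ne o
  set H : Subgroup K := MulAction.stabilizer K p with hH
  have hKo : ∀ k : K, (k : G) • p ≠ o := fun k hk => hp (by
    have h := congrArg (fun r => ((k⁻¹ : K) : G) • r) hk
    simp only [InvMemClass.coe_inv, inv_smul_smul] at h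
    rw [h]; exact (hstab _).2 (inv_mem k.2))
  let orb : K ⧸ H → {r : G ⧸ K // r ≠ o} := fun c =>
    ⟨MulAction.ofQuotientStabilizer K p c, by
      induction c using QuotientGroup.induction_on with
      | H k => exact hKo k⟩
  have horb : Function.Injective orb := fun c d h =>
    MulAction.injective_ofQuotientStabilizer K p (congrArg Subtype.val h)
  have h11 : Nat.card {r : G ⧸ K // r ≠ o} = 11 := by
    have := Nat.card_congr (Equiv.optionSubtypeNe o)
    rw [Finite.card_option, h12] at this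
    omega
  have hindex : H.index = 11 := by
    refine le_antisymm (h11 ▸ Nat.card_le_card_of_injective orb horb) ?_
    have hinj : Function.Injective fun i : Fin 11 => (((⟨x, hxK⟩ : K) ^ (i : ℕ) : K) : K ⧸ H) := by
      intro i j hij
      have hx' := QuotientGroup.eq.1 hij
      rw [hH, MulAction.mem_stabilizer_iff] at hx'
      by_contra hne
      have hpow : ∀ a b : ℕ, a < b → b < 11 → x ^ a • p ≠ x ^ b • p := by
        intro a b hab hb h
        have h1 : x ^ (b - a) • p = p := by
          have := congrArg (fun r => (x ^ a)⁻¹ • r) h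
          simp only [inv_smul_smul, ← mul_smul] at this
          rw [show x ^ b = x ^ a * x ^ (b - a) by rw [← pow_add, Nat.add_sub_cancel' hab.le],
            inv_mul_cancel_left, inv_mul_cancel, one_smul] at this
          exact this.symm
        obtain ⟨m, hm⟩ : ∃ m, (x ^ (b - a)) ^ m = x :=
          exists_pow_eq_self_of_coprime (by
            rw [hx]
            exact Nat.coprime_comm.1 ((Nat.Prime.coprime_iff_not_dvd (by norm_num)).2
              (fun hd => by have := Nat.le_of_dvd (by omega) hd; omega)))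
        refine hp (hxfix p ?_)
        have : x ^ (b - a) ∈ MulAction.stabilizer G p := h1
        have := (MulAction.stabilizer G p).pow_mem this m
        rwa [hm] at this
      have he : x ^ (i : ℕ) • p = x ^ (j : ℕ) • p := by
        have : ((x ^ (i : ℕ))⁻¹ * x ^ (j : ℕ)) • p = p := hx'
        rw [mul_smul, inv_smul_eq_iff] at this
        exact this.symm
      rcases lt_or_gt_of_ne (fun h => hne (Fin.ext h)) with h | h
      · exact hpow _ _ h j.2 he
      · exact hpow _ _ h i.2 he.symm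
    simpa [Subgroup.index] using Nat.card_le_card_of_injective _ hinj
  obtain ⟨ψ, b, hψi, hψr, hψb⟩ := exists_model_action hM H hindex
  have horbij : Function.Bijective orb :=
    (Nat.bijective_iff_injective_and_card _).2 ⟨horb, by rw [h11]; exact hindex⟩
  let c : {r : G ⧸ K // r ≠ o} ≃ ZMod 11 := (Equiv.ofBijective orb horbij).symm.trans b
  let F : G ⧸ K → Fin 12 := fun r => if h : r = o then Fin.last 11 else Fin.castSucc (n := 11) (c ⟨r, h⟩)
  have hFo : F o = Fin.last 11 := dif_pos rfl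
  have hFinj : Function.Injective F := by
    intro r s h
    simp only [F] at h
    split_ifs at h with h1 h2 h2
    · rw [h1, h2]
    · exact absurd h.symm (Fin.ne_of_lt (Fin.castSucc_lt_last (n := 11) _))
    · exact absurd h (Fin.ne_of_lt (Fin.castSucc_lt_last (n := 11) _))
    · exact congrArg Subtype.val (c.injective (Fin.castSucc_injective 11 h))
  let β : (G ⧸ K) ≃ Fin 12 := Equiv.ofBijective F ((Nat.bijective_iff_injective_and_card _).2
    ⟨hFinj, by rw [h12, Nat.card_fin]⟩)
  let φ : G →* Equiv.Perm (Fin 12) := β.permCongrHom.toMonoidHom.comp (MulAction.toPermHom G (G ⧸ K))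
  have hφ : ∀ (g : G) (r : G ⧸ K), φ g (F r) = F (g • r) := by
    intro g r
    show β (g • β.symm (β r)) = _
    rw [Equiv.symm_apply_apply]; rfl
  have hφK : ∀ k : K, φ k = extPerm (ψ k) := by
    intro k
    refine Equiv.ext fun i => ?_
    obtain ⟨r, rfl⟩ := β.surjective i
    show φ k (F r) = extPerm (ψ k) (F r)
    rw [hφ]
    by_cases hr : r = o
    · rw [hr, (hstab _).2 k.2, hFo, extPerm_last]
    · obtain ⟨d, hd⟩ := horbij.2 ⟨r, hr⟩
      have hb : ∀ (d : K ⧸ H), F (orb d : G ⧸ K) = Fin.castSucc (n := 11) (b d) := fun d => by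
        simp only [F]
        rw [dif_neg (orb d).2]
        refine congrArg _ (congrArg b ?_)
        rw [Equiv.symm_apply_eq]
        rfl
      have e : (k : G) • r = (orb (k • d) : G ⧸ K) := by
        rw [show r = (orb d : G ⧸ K) from (congrArg Subtype.val hd).symm]
        exact (MulAction.ofQuotientStabilizer_smul K p k d).symm
      rw [e, show r = (orb d : G ⧸ K) from (congrArg Subtype.val hd).symm, hb, hb, extPerm_castSucc, hψb]
  refine ⟨φ, fun g h e => ?_, fun s => ?_, fun g => ?_, fun k hk => ?_, fun q hq => ?_⟩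
  · rw [← mul_inv_eq_one]
    refine hfaith _ fun r => ?_
    have h1 := hφ (g * h⁻¹) r
    rw [show φ (g * h⁻¹) = 1 by rw [map_mul, map_inv, e, mul_inv_cancel], Equiv.Perm.one_apply] at h1
    exact (hFinj h1).symm
  · obtain ⟨r, rfl⟩ := β.surjective s
    induction r using QuotientGroup.induction_on with
    | H g =>
      refine ⟨g, ?_⟩
      show φ g (Fin.last 11) = F _
      rw [← hFo, hφ]
      exact congrArg F (by rw [ho, MulAction.Quotient.smul_coe, smul_eq_mul, mul_one])
  · rw [← hFo, hφ, hFinj.eq_iff, hstab]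
  · exact ⟨ψ ⟨k, hk⟩, hψr ▸ ⟨_, rfl⟩, hφK ⟨k, hk⟩⟩
  · rw [← hψr] at hq
    obtain ⟨k, rfl⟩ := hq
    exact ⟨k, k.2, hφK k⟩

/-- The unique simple group of order 95040 with a subgroup M11 of index 12. -/
theorem exists_equiv_std (hG : Nat.card G = 95040) {K : Subgroup G} (hK : K.index = 12)
    (hM : IsM11 K) : Nonempty (G ≃* stdTwelve) := by
  classical
  haveI : Fintype G := Fintype.ofFinite G
  haveI : Fact (Nat.Prime 5) := ⟨by norm_num⟩
  obtain ⟨φ, hφi, htrans, hstab, hKle, hKge⟩ := exists_coord hG hK hM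
  have hgen : stdShift ∈ stdGroup ∧ stdMult ∈ stdGroup ∧ stdTwist ∈ stdGroup :=
    ⟨Subgroup.subset_closure (Or.inl rfl), Subgroup.subset_closure (Or.inr (Or.inl rfl)),
      Subgroup.subset_closure (Or.inr (Or.inr rfl))⟩
  obtain ⟨x, hx, hφx⟩ := hKge _ hgen.1
  obtain ⟨v, hv, hφv⟩ := hKge _ hgen.2.1
  obtain ⟨r, hr, hφr⟩ := hKge _ hgen.2.2
  have mem0 : ∀ g : G, φ g 0 = 0 → φ g (Fin.last 11) = Fin.last 11 →
      g ∈ K ⊓ (MulAction.stabilizer (Equiv.Perm (Fin 12)) (0 : Fin 12)).comap φ :=
    fun g h0 hl => ⟨(hstab g).1 hl, h0⟩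
  set L : Subgroup G := K ⊓ (MulAction.stabilizer (Equiv.Perm (Fin 12)) (0 : Fin 12)).comap φ with hL
  -- transitivity of `K` on the other points
  have hKtr : ∀ s : Fin 12, s ≠ Fin.last 11 → ∃ k ∈ K, φ k 0 = s := by
    have key : ∀ s : Fin 12, s = Fin.last 11 ∨ ∃ j : Fin 11, (shE ^ (j : ℕ)) 0 = s := by decide +kernel
    intro s hs
    obtain ⟨j, hj⟩ := (key s).resolve_left hs
    exact ⟨x ^ (j : ℕ), pow_mem hx _, by rw [map_pow, hφx]; exact hj⟩
  -- an element exchanging the new point and zero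
  obtain ⟨g₀, hg₀⟩ := htrans 0
  obtain ⟨g, hg1, hg2⟩ : ∃ g : G, φ g (Fin.last 11) = 0 ∧ φ g 0 = Fin.last 11 := by
    have hs : (φ g₀)⁻¹ (Fin.last 11) ≠ Fin.last 11 := fun e => by
      have := congrArg (φ g₀) e
      rw [Equiv.Perm.inv_def, Equiv.apply_symm_apply, hg₀] at this
      exact absurd this (by decide)
    obtain ⟨k, hk, hk0⟩ := hKtr _ hs
    refine ⟨g₀ * k, ?_, ?_⟩
    · rw [map_mul, Equiv.Perm.mul_apply, (hstab k).2 hk, hg₀]
    · rw [map_mul, Equiv.Perm.mul_apply, hk0, Equiv.Perm.inv_def, Equiv.apply_symm_apply]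
  have hgL : ∀ l ∈ L, g * l * g⁻¹ ∈ L := by
    intro l hl
    obtain ⟨hlK, hl0⟩ := hl
    have e1 : (φ g)⁻¹ (Fin.last 11) = 0 := by
      rw [Equiv.Perm.inv_eq_iff_eq]; exact hg2.symm
    have e2 : (φ g)⁻¹ 0 = Fin.last 11 := by
      rw [Equiv.Perm.inv_eq_iff_eq]; exact hg1.symm
    have hl0' : φ l 0 = 0 := hl0
    refine mem0 _ ?_ ?_ <;> simp only [map_mul, map_inv, Equiv.Perm.mul_apply]
    · rw [e2, (hstab l).2 hlK, hg1]
    · rw [e1, hl0', hg2]
  have hvL : v ∈ L := mem0 v (by rw [hφv]; decide) ((hstab v).2 hv)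
  -- the Sylow 5-subgroups of `L`
  have hv5 : orderOf v = 5 := by
    refine orderOf_eq_prime (hφi ?_) fun h => ?_
    · rw [map_pow, map_one, hφv, ← map_pow, show stdMult ^ 5 = 1 from Equiv.ext (by decide +kernel),
        map_one]
    · rw [h, map_one] at hφv
      have := congrArg (fun p : Equiv.Perm (Fin 12) => p 1) hφv
      exact absurd this (by decide +kernel)
  have hK7920 : Nat.card K = 7920 := hM.2
  have hL5 : ∀ P : Sylow 5 L, Nat.card (P : Subgroup L) = 5 := by
    intro P
    have hd : Nat.card (P : Subgroup L) ∣ 7920 := by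
      rw [← hK7920]
      exact (Subgroup.card_subgroup_dvd_card _).trans (Subgroup.card_dvd_of_le inf_le_left)
    obtain ⟨n, hn⟩ := IsPGroup.iff_card.1 P.isPGroup'
    have h5 : 5 ∣ Nat.card L := hv5 ▸ Subgroup.orderOf_dvd_natCard _ hvL
    have hn0 : n ≠ 0 := fun h0 => by
      have := P.card_eq_multiplicity
      rw [hn, h0] at this
      have hf := (Nat.Prime.factorization_pos_of_dvd (by norm_num : Nat.Prime 5) Nat.card_pos.ne' h5)
      have := Nat.pow_right_injective (le_refl 2 |>.trans (by norm_num)) this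
      omega
    have hn1 : n < 2 := by
      by_contra h2
      have : 5 ^ 2 ∣ 7920 := (pow_dvd_pow 5 (by omega)).trans (hn ▸ hd)
      norm_num at this
    rw [hn, show n = 1 by omega, pow_one]
  have hzv : ∀ w : L, orderOf w = 5 → ∃ P : Sylow 5 L, (P : Subgroup L) = Subgroup.zpowers w := by
    intro w hw
    obtain ⟨P, hP⟩ := (IsPGroup.of_card (p := 5) (n := 1) (G := Subgroup.zpowers w)
      (by rw [Nat.card_zpowers, hw]; norm_num)).exists_le_sylow
    exact ⟨P, (Subgroup.eq_of_le_of_card_ge hP (by rw [hL5, Nat.card_zpowers, hw])).symm⟩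
  obtain ⟨P, hP⟩ := hzv ⟨v, hvL⟩ (by rw [Subgroup.orderOf_mk, hv5])
  obtain ⟨Q, hQ⟩ := hzv ⟨g * v * g⁻¹, hgL v hvL⟩ (by
    rw [Subgroup.orderOf_mk, show g * v * g⁻¹ = MulAut.conj g v from rfl, MulEquiv.orderOf_eq, hv5])
  obtain ⟨h, hh⟩ := MulAction.exists_smul_eq L Q P
  have hmem : (h : G) * (g * v * g⁻¹) * (h : G)⁻¹ ∈ Subgroup.zpowers v := by
    have hm : (h * ⟨g * v * g⁻¹, hgL v hvL⟩ * h⁻¹ : L) ∈ (P : Subgroup L) := by
      rw [← hh, Sylow.coe_subgroup_smul, Subgroup.mem_smul_pointwise_iff_exists]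
      exact ⟨_, hQ ▸ Subgroup.mem_zpowers _, rfl⟩
    rw [hP, Subgroup.mem_zpowers_iff] at hm
    obtain ⟨i, hi⟩ := hm
    exact Subgroup.mem_zpowers_iff.2 ⟨i, congrArg Subtype.val hi⟩
  rw [← mem_powers_iff_mem_zpowers] at hmem
  obtain ⟨i, hi⟩ := hmem
  -- the candidate
  set σ := (h : G) * g with hσ
  have hi' : v ^ i = σ * v * σ⁻¹ := by rw [hσ, show v ^ i = _ from hi]; group
  have hhL := h.2
  have hh0 : φ (h : G) 0 = 0 := hhL.2
  have hhl : φ (h : G) (Fin.last 11) = Fin.last 11 := (hstab _).2 hhL.1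
  have hs11 : φ σ 11 = 0 := by
    show φ σ (Fin.last 11) = 0
    rw [hσ, map_mul, Equiv.Perm.mul_apply, hg1, hh0]
  have hs0 : φ σ 0 = 11 := by
    rw [hσ, map_mul, Equiv.Perm.mul_apply, hg2, hhl]; rfl
  have hi0 : i % 5 ≠ 0 := fun h0 => by
    rw [← pow_mod_orderOf, hv5, h0, pow_zero] at hi'
    have : v = 1 := by
      rw [show v = σ⁻¹ * (σ * v * σ⁻¹) * σ by group, ← hi']; group
    rw [this, orderOf_one] at hv5
    norm_num at hv5
  obtain ⟨e, he⟩ : ∃ e : Fin 4, e.val + 1 = i % 5 := ⟨⟨i % 5 - 1, by omega⟩, by simp; omega⟩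
  set f : Fin 12 → Fin 12 := fun a => φ σ a with hfdef
  have hf : ∀ a, f (muE a) = muE^[e.val + 1] (f a) := by
    intro a
    have e1 : φ σ * φ v = φ (v ^ i) * φ σ := by
      rw [← map_mul, ← map_mul, hi']; congr 1; group
    rw [← pow_mod_orderOf, hv5, ← he, map_pow, hφv] at e1
    have e2 := DFunLike.congr_fun e1 a
    rw [Equiv.Perm.mul_apply, Equiv.Perm.mul_apply, Equiv.Perm.coe_pow] at e2
    exact e2
  have hfe := swFun_eq hs0 hs11 hf
  have hfun : swFun (e.val + 1) (f 1) (f 10) = f := (funext hfe).symm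
  have hc := candidates e (f 1) (f 10)
  rw [hfun, notInj_false (φ σ).injective, Bool.false_or, Bool.or_eq_true] at hc
  have hsw : sw0 ∈ φ.range := by
    rcases hc with hgood | hbad
    · rw [List.contains_iff_mem] at hgood
      obtain ⟨j, k, hjk⟩ := goodS_spec _ hgood
      have hσe : φ σ = muE ^ (j : ℕ) * twE ^ (k : ℕ) * sw0 := Equiv.ext fun a => Fin.ext (by
        rw [← hjk a, pk_packFun])
      refine ⟨((v ^ (j : ℕ)) * r ^ (k : ℕ))⁻¹ * σ, ?_⟩
      rw [map_mul, map_inv, map_mul, map_pow, map_pow, hφv, hφr, hσe]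
      exact inv_mul_cancel_left _ _
    · exfalso
      simp only [hasSeven, List.any_eq_true, List.mem_range, Bool.and_eq_true, Bool.not_eq_true'] at hbad
      obtain ⟨w, -, p, hp, hp7, hp1⟩ := hbad
      let γ : Fin 3 → G := ![x, σ, r]
      have hlet : ∀ (c : Fin 3) (a : Fin 12), letter (packFun f) c a.val = (φ (γ c) a).val := by
        intro c a
        obtain rfl | rfl | rfl : c = 0 ∨ c = 1 ∨ c = 2 := by revert c; decide
        · rw [letter_shift, show γ 0 = x from rfl, hφx]; rfl
        · exact letter_cand f a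
        · rw [letter_twist, show γ 2 = r from rfl, hφr]; rfl
      have key : ∀ (w : List (Fin 3)) (d : G) (a : Fin 12),
          (φ (w.foldl (fun acc c => γ c * acc) d) a).val = runW (packFun f) w (φ d a).val := by
        intro w
        induction w with
        | nil => intros; rfl
        | cons c w ih =>
          intro d a
          simp only [List.foldl_cons, runW]
          rw [ih, map_mul, Equiv.Perm.mul_apply, ← hlet c (φ d a)]
          rfl
      set d := w.foldl (fun acc c => γ c * acc) (1 : G)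
      have hd : ∀ a : Fin 12, (φ d a).val = runW (packFun f) w a.val := fun a => by
        rw [key w 1 a, map_one, Equiv.Perm.one_apply]
      have hit : ∀ n : ℕ, (((φ d) ^ n) ⟨p, hp⟩).val = (runW (packFun f) w)^[n] p := by
        intro n
        induction n with
        | zero => rfl
        | succ n ih => rw [pow_succ', Equiv.Perm.mul_apply, hd, ih, Function.iterate_succ_apply']
      have h7 : Function.IsPeriodicPt (φ d) 7 ⟨p, hp⟩ := by
        show (φ d)^[7] _ = _
        rw [← Equiv.Perm.coe_pow]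
        exact Fin.ext ((hit 7).trans (Nat.eq_of_beq_eq_true hp7))
      have hN : Function.IsPeriodicPt (φ d) 95040 ⟨p, hp⟩ := by
        show (φ d)^[95040] _ = _
        rw [← Equiv.Perm.coe_pow, ← map_pow, show d ^ 95040 = 1 by rw [← hG]; exact pow_card_eq_one',
          map_one, Equiv.Perm.one_apply]
      have h1 := h7.gcd hN
      rw [show Nat.gcd 7 95040 = 1 by norm_num] at h1
      have h1' : φ d ⟨p, hp⟩ = ⟨p, hp⟩ := h1
      have := congrArg Fin.val h1'
      rw [hd] at this
      simp [Nat.beq_eq, this] at hp1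
  have hrange : φ.range = stdTwelve := by
    apply le_antisymm
    · rintro _ ⟨d, rfl⟩
      obtain ⟨q, hq, hq'⟩ := exists_mem_last (φ d (Fin.last 11))
      have hqr : q ∈ φ.range := by
        refine (Subgroup.closure_le φ.range).2 ?_ hq
        rintro _ (rfl | rfl | rfl | rfl)
        exacts [⟨x, hφx⟩, ⟨v, hφv⟩, ⟨r, hφr⟩, hsw]
      obtain ⟨d', rfl⟩ := hqr
      have hk : d'⁻¹ * d ∈ K := (hstab _).1 (by
        rw [map_mul, map_inv, Equiv.Perm.mul_apply, ← hq', Equiv.Perm.inv_def, Equiv.symm_apply_apply])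
      obtain ⟨q', hq'm, he'⟩ := hKle _ hk
      rw [show φ d = φ d' * φ (d'⁻¹ * d) by rw [← map_mul, mul_inv_cancel_left], he']
      exact mul_mem hq (extPerm_mem hq'm)
    · refine (Subgroup.closure_le φ.range).2 ?_
      rintro _ (rfl | rfl | rfl | rfl)
      exacts [⟨x, hφx⟩, ⟨v, hφv⟩, ⟨r, hφr⟩, hsw]
  exact ⟨(MonoidHom.ofInjective hφi).trans (MulEquiv.subgroupCongr hrange)⟩

end Cfsg.Lib.MTwelveRecog
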