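import Cfsg.Agent.Lib.MTwelveRecog.Bound
import Cfsg.Agent.Lib.MTwelveRecog.Ident
import Cfsg.Agent.Lib.MEleven.Recog
import Cfsg.Agent.Lib.Small.BrauerTuanTools

/-!
A finite simple group with an involution centralised as in the Mathieu group of degree 12 is that group.
-/

set_option autoImplicit false
set_option linter.style.haveILetI false
set_option linter.unusedSectionVars false
set_option maxRecDepth 100000

namespace Cfsg.Lib.MTwelveRecog

open Cfsg Subgroup

universe u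

theorem mask_max : (∀ k : Bool, ∀ i : Fin 192, (∀ j : Fin 192, mask k j = true → mask k (cConj i j) = true) →
      mask k i = true) ∧
    (∀ k : Bool, ∀ i : Fin 192, mask k i = true → (∀ j : Fin 192, mP j = true → mP (cConj i j) = true) →
      mP i = true) ∧
    (∀ i : Fin 192, mP i = true → cMul i i = 0 → (∀ j : Fin 192, mP j = true → cMul i j = cMul j i) →
      i = 0 ∨ i = cT) ∧
    (∀ k : Bool, ∃ i : Fin 192, mask k i = true ∧ mask (!k) i = false) := by
  decide +kernel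

namespace Frame

variable {G : Type u} [Group G] [Finite G] [IsSimpleGroup G] (Φ : Frame G)

/-- The centraliser of `t` in a large subgroup is that subgroup of order 48 or everything. -/
theorem inf_cases {K : Subgroup G} (hA : Φ.grpA ≤ K) :
    centralizer ({Φ.S.t} : Set G) ≤ K ∨ centralizer ({Φ.S.t} : Set G) ⊓ K = Φ.grpA := by
  set C := centralizer ({Φ.S.t} : Set G) with hC
  have hAC : Φ.grpA ≤ C ⊓ K := by
    refine le_inf ?_ hA
    rintro _ ⟨i, -, rfl⟩
    exact mem_centralizer_singleton_iff.2 (Φ.S.comm_t i)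
  by_cases hCK : C ≤ K
  · exact Or.inl hCK
  right
  refine (eq_of_le_of_card_ge hAC ?_).symm
  obtain ⟨m, hm⟩ := card_dvd_of_le hAC
  have hd : Nat.card ↥(C ⊓ K) ∣ 192 := Φ.S.card_centralizer_t ▸ card_dvd_of_le inf_le_left
  rw [Φ.card_grpA] at hm
  have hm4 : m ∣ 4 := Nat.dvd_of_mul_dvd_mul_left (by norm_num : 0 < 48) (show 48 * m ∣ 48 * 4 by rw [← hm]; exact hd)
  have hm' : m ∈ Nat.divisors 4 := Nat.mem_divisors.2 ⟨hm4, by norm_num⟩
  rw [show Nat.divisors 4 = {1, 2, 4} by decide +kernel] at hm'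
  simp only [Finset.mem_insert, Finset.mem_singleton] at hm'
  rcases hm' with h | h | h
  · rw [Φ.card_grpA, hm, h]
  · exfalso
    have hidx : (Φ.grpA.subgroupOf (C ⊓ K)).index = 2 := by
      have h' := (Φ.grpA.subgroupOf (C ⊓ K)).index_mul_card
      rw [Nat.card_congr (subgroupOfEquivOfLe hAC).toEquiv, Φ.card_grpA, hm, h] at h'
      omega
    haveI hn := normal_of_index_eq_two hidx
    have hle : C ⊓ K ≤ Φ.grpA := by
      intro g hg
      obtain ⟨i, rfl⟩ := (Φ.S.mem_iff g).1 (mem_centralizer_singleton_iff.1 (mem_inf.1 hg).1)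
      refine ⟨i, mask_max.1 _ i fun j hj => ?_, rfl⟩
      have hjA : Φ.S.f j ∈ Φ.grpA := ⟨j, hj, rfl⟩
      have h' := hn.conj_mem ⟨Φ.S.f j, hAC hjA⟩ (mem_subgroupOf.2 hjA) ⟨Φ.S.f i, hg⟩
      rw [mem_subgroupOf] at h'
      obtain ⟨l, hl, hle⟩ := h'
      rwa [show cConj i j = l from Φ.S.inj (by rw [Φ.S.fconj, hle]; rfl)]
    have := card_dvd_of_le hle
    rw [hm, h, Φ.card_grpA] at this
    norm_num at this
  · exact absurd (inf_eq_left.1 (eq_of_le_of_card_ge inf_le_left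
      (by rw [hm, h, hC, Φ.S.card_centralizer_t]))) hCK

theorem isConj_te {K : Subgroup G} (hB : Φ.grpB ≤ K) {e : G} (he : e ∈ Φ.L.E) :
    ∃ g ∈ K, g * Φ.S.t * g⁻¹ = Φ.S.t * e := by
  have he' : e ∈ K := hB (Φ.E_le_B he)
  have h9 : e ^ 9 = 1 := by
    rw [← Φ.L.card_E]
    exact congrArg Subtype.val (pow_card_eq_one' (x := (⟨e, he⟩ : Φ.L.E)))
  refine ⟨e ^ 4, pow_mem he' 4, ?_⟩
  have h := Φ.L.inv_t e he
  have h4 : Φ.S.t * e ^ 4 * Φ.S.t⁻¹ = (e ^ 4)⁻¹ := Φ.L.inv_t _ (pow_mem he 4)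
  calc e ^ 4 * Φ.S.t * (e ^ 4)⁻¹ = e ^ 4 * Φ.S.t * (Φ.S.t * e ^ 4 * Φ.S.t⁻¹) := by rw [h4]
    _ = e ^ 4 * (Φ.S.t * Φ.S.t) * e ^ 4 * Φ.S.t⁻¹ := by group
    _ = e ^ 9 * e⁻¹ * Φ.S.t⁻¹ := by rw [Φ.S.t_sq]; group
    _ = (Φ.S.t * e * Φ.S.t⁻¹) * Φ.S.t⁻¹ := by rw [h9, one_mul, h]
    _ = Φ.S.t * e * (Φ.S.t * Φ.S.t)⁻¹ := by group
    _ = Φ.S.t * e := by rw [Φ.S.t_sq, inv_one, mul_one]

/-- The conjugates of `t` in `K` outnumber an orbit of `D` on `t * e`. -/
theorem class_bound {K : Subgroup G} (hB : Φ.grpB ≤ K) (D : Subgroup G) (hD : D ≤ K)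
    (hDt : D ≤ centralizer ({Φ.S.t} : Set G)) {e : G} (he : e ∈ Φ.L.E) (he1 : e ≠ 1) :
    Nat.card ↥(centralizer ({Φ.S.t} : Set G) ⊓ K) *
      (Nat.card ↥(D ⊓ centralizer ({e} : Set G)) + Nat.card D) ≤
      Nat.card K * Nat.card ↥(D ⊓ centralizer ({e} : Set G)) := by
  classical
  set t := Φ.S.t with ht
  have htK : t ∈ K := hB (Φ.P_le_B ⟨cT, mP_facts.2.1, Φ.S.f_t⟩)
  obtain ⟨g, hgK, hg⟩ := Φ.isConj_te hB he
  set te : G := t * e
  let O : Set G := {y | ∃ d ∈ D, d * te * d⁻¹ = y}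
  let T : Set G := {y | ∃ k ∈ K, k * t * k⁻¹ = y}
  have hcls : ∀ (H : Subgroup G) (x : G), Nat.card {y | ∃ h ∈ H, h * x * h⁻¹ = y} *
      Nat.card ↥(centralizer ({x} : Set G) ⊓ H) = Nat.card H := by
    intro H x
    let φ : H ⧸ (centralizer ({x} : Set G)).subgroupOf H → {y | ∃ h ∈ H, h * x * h⁻¹ = y} :=
      Quotient.lift (fun h => ⟨(h : G) * x * (h : G)⁻¹, h, h.2, rfl⟩) fun a b hab => by
        have hm : ((a : G))⁻¹ * b ∈ centralizer ({x} : Set G) :=
          mem_subgroupOf.1 (QuotientGroup.leftRel_apply.1 hab)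
        refine Subtype.ext ?_
        show (a : G) * x * (a : G)⁻¹ = (b : G) * x * (b : G)⁻¹
        calc (a : G) * x * (a : G)⁻¹ = (a : G) * (x * ((a : G)⁻¹ * b)) * (b : G)⁻¹ := by group
          _ = (a : G) * ((a : G)⁻¹ * b * x) * (b : G)⁻¹ := by rw [mem_centralizer_singleton_iff.1 hm]
          _ = (b : G) * x * (b : G)⁻¹ := by group
    have hφ : Function.Bijective φ := by
      refine ⟨?_, ?_⟩
      · rintro ⟨a⟩ ⟨b⟩ hab
        have h' : (a : G) * x * (a : G)⁻¹ = (b : G) * x * (b : G)⁻¹ := congrArg Subtype.val hab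
        refine Quotient.sound (QuotientGroup.leftRel_apply.2 (mem_subgroupOf.2
          (mem_centralizer_singleton_iff.2 ?_)))
        show ((a : G))⁻¹ * b * x = x * ((a : G)⁻¹ * b)
        calc (a : G)⁻¹ * b * x = (a : G)⁻¹ * ((b : G) * x * (b : G)⁻¹) * b := by group
          _ = (a : G)⁻¹ * ((a : G) * x * (a : G)⁻¹) * b := by rw [h']
          _ = x * ((a : G)⁻¹ * b) := by group
      · rintro ⟨_, h, hh, rfl⟩
        exact ⟨Quotient.mk _ ⟨h, hh⟩, rfl⟩
    rw [← Nat.card_eq_of_bijective φ hφ, ← Nat.card_congr (subgroupOfEquivOfLe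
      (inf_le_right : centralizer ({x} : Set G) ⊓ H ≤ H)).toEquiv, inf_subgroupOf_right,
      ← card_eq_card_quotient_mul_card_subgroup]
  have hsub : insert t O ⊆ T := by
    rintro y (rfl | ⟨d, hd, rfl⟩)
    · exact ⟨1, one_mem _, by simp⟩
    · refine ⟨d * g, mul_mem (hD hd) hgK, ?_⟩
      show d * g * t * (d * g)⁻¹ = d * te * d⁻¹
      rw [show te = g * t * g⁻¹ from hg.symm]; group
  have htO : t ∉ O := by
    rintro ⟨d, hd, hdt⟩
    apply he1
    have hc : Commute d t := mem_centralizer_singleton_iff.1 (hDt hd)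
    have h1 : t * (d * e * d⁻¹) = t * 1 :=
      calc t * (d * e * d⁻¹) = (t * d) * e * d⁻¹ := by group
        _ = (d * t) * e * d⁻¹ := by rw [hc.eq]
        _ = d * te * d⁻¹ := by show (d * t) * e * d⁻¹ = d * (t * e) * d⁻¹; group
        _ = t * 1 := by rw [hdt, mul_one]
    exact conj_eq_one_iff.1 (mul_left_cancel h1)
  have hle := Set.ncard_le_ncard hsub (Set.toFinite T)
  rw [Set.ncard_insert_of_notMem htO (Set.toFinite O), ← Nat.card_coe_set_eq, ← Nat.card_coe_set_eq] at hle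
  have hO := hcls D te
  have hT := hcls K t
  change Nat.card O * _ = _ at hO
  change Nat.card T * _ = _ at hT
  have heq : centralizer ({te} : Set G) ⊓ D = D ⊓ centralizer ({e} : Set G) := by
    ext d
    simp only [mem_inf, mem_centralizer_singleton_iff]
    constructor
    · rintro ⟨h, hd⟩
      have hc : Commute d t := mem_centralizer_singleton_iff.1 (hDt hd)
      refine ⟨hd, mul_left_cancel (a := t) ?_⟩
      calc t * (d * e) = (t * d) * e := by group
        _ = (d * t) * e := by rw [hc.eq]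
        _ = d * te := by show (d * t) * e = d * (t * e); group
        _ = te * d := h
        _ = t * (e * d) := by show (t * e) * d = _; group
    · rintro ⟨hd, h⟩
      have hc : Commute d t := mem_centralizer_singleton_iff.1 (hDt hd)
      exact ⟨(hc.mul_right (h : Commute d e)).eq, hd⟩
  rw [heq] at hO
  calc Nat.card ↥(centralizer ({t} : Set G) ⊓ K) * (Nat.card ↥(D ⊓ centralizer ({e} : Set G)) + Nat.card D)
      = Nat.card ↥(centralizer ({t} : Set G) ⊓ K) *
          ((Nat.card O + 1) * Nat.card ↥(D ⊓ centralizer ({e} : Set G))) := by rw [← hO]; ring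
    _ ≤ Nat.card ↥(centralizer ({t} : Set G) ⊓ K) *
          (Nat.card T * Nat.card ↥(D ⊓ centralizer ({e} : Set G))) :=
        Nat.mul_le_mul_left _ (Nat.mul_le_mul_right _ hle)
    _ = Nat.card K * Nat.card ↥(D ⊓ centralizer ({e} : Set G)) := by rw [← hT]; ring

theorem card_centralizer_e {e : G} (he : e ∈ Φ.L.E) (he1 : e ≠ 1) :
    Nat.card (centralizer ({e} : Set G)) = 54 := by
  classical
  letI := Fintype.ofFinite G
  obtain ⟨z, hz3, hz1⟩ := three_ex
  rw [card_centralizer_conj (Φ.L.isX e he he1)]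
  exact (Φ.facts.odd_facts hz3 hz1).2.2.2.2.1

theorem comp_inf_A : Φ.L.comp ⊓ Φ.grpA ≤ Φ.grpP := by
  intro g hg
  obtain ⟨h1, i, hi, rfl⟩ := mem_inf.1 hg
  exact ⟨i, mP_facts.2.2.2.2.2.2 _ i ((Φ.mem_N i).1 (mem_inf.1 h1).2) hi, rfl⟩

/-- A large subgroup does not contain the centraliser of `t`. -/
theorem inf_eq {K : Subgroup G} (hA : Φ.grpA ≤ K) (hB : Φ.grpB ≤ K) (hidx : 12 ≤ K.index) :
    centralizer ({Φ.S.t} : Set G) ⊓ K = Φ.grpA := by
  refine (Φ.inf_cases hA).resolve_left fun hC => ?_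
  have hcard := K.card_mul_index
  rw [Φ.facts.card] at hcard
  have h7920 : Nat.card K ≤ 7920 := by nlinarith
  have hN : normalizer (Φ.L.E : Set G) ≤ K := by
    intro n hn
    obtain ⟨e, he, h, hh, rfl⟩ := Φ.L.exists_mul hn
    exact mul_mem (hB (Φ.E_le_B he)) (hC (mem_inf.1 hh).1)
  have h1728 : 1728 ∣ Nat.card K := by
    have h1 := card_dvd_of_le hC
    have h2 := card_dvd_of_le hN
    rw [Φ.S.card_centralizer_t] at h1
    rw [Φ.L.card_N] at h2
    exact Nat.lcm_dvd h1 h2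
  obtain ⟨e, he, he1⟩ : ∃ e ∈ Φ.L.E, e ≠ 1 := by
    refine (Subgroup.ne_bot_iff_exists_ne_one.1 fun h => ?_).elim fun a ha => ⟨a.1, a.2, fun e => ha (Subtype.ext e)⟩
    have := Φ.L.card_E
    rw [h, card_bot] at this
    omega
  set C := centralizer ({Φ.S.t} : Set G)
  have h6 : Nat.card ↥(C ⊓ centralizer ({e} : Set G)) ∣ 6 := by
    have h1 := card_dvd_of_le (inf_le_right : C ⊓ centralizer ({e} : Set G) ≤ _)
    rw [Φ.card_centralizer_e he he1] at h1
    have h2 : C ⊓ centralizer ({e} : Set G) ≤ Φ.L.comp := fun g hg =>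
      mem_inf.2 ⟨(mem_inf.1 hg).1, Φ.L.cent_le e he he1 g (mem_centralizer_singleton_iff.1 (mem_inf.1 hg).2)⟩
    have h3 := card_dvd_of_le h2
    rw [Φ.L.card_comp] at h3
    exact Nat.dvd_gcd h3 h1
  have hb := Φ.class_bound hB C hC le_rfl he he1
  rw [inf_eq_left.2 hC, Φ.S.card_centralizer_t] at hb
  have hle6 := Nat.le_of_dvd (by norm_num) h6
  have hpos : 0 < Nat.card ↥(C ⊓ centralizer ({e} : Set G)) := Nat.card_pos
  obtain ⟨d, hd⟩ := h1728
  have hd55 : d ∣ 55 := Nat.dvd_of_mul_dvd_mul_left (by norm_num : 0 < 1728)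
    (show 1728 * d ∣ 1728 * 55 by rw [← hd]; exact ⟨K.index, hcard.symm⟩)
  have hd' : d ∈ Nat.divisors 55 := Nat.mem_divisors.2 ⟨hd55, by norm_num⟩
  rw [show Nat.divisors 55 = {1, 5, 11, 55} by decide +kernel] at hd'
  simp only [Finset.mem_insert, Finset.mem_singleton] at hd'
  generalize Nat.card ↥(C ⊓ centralizer ({e} : Set G)) = c at hb hle6 hpos
  rcases hd' with h | h | h | h <;> subst h <;> (rw [hd] at hb h7920; interval_cases c <;> omega)

/-- A large subgroup has order 7920. -/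
theorem card_big {K : Subgroup G} (hA : Φ.grpA ≤ K) (hB : Φ.grpB ≤ K) (hidx : 12 ≤ K.index) :
    Nat.card K = 7920 := by
  classical
  have hCK := Φ.inf_eq hA hB hidx
  set C := centralizer ({Φ.S.t} : Set G) with hCd
  have hcard := K.card_mul_index
  rw [Φ.facts.card] at hcard
  have h7920 : Nat.card K ≤ 7920 := by nlinarith
  obtain ⟨k, hk⟩ : 144 ∣ Nat.card K := Φ.card_grpB ▸ card_dvd_of_le hB
  obtain ⟨e, he, he1⟩ : ∃ e ∈ Φ.L.E, e ≠ 1 := by
    refine (Subgroup.ne_bot_iff_exists_ne_one.1 fun h => ?_).elim fun a ha => ⟨a.1, a.2, fun e => ha (Subtype.ext e)⟩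
    have := Φ.L.card_E
    rw [h, card_bot] at this
    omega
  have h2 : Nat.card ↥(Φ.grpA ⊓ centralizer ({e} : Set G)) ∣ 2 := by
    have h1 := card_dvd_of_le (inf_le_right : Φ.grpA ⊓ centralizer ({e} : Set G) ≤ _)
    rw [Φ.card_centralizer_e he he1] at h1
    have hle : Φ.grpA ⊓ centralizer ({e} : Set G) ≤ Φ.grpP := fun g hg => by
      refine Φ.comp_inf_A (mem_inf.2 ⟨mem_inf.2 ⟨?_, Φ.L.cent_le e he he1 g
        (mem_centralizer_singleton_iff.1 (mem_inf.1 hg).2)⟩, (mem_inf.1 hg).1⟩)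
      rw [← hCK] at hg
      exact (mem_inf.1 (mem_inf.1 hg).1).1
    have h3 := card_dvd_of_le hle
    rw [Φ.card_grpP] at h3
    exact Nat.dvd_gcd h3 h1
  have hk9 : 9 ≤ k := by
    have hb := Φ.class_bound hB Φ.grpA hA (fun g hg => by
      rw [← hCK] at hg; exact (mem_inf.1 hg).1) he he1
    rw [hCK, Φ.card_grpA, hk] at hb
    have hle := Nat.le_of_dvd (by norm_num) h2
    have hpos : 0 < Nat.card ↥(Φ.grpA ⊓ centralizer ({e} : Set G)) := Nat.card_pos
    generalize Nat.card ↥(Φ.grpA ⊓ centralizer ({e} : Set G)) = c at hb hle hpos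
    interval_cases c <;> omega
  haveI : Fact (Nat.Prime 2) := ⟨Nat.prime_two⟩
  haveI : Fact (Nat.Prime 3) := ⟨Nat.prime_three⟩
  -- the 2-part
  have h32 : ¬ 2 ∣ k := by
    intro h
    have hPK : Φ.grpP ≤ K := Φ.P_le_B.trans hB
    have hd : 2 ^ (4 + 1) ∣ Nat.card K := by
      rw [hk]; exact (show 2 ^ (4 + 1) ∣ 144 * 2 by norm_num).trans (Nat.mul_dvd_mul_left 144 h)
    have hN := Sylow.prime_pow_dvd_card_normalizer hd (H := Φ.grpP.subgroupOf K)
      (by rw [Nat.card_congr (subgroupOfEquivOfLe hPK).toEquiv, Φ.card_grpP]; norm_num)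
    have hle : normalizer ((Φ.grpP.subgroupOf K : Subgroup K) : Set K) ≤ Φ.grpP.subgroupOf K := by
      intro g hg
      have hgP : ∀ x ∈ Φ.grpP, (g : G) * x * (g : G)⁻¹ ∈ Φ.grpP := fun x hx =>
        mem_subgroupOf.1 ((mem_normalizer_iff.1 hg ⟨x, hPK hx⟩).1 (mem_subgroupOf.2 hx))
      have hgP' : ∀ x ∈ Φ.grpP, (g : G)⁻¹ * x * (g : G) ∈ Φ.grpP := fun x hx => by
        simpa using mem_subgroupOf.1 ((mem_normalizer_iff.1 (inv_mem hg) ⟨x, hPK hx⟩).1 (mem_subgroupOf.2 hx))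
      obtain ⟨i, hi, hit⟩ := hgP Φ.S.t ⟨cT, mP_facts.2.1, Φ.S.f_t⟩
      have hii : i = cT := by
        refine (mask_max.2.2.1 i hi (Φ.S.inj ?_) fun j hj => Φ.S.inj ?_).resolve_left fun e0 => ?_
        · rw [Φ.S.fmul, hit, Φ.S.fone, conj_mul, Φ.S.t_sq, mul_one, mul_inv_cancel]
        · rw [Φ.S.fmul, Φ.S.fmul, hit]
          obtain ⟨l, -, hl⟩ := hgP' _ ⟨j, hj, rfl⟩
          have hj' : Φ.S.f j = (g : G) * Φ.S.f l * (g : G)⁻¹ := by rw [hl]; group
          rw [hj', conj_mul, conj_mul, Φ.S.comm_t]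
        · rw [e0, Φ.S.fone] at hit
          exact Φ.S.t_ne_one (conj_eq_one_iff.1 hit.symm)
      rw [hii, Φ.S.f_t] at hit
      have hgC : (g : G) ∈ C ⊓ K := mem_inf.2 ⟨mem_centralizer_singleton_iff.2
        (mul_inv_eq_iff_eq_mul.1 hit.symm), g.2⟩
      rw [hCK] at hgC
      obtain ⟨j, hj, hjg⟩ := hgC
      refine mem_subgroupOf.2 ⟨j, mask_max.2.1 _ j hj fun l hl => ?_, hjg⟩
      obtain ⟨l', hl', hle'⟩ := hgP _ ⟨l, hl, rfl⟩
      rwa [show cConj j l = l' from Φ.S.inj (by rw [Φ.S.fconj, hle', hjg])]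
    have := hN.trans (card_dvd_of_le hle)
    rw [Nat.card_congr (subgroupOfEquivOfLe hPK).toEquiv, Φ.card_grpP] at this
    norm_num at this
  -- the 3-part
  have h27 : ¬ 3 ∣ k := by
    intro h
    have hEK : Φ.L.E ≤ K := Φ.E_le_B.trans hB
    have hd : 3 ^ (2 + 1) ∣ Nat.card K := by
      rw [hk]; exact (show 3 ^ (2 + 1) ∣ 144 * 3 by norm_num).trans (Nat.mul_dvd_mul_left 144 h)
    have hN := Sylow.prime_pow_dvd_card_normalizer hd (H := Φ.L.E.subgroupOf K)
      (by rw [Nat.card_congr (subgroupOfEquivOfLe hEK).toEquiv, Φ.L.card_E]; norm_num)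
    have hle : (normalizer ((Φ.L.E.subgroupOf K : Subgroup K) : Set K)).map K.subtype ≤
        normalizer (Φ.L.E : Set G) ⊓ K := by
      rintro _ ⟨g, hg, rfl⟩
      refine mem_inf.2 ⟨mem_normalizer_iff.2 fun x => ⟨fun hx => ?_, fun hx => ?_⟩, g.2⟩
      · exact mem_subgroupOf.1 ((mem_normalizer_iff.1 hg ⟨x, hEK hx⟩).1 (mem_subgroupOf.2 hx))
      · have := mem_subgroupOf.1 ((mem_normalizer_iff.1 (inv_mem hg) ⟨_, hEK hx⟩).1 (mem_subgroupOf.2 hx))
        simpa [mul_assoc] using this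
    have h3 := card_dvd_of_le hle
    rw [Subgroup.card_map_of_injective (Subgroup.subtype_injective _)] at h3
    have h16 := card_dvd_of_le (show Φ.grpP ≤ normalizer (Φ.L.E : Set G) ⊓ K from fun g hg =>
      mem_inf.2 ⟨by obtain ⟨i, hi, rfl⟩ := hg; exact Φ.P_le_N hi, hB (Φ.P_le_B hg)⟩)
    rw [Φ.card_grpP] at h16
    have h432 : 16 * 27 ∣ Nat.card ↥(normalizer (Φ.L.E : Set G) ⊓ K) :=
      Nat.Coprime.mul_dvd_of_dvd_of_dvd (by norm_num) h16 ((show 27 ∣ 3 ^ (2 + 1) by norm_num).trans (hN.trans h3))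
    have hNK : normalizer (Φ.L.E : Set G) ≤ K := inf_eq_left.1 (eq_of_le_of_card_ge inf_le_left (by
      rw [Φ.L.card_N]; exact Nat.le_of_dvd Nat.card_pos h432))
    obtain ⟨i, hi, hi'⟩ := mask_max.2.2.2 Φ.k
    have hiA : Φ.S.f i ∈ C ⊓ K := mem_inf.2 ⟨mem_centralizer_singleton_iff.2 (Φ.S.comm_t i),
      hNK ((Φ.mem_N i).2 hi)⟩
    rw [hCK] at hiA
    obtain ⟨j, hj, hje⟩ := hiA
    rw [Φ.S.inj hje, hi'] at hj
    exact Bool.noConfusion hj
  have hk660 : k ∣ 660 := Nat.dvd_of_mul_dvd_mul_left (by norm_num : 0 < 144)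
    (show 144 * k ∣ 144 * 660 by rw [← hk]; exact ⟨K.index, hcard.symm⟩)
  have hk55 : k ∣ 55 :=
    (Nat.Coprime.mul_right ((Nat.Prime.coprime_iff_not_dvd Nat.prime_three).2 h27).symm
      (Nat.Coprime.pow_right 2 ((Nat.Prime.coprime_iff_not_dvd Nat.prime_two).2 h32).symm)).dvd_of_dvd_mul_left
      (show k ∣ 3 * 2 ^ 2 * 55 from hk660)
  have hk' : k ∈ Nat.divisors 55 := Nat.mem_divisors.2 ⟨hk55, by norm_num⟩
  rw [show Nat.divisors 55 = {1, 5, 11, 55} by decide +kernel] at hk'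
  simp only [Finset.mem_insert, Finset.mem_singleton] at hk'
  rcases hk' with h | h | h | h <;> subst h
  · omega
  · omega
  swap
  · rw [hk]
  -- order 1584
  exfalso
  haveI : Fact (Nat.Prime 11) := ⟨by norm_num⟩
  letI := Fintype.ofFinite K
  obtain ⟨Q⟩ : Nonempty (Sylow 11 K) := inferInstance
  have hQ : Nat.card (Q : Subgroup K) = 11 := by
    rw [Cfsg.Lib.Small.card_sylow 1 144 (by rw [hk]; norm_num) (by norm_num) Q, pow_one]
  set n := Nat.card (Sylow 11 K) with hnd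
  have hn := Cfsg.Lib.Small.card_normalizer_mul Q
  have hn55 : Nat.card (normalizer ((Q : Subgroup K) : Set K)) ∣ 55 := by
    set R := (Q : Subgroup K).map K.subtype with hR
    have hR11 : Nat.card R = 11 := by rw [hR, Subgroup.card_map_of_injective (Subgroup.subtype_injective _), hQ]
    obtain ⟨R', hR'⟩ := (IsPGroup.of_card (G := R) (p := 11) (n := 1) (by rw [hR11, pow_one])).exists_le_sylow
    have hRR : (R' : Subgroup G) = R :=
      (eq_of_le_of_card_ge hR' (by rw [Φ.facts.sylow_eleven_card R', hR11])).symm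
    have hle : (normalizer ((Q : Subgroup K) : Set K)).map K.subtype ≤ normalizer ((R' : Subgroup G) : Set G) := by
      rw [hRR]
      exact le_normalizer_map K.subtype
    have h1 := card_dvd_of_le hle
    rw [Subgroup.card_map_of_injective (Subgroup.subtype_injective _)] at h1
    have h2 := Cfsg.Lib.Small.card_normalizer_mul R'
    rw [Φ.facts.eleven_facts.1, Φ.facts.card] at h2
    rwa [show Nat.card (normalizer ((R' : Subgroup G) : Set G)) = 55 by omega] at h1
  have hmod : n % 11 = 1 := card_sylow_modEq_one 11 K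
  have h11N : 11 ∣ Nat.card (normalizer ((Q : Subgroup K) : Set K)) := by
    have h := card_dvd_of_le (le_normalizer (H := (Q : Subgroup K)))
    rwa [hQ] at h
  have hN11 : Nat.card (normalizer ((Q : Subgroup K) : Set K)) = 11 := by
    have hm : Nat.card (normalizer ((Q : Subgroup K) : Set K)) ∈ Nat.divisors 55 :=
      Nat.mem_divisors.2 ⟨hn55, by norm_num⟩
    rw [show Nat.divisors 55 = {1, 5, 11, 55} by decide +kernel] at hm
    simp only [Finset.mem_insert, Finset.mem_singleton] at hm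
    rw [← hnd, hk] at hn
    rcases hm with e | e | e | e <;> rw [e] at hn h11N <;> omega
  have hn144 : n = 144 := by rw [← hnd, hN11, hk] at hn; omega
  have hcnt : (Finset.univ.filter fun x : K => ¬ orderOf x = 11).card = 144 := by
    have h := Cfsg.Lib.Small.BrauerTuan.sum_orderOf_eq_prime Q hQ (f := fun _ => (1 : ℂ)) (fun _ _ => rfl)
    simp only [Finset.sum_const, nsmul_eq_mul, mul_one, Finset.card_univ, ← Nat.card_eq_fintype_card] at h
    rw [hQ, ← hnd, hn144] at h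
    norm_num at h
    have h' : (Finset.univ.filter fun x : K => orderOf x = 11).card = 1440 := by exact_mod_cast h
    have h2 := Finset.card_filter_add_card_filter_not (s := (Finset.univ : Finset K)) (fun x : K => orderOf x = 11)
    rw [Finset.card_univ, ← Nat.card_eq_fintype_card, hk, h'] at h2
    omega
  set M := Finset.univ.filter fun x : K => ¬ orderOf x = 11 with hM
  have hsub : ∀ H : Subgroup G, ¬ 11 ∣ Nat.card H → ∀ x : K, (x : G) ∈ H → x ∈ M := fun H hH x hx =>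
    Finset.mem_filter.2 ⟨Finset.mem_univ _, fun h => hH (by
      rw [← h, ← orderOf_coe]; exact Subgroup.orderOf_dvd_natCard H hx)⟩
  have hBM : (Finset.univ.filter fun x : K => (x : G) ∈ Φ.grpB).card = 144 := by
    rw [← Fintype.card_subtype, ← Nat.card_eq_fintype_card]
    have h := Nat.card_congr (subgroupOfEquivOfLe hB).toEquiv
    rw [Φ.card_grpB] at h
    exact h
  have heq : (Finset.univ.filter fun x : K => (x : G) ∈ Φ.grpB) = M := Finset.eq_of_subset_of_card_le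
    (fun x hx => hsub Φ.grpB (by rw [Φ.card_grpB]; norm_num) x (Finset.mem_filter.1 hx).2) (by rw [hcnt, hBM])
  have hAP : Φ.grpA ≤ Φ.grpP := by
    intro g hg
    have hgM := hsub Φ.grpA (by rw [Φ.card_grpA]; norm_num) ⟨g, hA hg⟩ hg
    rw [← heq] at hgM
    obtain ⟨e, he, p, hp, rfl⟩ := (Finset.mem_filter.1 hgM).2
    have h1 : Φ.S.f p ∈ Φ.grpA := Φ.P_le_A ⟨p, hp, rfl⟩
    have heA : e ∈ Φ.grpA := (mul_mem_cancel_right h1).1 hg
    rw [← hCK] at heA
    have := Φ.L.eq_one_of_comm he (mem_centralizer_singleton_iff.1 (mem_inf.1 heA).1)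
    rw [this, one_mul]
    exact ⟨p, hp, rfl⟩
  have := card_dvd_of_le hAP
  rw [Φ.card_grpA, Φ.card_grpP] at this
  norm_num at this

include Φ in
theorem exists_equiv : Nonempty (G ≃* stdTwelve) := by
  obtain ⟨K, hA, hB, hidx⟩ := Φ.exists_big
  have hK := Φ.card_big hA hB hidx
  have hindex : K.index = 12 := by
    have h := K.card_mul_index
    rw [Φ.facts.card, hK] at h
    omega
  refine exists_equiv_std Φ.facts.card hindex ?_
  letI := Fintype.ofFinite K
  refine Cfsg.Lib.MEleven.isM11_of_centralizer hK fun x hx => ?_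
  have hxG : orderOf (x : G) = 11 := by rw [orderOf_coe]; exact hx
  have hd : Nat.card (centralizer ({x} : Set K)) ∣ 11 := by
    rw [← Φ.facts.eleven_facts.2 _ hxG, ← Subgroup.card_map_of_injective (Subgroup.subtype_injective K)]
    refine card_dvd_of_le ?_
    rintro _ ⟨y, hy, rfl⟩
    exact mem_centralizer_singleton_iff.2 (congrArg Subtype.val (mem_centralizer_singleton_iff.1 hy))
  have h11 : 11 ∣ Nat.card (centralizer ({x} : Set K)) :=
    hx ▸ Subgroup.orderOf_dvd_natCard _ (mem_centralizer_singleton_iff.2 rfl)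
  exact Nat.dvd_antisymm hd h11

end Frame

/-- A non-abelian simple group with such a centraliser is isomorphic to the group of degree 12. -/
theorem isoM12_of_setup {G : Type u} [Group G] [Finite G] [IsSimpleGroup G] (S : Setup G)
    (hna : ¬ IsMulCommutative G) : Cfsg.Spor.IsoM12 G := by
  obtain ⟨S', hnorm⟩ := S.exists_normalised (S.fused hna)
  obtain ⟨hcard, hc, hcb⟩ := S'.main_facts (S'.fused hna)
  obtain ⟨Φ⟩ := exists_frame (⟨hna, hcard, hc, hnorm, hcb.some⟩ : Facts S')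
  obtain ⟨ψ⟩ := Φ.exists_equiv
  obtain ⟨ι⟩ := nonempty_sporM12_std
  exact ⟨ψ.trans ι.symm⟩

end Cfsg.Lib.MTwelveRecog
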