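import Cfsg.Agent.Lib.Char.Formulas
import Cfsg.Agent.Lib.MEleven.Basic

/-!
A vector fixed by two subgroups with large fixed spaces: its stabiliser has index more than the degree.
-/

set_option autoImplicit false
set_option linter.style.haveILetI false
set_option linter.unusedSectionVars false

namespace Cfsg.Lib.MTwelveRecog

open Cfsg Cfsg.Lib.Char Cfsg.Lib.Block Subgroup

universe u

variable {G : Type u} [Group G] [Finite G]

/-- Two subgroups whose fixed spaces meet lie in the stabiliser of a vector. -/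
theorem exists_point [Fintype G] {χ : IrrCharacter G} (hχ : χ ≠ trivChar G) {n : ℕ} (hn : (χ : G → ℂ) 1 = (n : ℂ))
    (A B D : Subgroup G) [Fintype A] [Fintype B] [Fintype D] (hDA : D ≤ A) (hDB : D ≤ B) {a b d : ℕ}
    (ha : ∑ g : A, (χ : G → ℂ) g = ((Nat.card A * a : ℕ) : ℂ))
    (hb : ∑ g : B, (χ : G → ℂ) g = ((Nat.card B * b : ℕ) : ℂ))
    (hd : ∑ g : D, (χ : G → ℂ) g = ((Nat.card D * d : ℕ) : ℂ)) (hlt : d < a + b) :
    ∃ F : Subgroup G, A ≤ F ∧ B ≤ F ∧ n < F.index := by
  classical
  obtain ⟨m, ρ, hρ, hc⟩ := χ.2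
  have hmn : m = n := by
    rw [← hc] at hn
    change LinearMap.trace ℂ (Fin m → ℂ) (ρ 1) = (n : ℂ) at hn
    rw [map_one, Module.End.one_eq_id, LinearMap.trace_id, Module.finrank_fintype_fun_eq_card,
      Fintype.card_fin] at hn
    exact_mod_cast hn
  have hdim : ∀ (H : Subgroup G) [Fintype H] (m' : ℕ), ∑ g : H, (χ : G → ℂ) g = ((Nat.card H * m' : ℕ) : ℂ) →
      Module.finrank ℂ (Representation.invariants (ρ.comp H.subtype)) = m' := by
    intro H _ m' hm
    letI : Invertible (Fintype.card H : ℂ) := invertibleOfNonzero (Nat.cast_ne_zero.2 Fintype.card_ne_zero)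
    have htr := (Representation.isProj_averageMap (ρ.comp H.subtype)).trace
    have hav : Representation.averageMap (ρ.comp H.subtype) =
        ⅟ (Fintype.card H : ℂ) • ∑ z : H, ρ (z : G) := by
      simp [Representation.averageMap, GroupAlgebra.average, map_sum]
    rw [hav, map_smul, map_sum, smul_eq_mul] at htr
    have e : ∀ z : H, LinearMap.trace ℂ (Fin m → ℂ) (ρ (z : G)) = (χ : G → ℂ) z := fun z => by
      rw [← hc]; rfl
    simp only [e] at htr
    rw [hm, Nat.card_eq_fintype_card] at htr
    push_cast at htr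
    rw [← mul_assoc, invOf_mul_self, one_mul] at htr
    exact_mod_cast htr.symm
  set U := Representation.invariants (ρ.comp A.subtype)
  set W := Representation.invariants (ρ.comp B.subtype)
  obtain ⟨v, hv, hv0⟩ : ∃ v ∈ U ⊓ W, v ≠ 0 := by
    refine Submodule.exists_mem_ne_zero_of_ne_bot fun hUW => ?_
    have hle : U ⊔ W ≤ Representation.invariants (ρ.comp D.subtype) :=
      sup_le (fun v hv g => hv ⟨g, hDA g.2⟩) (fun v hv g => hv ⟨g, hDB g.2⟩)
    have h1 := Submodule.finrank_sup_add_finrank_inf_eq U W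
    rw [hUW, finrank_bot, add_zero, hdim A a ha, hdim B b hb] at h1
    have h2 := Submodule.finrank_mono hle
    rw [hdim D d hd, h1] at h2
    omega
  obtain ⟨hvA, hvB⟩ := Submodule.mem_inf.1 hv
  let F : Subgroup G :=
    { carrier := {g | ρ g v = v}
      one_mem' := by simp
      mul_mem' := fun {x y} hx hy => by
        show ρ (x * y) v = v
        rw [map_mul, Module.End.mul_apply, hy, hx]
      inv_mem' := fun {x} hx => by
        show ρ x⁻¹ v = v
        conv_lhs => rw [← (show ρ x v = v from hx)]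
        rw [← Module.End.mul_apply, ← map_mul, inv_mul_cancel, map_one, Module.End.one_apply] }
  refine ⟨F, fun g hg => hvA ⟨g, hg⟩, fun g hg => hvB ⟨g, hg⟩, ?_⟩
  obtain ⟨-, hirr⟩ := (isIrreducible_iff_submodule ρ).1 hρ
  let w : G ⧸ F → Fin m → ℂ := fun q => ρ q.out v
  have hw : ∀ g : G, w (g : G ⧸ F) = ρ g v := fun g => by
    have h : ((g : G ⧸ F).out)⁻¹ * g ∈ F := QuotientGroup.eq.1 (QuotientGroup.out_eq' _)
    have h' : ρ (((g : G ⧸ F).out)⁻¹ * g) v = v := h
    conv_rhs => rw [← mul_inv_cancel_left ((g : G ⧸ F).out) g, map_mul, Module.End.mul_apply, h']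
  have hact : ∀ (g : G) (q : G ⧸ F), ρ g (w q) = w (g • q) := fun g q => by
    induction q using QuotientGroup.induction_on with
    | H h =>
      rw [MulAction.Quotient.smul_coe, hw, hw, smul_eq_mul, map_mul, Module.End.mul_apply]
  have hspan : Submodule.span ℂ (Set.range w) = ⊤ := by
    refine (hirr _ fun g x hx => ?_).resolve_left fun h => hv0 ?_
    · have hle : Submodule.span ℂ (Set.range w) ≤ (Submodule.span ℂ (Set.range w)).comap (ρ g) := by
        rw [Submodule.span_le]
        rintro _ ⟨q, rfl⟩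
        show ρ g (w q) ∈ Submodule.span ℂ (Set.range w)
        rw [hact]
        exact Submodule.subset_span ⟨_, rfl⟩
      exact hle hx
    · have : v ∈ Submodule.span ℂ (Set.range w) :=
        Submodule.subset_span ⟨((1 : G) : G ⧸ F), by rw [hw, map_one, Module.End.one_apply]⟩
      rw [h] at this
      exact (Submodule.mem_bot ℂ).1 this
  letI := Fintype.ofFinite (G ⧸ F)
  have hsum : ∑ q, w q = 0 := by
    by_contra h0
    have hfix : ∀ g, ρ g (∑ q, w q) = ∑ q, w q := fun g => by
      rw [map_sum]
      exact Fintype.sum_equiv (MulAction.toPerm g) _ _ fun q => hact g q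
    have hs : Submodule.span ℂ {∑ q, w q} = ⊤ := by
      refine (hirr _ fun g x hx => ?_).resolve_left fun h => h0 ?_
      · obtain ⟨c, rfl⟩ := Submodule.mem_span_singleton.1 hx
        rw [map_smul, hfix g]
        exact Submodule.smul_mem _ _ (Submodule.mem_span_singleton_self _)
      · exact (Submodule.mem_bot ℂ).1 (h ▸ Submodule.mem_span_singleton_self _)
    apply hχ
    refine Subtype.ext (funext fun g => ?_)
    rw [← hc, trivChar_coe]
    have hid : ρ g = 1 := LinearMap.ext fun x => by
      obtain ⟨c, rfl⟩ := Submodule.mem_span_singleton.1 (hs ▸ Submodule.mem_top : x ∈ Submodule.span ℂ {∑ q, w q})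
      rw [map_smul, hfix g]; rfl
    have h1 : Module.finrank ℂ (Fin m → ℂ) = 1 := by
      rw [← finrank_top, ← hs, finrank_span_singleton h0]
    show LinearMap.trace ℂ (Fin m → ℂ) (ρ g) = 1
    rw [hid, Module.End.one_eq_id, LinearMap.trace_id, h1, Nat.cast_one]
  have hle : (Set.range w).finrank ℂ ≤ Fintype.card (G ⧸ F) := finrank_range_le_card w
  have hne : Fintype.card (G ⧸ F) ≠ (Set.range w).finrank ℂ := fun e => by
    have hli := Fintype.linearIndependent_iff.1 (linearIndependent_iff_card_eq_finrank_span.2 e)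
      (fun _ => 1) (by simpa using hsum) ((1 : G) : G ⧸ F)
    exact one_ne_zero hli
  have hfr : (Set.range w).finrank ℂ = m := by
    rw [Set.finrank, hspan, finrank_top, Module.finrank_fintype_fun_eq_card, Fintype.card_fin]
  rw [Subgroup.index, Nat.card_eq_fintype_card]
  omega

end Cfsg.Lib.MTwelveRecog
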