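import Cfsg.Agent.Lib.MTwelveRecog.Three
import Cfsg.Agent.Lib.Char.BrauerInduction
import Cfsg.Agent.Lib.Char.SignedIrr
import Cfsg.Agent.Lib.Char.Linear
import Cfsg.Agent.Lib.Char.Formulas
import Cfsg.Agent.Lib.Char.InvolutionSum

/-!
The class function that becomes the permutation character of degree 12.
-/

set_option autoImplicit false
set_option linter.style.haveILetI false
set_option linter.unusedSectionVars false
set_option maxRecDepth 100000

namespace Cfsg.Lib.MTwelveRecog

open Cfsg Subgroup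
open scoped ComplexConjugate

universe u

/-- The value of the class function on a class of the table. -/
theorem cls_values : clsFix 0 = 12 ∧ clsFix 1 = 4 ∧ clsFix 2 = 4 ∧ clsFix 3 = 0 ∧ clsFix 4 = 0 ∧
    clsFix 5 = 1 ∧ clsFix 6 = 0 ∧ clsFix 7 = 3 ∧ clsFix 8 = 4 ∧ clsFix 9 = 4 ∧ clsFix 10 = 2 ∧
    clsFix 11 = 0 ∧ clsFix 12 = 4 := by decide

theorem eight_pow : cPow 4 4 = cT ∧ cPow 10 4 = cT ∧ cPow 2 3 = cT ∧ cPow 19 2 = cT := by decide +kernel

theorem fix_el : ∀ i : Fin 192,
    ((Finset.univ : Finset (Fin 12)).filter fun p : Fin 12 => pk (Table.perm i) (p : ℕ) = (p : ℕ)).card = cFix i := by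
  decide +kernel

theorem six_commute : ∀ p q : Equiv.Perm (Fin 5), p ^ 3 = 1 → p ≠ 1 → q * p = p * q → q ^ 6 = 1 := by
  decide +kernel

theorem cnt_theta : (∑ i ∈ Finset.univ.filter (fun i : Fin 192 => hasP cT i = true), cFix i) = 108 ∧
    (∑ i ∈ Finset.univ.filter (fun i : Fin 192 => hasP cT i = true), cFix i * cFix i) = 240 := by
  decide +kernel

open scoped Classical

/-- A class function made from a multiple of the regular character and the trivial one on a subgroup. -/
theorem gen_of_delta {K : Type u} [Group K] [Fintype K] (M : Subgroup K) (a c : ℤ)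
    (hc : (Nat.card K : ℤ) ∣ c * (Nat.card M : ℤ)) (f : K → ℂ) (hf : IsClassFunction K f)
    (h : ∀ g, f g = (if g = 1 then (a : ℂ) * (Nat.card K : ℂ) else 0) + if g ∈ M then (c : ℂ) else 0) :
    IsGeneralizedCharacter K f := by
  refine Cfsg.Lib.Char.isGeneralizedCharacter_iff.2 ⟨hf, fun χ hχ => ?_⟩
  haveI := Fintype.ofFinite M
  obtain ⟨n, hn⟩ := (Cfsg.Lib.Char.isCharacter_one (G := M)).exists_nat_classInner
    (hχ.isCharacter.comp M.subtype)
  obtain ⟨k, hk⟩ := hc
  refine ⟨a * (charDegree χ : ℤ) + k * n, ?_⟩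
  have hM : ∑ m : M, conj (χ m) = (Nat.card M : ℂ) * n := by
    rw [← hn, classInner, ← mul_assoc, mul_inv_cancel₀ (Nat.cast_ne_zero.2 Nat.card_pos.ne'), one_mul]
    exact Finset.sum_congr rfl fun m _ => (one_mul _).symm
  have hsplit : ∑ g, (if g ∈ M then (c : ℂ) else 0) * conj (χ g) = (c : ℂ) * ∑ m : M, conj (χ m) := by
    rw [Finset.mul_sum]
    simp only [ite_mul, zero_mul]
    rw [← Finset.sum_filter]
    exact Finset.sum_subtype _ (fun g => by simp) fun g => (c : ℂ) * conj (χ g)
  have hk' : (c : ℂ) * (Nat.card M : ℂ) = (Nat.card K : ℂ) * k := by exact_mod_cast hk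
  have hK : (Nat.card K : ℂ) ≠ 0 := Nat.cast_ne_zero.2 Nat.card_pos.ne'
  rw [classInner, Finset.sum_congr rfl fun g _ => by rw [h g, add_mul], Finset.sum_add_distrib, hsplit,
    hM, ← mul_assoc (c : ℂ), hk']
  simp only [ite_mul, zero_mul, Finset.sum_ite_eq', Finset.mem_univ, if_true,
    hχ.apply_one_eq_charDegree, map_natCast]
  push_cast
  field_simp

theorem exists_central {E : Type u} [Group E] [Finite E] {p : ℕ} (hp : p.Prime) (hE : IsElementary p E)
    {q : ℕ} (hq : q.Prime) (hqd : q ∣ Nat.card E) : ∃ u ∈ Subgroup.center E, orderOf u = q := by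
  haveI : Fact q.Prime := ⟨hq⟩
  obtain ⟨x, hx, hcop, k, hk⟩ := hE
  have hcard : Nat.card E = p ^ k * orderOf x := by
    rw [← (zpowers x).index_mul_card, hk, Nat.card_zpowers]
  by_cases hqx : q ∣ orderOf x
  · obtain ⟨⟨u, hu⟩, huo⟩ := exists_prime_orderOf_dvd_card' (G := zpowers x) q (by rwa [Nat.card_zpowers])
    rw [orderOf_mk] at huo
    exact ⟨u, zpowers_le.2 hx hu, huo⟩
  obtain rfl : q = p := by
    have hd : q ∣ p ^ k := (hq.coprime_iff_not_dvd.2 hqx).dvd_of_dvd_mul_right (hcard ▸ hqd)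
    exact (Nat.prime_dvd_prime_iff_eq hq hp).1 (hq.dvd_of_dvd_pow hd)
  obtain ⟨P⟩ : Nonempty (Sylow q E) := inferInstance
  have hP : Nat.card (P : Subgroup E) = q ^ k :=
    Cfsg.Lib.Small.card_sylow k (orderOf x) hcard hqx P
  have hk0 : k ≠ 0 := fun e => by
    rw [e, pow_zero, one_mul] at hcard
    exact hqx (hcard ▸ hqd)
  haveI : Nontrivial P := Finite.one_lt_card_iff_nontrivial.1 (by
    show 1 < Nat.card (P : Subgroup E)
    rw [hP]; exact Nat.one_lt_pow hk0 hq.one_lt)
  haveI := P.isPGroup'.center_nontrivial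
  obtain ⟨⟨⟨u, huP⟩, huc⟩, huo⟩ := exists_prime_orderOf_dvd_card' (G := center P) q (by
    obtain ⟨j, hj⟩ := IsPGroup.iff_card.1 (P.isPGroup'.to_subgroup (center P))
    rw [hj]
    refine dvd_pow_self q fun e => ?_
    rw [e, pow_zero] at hj
    exact absurd hj (Finite.one_lt_card (α := center P)).ne')
  simp only [orderOf_mk] at huo
  refine ⟨u, ?_, huo⟩
  have hC : centralizer ({u} : Set E) = ⊤ := by
    refine eq_top_of_le_card _ (Nat.le_of_dvd Nat.card_pos ?_)
    rw [hcard]
    refine Nat.Coprime.mul_dvd_of_dvd_of_dvd (Nat.Coprime.pow_left k hcop.symm) ?_ ?_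
    · rw [← hP]
      exact card_dvd_of_le fun v hv => mem_centralizer_singleton_iff.2
        (congrArg Subtype.val (mem_center_iff.1 huc ⟨v, hv⟩))
    · exact orderOf_dvd_natCard _ (mem_centralizer_singleton_iff.2 ((mem_center_iff.1 hx) u).symm)
  rw [mem_center_iff]
  intro g
  exact mem_centralizer_singleton_iff.1 (hC ▸ mem_top g)

variable {G : Type u} [Group G]

namespace Setup

variable (S : Setup G)

/-- The class function. -/
noncomputable def theta (g : G) : ℤ :=
  if g = 1 then 12 else if IsConj S.t g then 4 else if IsConj (S.f 6) g then 3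
  else if IsConj (S.f 19) g then 4 else if orderOf g = 5 then 2 else if IsConj (S.f 2) g then 1
  else if IsConj (S.f 4) g then 2 else if orderOf g = 11 then 1 else 0

theorem theta_conj (g h : G) : S.theta (h * g * h⁻¹) = S.theta g := by
  have key : ∀ a : G, IsConj a (h * g * h⁻¹) ↔ IsConj a g := fun a =>
    ⟨fun e => e.trans (isConj_iff.2 ⟨h, rfl⟩ : IsConj g (h * g * h⁻¹)).symm,
      fun e => e.trans (isConj_iff.2 ⟨h, rfl⟩)⟩
  have ho : orderOf (h * g * h⁻¹) = orderOf g := MulEquiv.orderOf_eq (MulAut.conj h) g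
  simp only [theta, key, ho, conj_eq_one_iff]

variable [Finite G]

/-- The value away from the named classes. -/
theorem theta_of_order {g : G} {n : ℕ} (h : orderOf g = n) (hn : n ≠ 1) (h2 : n = 2 → ¬ IsConj S.t g)
    (h3 : n = 3 → ¬ IsConj (S.f 6) g) (h4 : n = 4 → ¬ IsConj (S.f 19) g)
    (h6 : n = 6 → ¬ IsConj (S.f 2) g) (h8 : n = 8 → ¬ IsConj (S.f 4) g) :
    S.theta g = if n = 5 then 2 else if n = 11 then 1 else 0 := by
  have o : ∀ {a : G} {m : ℕ}, orderOf a = m → IsConj a g → n = m := fun ha hc =>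
    h.symm.trans ((orderOf_eq_of_isConj hc).trans ha)
  rw [theta, if_neg (fun e => hn (by rw [← h, e, orderOf_one])),
    if_neg (fun e => h2 (o S.orderOf_t e) e),
    if_neg (fun e => h3 (o ((S.orderOf_f_cls 6).trans (by rw [cls_of_rep.2.2.2.2.1]; rfl)) e) e),
    if_neg (fun e => h4 (o ((S.orderOf_f_cls 19).trans (by rw [cls_of_rep.1]; rfl)) e) e),
    if_neg (c := IsConj (S.f 2) g)
      (fun e => h6 (o ((S.orderOf_f_cls 2).trans (by rw [cls_of_rep.2.2.1]; rfl)) e) e),
    if_neg (c := IsConj (S.f 4) g)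
      (fun e => h8 (o ((S.orderOf_f_cls 4).trans (by rw [cls_of_rep.2.2.2.2.2.2.1]; rfl)) e) e), h]

end Setup

namespace Facts

variable [Finite G] [IsSimpleGroup G] {S : Setup G} (F : Facts S)
include F

theorem theta_f (i : Fin 192) : S.theta (S.f i) = (cFix i : ℤ) := by
  have hnot : ∀ j k, cCls j ≠ cCls k → ∀ n, cPow j n = cT → cPow k n = cT → ¬ IsConj (S.f j) (S.f k) :=
    fun j k hne n hj hk h => hne (S.cls_eq_of_isConj h hj hk)
  have hi := S.isConj_clsRep i
  obtain ⟨g, hg⟩ := isConj_iff.1 hi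
  rw [← hg, S.theta_conj, cFix_cls i]
  have hc := (cls_lt i).1
  have ord : ∀ (j : Fin 192) {m : ℕ}, clsOrd (cCls j) = m → orderOf (S.f j) = m := fun j _ h =>
    (S.orderOf_f_cls j).trans h
  obtain ⟨e19, e74, e2, e10, e6, e1, e4, e21⟩ := cls_of_rep
  obtain ⟨p4, p10, p2, p19⟩ := eight_pow
  obtain ⟨v0, v1, v2, v3, v4, v5, v6, v7, v8, v9, v10, v11, v12⟩ := cls_values
  interval_cases hcc : cCls i
  · show S.theta (S.f 0) = _
    rw [Setup.theta, S.fone, if_pos rfl, v0]; rfl
  · show S.theta (S.f 19) = _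
    rw [Setup.theta, if_neg (fun e => absurd (S.inj (e.trans S.fone.symm)) (by decide)),
      if_neg (fun e => by have := orderOf_eq_of_isConj e; rw [S.orderOf_t, ord 19 (m := 4) (by rw [e19]; rfl)] at this; omega),
      if_neg (fun e => by have := orderOf_eq_of_isConj e; rw [F.orderOf_six, ord 19 (m := 4) (by rw [e19]; rfl)] at this; omega),
      if_pos (IsConj.refl _), v1]; rfl
  · show S.theta (S.f 14) = _
    rw [Setup.theta, if_neg (fun e => absurd (S.inj (e.trans S.fone.symm)) (by decide)),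
      if_pos (by rw [show (14 : Fin 192) = cT from rfl, S.f_t]), v2]; rfl
  · show S.theta (S.f 74) = _
    rw [S.theta_of_order (ord 74 (m := 4) (by rw [e74]; rfl)) (by norm_num) (by omega) (by omega)
      (fun _ => S.not_isConj_19_74) (by omega) (by omega), v3]; rfl
  · show S.theta S.b = _
    rw [S.theta_of_order (n := 2) S.orderOf_b (by norm_num) (fun _ => S.not_isConj_b) (by omega)
      (by omega) (by omega) (by omega), v4]; rfl
  · show S.theta (S.f 2) = _
    have h2 := ord 2 (m := 6) (by rw [e2]; rfl)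
    rw [Setup.theta, if_neg (fun e => absurd (S.inj (e.trans S.fone.symm)) (by decide)),
      if_neg (fun e => by have := orderOf_eq_of_isConj e; rw [S.orderOf_t, h2] at this; omega),
      if_neg (fun e => by have := orderOf_eq_of_isConj e; rw [F.orderOf_six, h2] at this; omega),
      if_neg (fun e => by have := orderOf_eq_of_isConj e; rw [ord 19 (m := 4) (by rw [e19]; rfl), h2] at this; omega),
      if_neg (fun e => by rw [h2] at e; omega), if_pos (IsConj.refl _), v5]; rfl
  · show S.theta (S.f 10) = _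
    rw [S.theta_of_order (ord 10 (m := 8) (by rw [e10]; rfl)) (by norm_num) (by omega) (by omega)
      (by omega) (by omega) (fun _ => hnot 4 10 (by rw [e4, e10]; omega) 4 p4 p10), v6]; rfl
  · show S.theta (S.f 6) = _
    rw [Setup.theta, if_neg (fun e => absurd (S.inj (e.trans S.fone.symm)) (by decide)),
      if_neg (fun e => by have := orderOf_eq_of_isConj e; rw [S.orderOf_t, F.orderOf_six] at this; omega),
      if_pos (IsConj.refl _), v7]; rfl
  · show S.theta (S.f 1) = _
    have h1 := ord 1 (m := 4) (by rw [e1]; rfl)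
    rw [Setup.theta, if_neg (fun e => absurd (S.inj (e.trans S.fone.symm)) (by decide)),
      if_neg (fun e => by have := orderOf_eq_of_isConj e; rw [S.orderOf_t, h1] at this; omega),
      if_neg (fun e => by have := orderOf_eq_of_isConj e; rw [F.orderOf_six, h1] at this; omega),
      if_pos F.norm, v8]; rfl
  · show S.theta (S.f 61) = _
    rw [Setup.theta, if_neg (fun e => absurd (S.inj (e.trans S.fone.symm)) (by decide)),
      if_pos F.isConj_c, v9]; rfl
  · show S.theta (S.f 4) = _
    have h4 := ord 4 (m := 8) (by rw [e4]; rfl)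
    rw [Setup.theta, if_neg (fun e => absurd (S.inj (e.trans S.fone.symm)) (by decide)),
      if_neg (fun e => by have := orderOf_eq_of_isConj e; rw [S.orderOf_t, h4] at this; omega),
      if_neg (fun e => by have := orderOf_eq_of_isConj e; rw [F.orderOf_six, h4] at this; omega),
      if_neg (fun e => by have := orderOf_eq_of_isConj e; rw [ord 19 (m := 4) (by rw [e19]; rfl), h4] at this; omega),
      if_neg (fun e => by rw [h4] at e; omega),
      if_neg (fun e => by have := orderOf_eq_of_isConj e; rw [ord 2 (m := 6) (by rw [e2]; rfl), h4] at this; omega),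
      if_pos (IsConj.refl _), v10]; rfl
  · show S.theta (S.f 21) = _
    rw [S.theta_of_order (ord 21 (m := 4) (by rw [e21]; rfl)) (by norm_num) (by omega) (by omega)
      (fun _ h => S.not_isConj_19_74 (h.trans (S.isConj_21_74 F.fused F.norm).symm)) (by omega) (by omega), v11]
    rfl
  · show S.theta (S.f 3) = _
    rw [Setup.theta, if_neg (fun e => absurd (S.inj (e.trans S.fone.symm)) (by decide)),
      if_pos F.fused.a, v12]; rfl

theorem theta_one : S.theta 1 = 12 := if_pos rfl

theorem theta_five {g : G} (h : orderOf g = 5) : S.theta g = 2 := by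
  rw [S.theta_of_order h (by norm_num) (by omega) (by omega) (by omega) (by omega) (by omega)]; rfl

theorem theta_eleven {g : G} (h : orderOf g = 11) : S.theta g = 1 := by
  rw [S.theta_of_order h (by norm_num) (by omega) (by omega) (by omega) (by omega) (by omega)]; rfl

theorem theta_six {g : G} (h : IsConj (S.f 6) g) : S.theta g = 3 := by
  obtain ⟨c, rfl⟩ := isConj_iff.1 h
  rw [S.theta_conj, F.theta_f, cFix_cls, cls_of_rep.2.2.2.2.1, cls_values.2.2.2.2.2.2.2.1]; rfl

theorem theta_y {z : Equiv.Perm (Fin 5)} (hz3 : z ^ 3 = 1) (hz1 : z ≠ 1) {g : G}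
    (h : IsConj (F.cb.ι z) g) : S.theta g = 0 := by
  haveI : Fact (Nat.Prime 3) := ⟨Nat.prime_three⟩
  have ho : orderOf g = 3 := by
    rw [orderOf_eq_of_isConj h, orderOf_injective F.cb.ι F.cb.inj]; exact orderOf_eq_prime hz3 hz1
  rw [S.theta_of_order ho (by norm_num) (by omega)
    (fun _ h' => F.not_isConj_six hz3 hz1 (h'.trans h.symm)) (by omega) (by omega) (by omega)]
  rfl

theorem theta_bmul {p : Equiv.Perm (Fin 5)} (hp : p ^ 15 = 1) : S.theta (S.b * F.cb.ι p) = 0 := by
  haveI : Fact (Nat.Prime 3) := ⟨Nat.prime_three⟩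
  haveI : Fact (Nat.Prime 5) := ⟨by norm_num⟩
  by_cases hp1 : p = 1
  · rw [hp1, map_one, mul_one, S.theta_of_order S.orderOf_b (by norm_num) (fun _ => S.not_isConj_b)
      (by omega) (by omega) (by omega) (by omega)]
    rfl
  have hord : orderOf (S.b * F.cb.ι p) = 2 * orderOf p := by
    rw [(F.cb.comm_b p).orderOf_mul_eq_mul_orderOf_of_coprime, S.orderOf_b,
      orderOf_injective F.cb.ι F.cb.inj]
    rw [S.orderOf_b, orderOf_injective F.cb.ι F.cb.inj, Nat.coprime_two_left]
    exact Odd.of_dvd_nat (by decide) (orderOf_dvd_of_pow_eq_one hp)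
  rcases fifteen p hp with h | h
  · rw [orderOf_eq_prime h hp1] at hord
    rw [S.theta_of_order hord (by norm_num) (by omega) (by omega) (by omega) (fun _ hc => ?_) (by omega)]
    · rfl
    · have h3 := isConj_pow hc 3
      rw [← S.f_pow, eight_pow.2.2.1, S.f_t, F.cb.bmul_pow, h, map_one, mul_one, pow_succ, sq, S.b_sq,
        one_mul] at h3
      exact S.not_isConj_b h3
  · rw [orderOf_eq_prime h hp1] at hord
    rw [S.theta_of_order hord (by norm_num) (by omega) (by omega) (by omega) (by omega) (by omega)]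
    rfl

/-- The class function, with complex values. -/
theorem isClassFunction_theta : IsClassFunction G fun g => (S.theta g : ℂ) := fun g h => by
  show (S.theta (h * g * h⁻¹) : ℂ) = _
  rw [S.theta_conj]

/-- Transport along conjugation. -/
theorem gen_of_conj {E L : Subgroup G} (h : G) (hEL : ∀ v ∈ E, h * v * h⁻¹ ∈ L)
    (hL : IsGeneralizedCharacter L fun v : L => (S.theta v : ℂ)) :
    IsGeneralizedCharacter E fun v : E => (S.theta v : ℂ) := by
  have := hL.comp (H := E) (((MulAut.conj h).toMonoidHom.comp E.subtype).codRestrict L fun v => hEL v v.2)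
  convert this using 1
  funext v
  show (S.theta v : ℂ) = (S.theta (h * (v : G) * h⁻¹) : ℂ)
  rw [S.theta_conj]

theorem gen_centralizer_t :
    IsGeneralizedCharacter (centralizer ({S.t} : Set G)) fun v : centralizer ({S.t} : Set G) => (S.theta v : ℂ) := by
  choose idx hidx using fun v : centralizer ({S.t} : Set G) =>
    (S.mem_iff (v : G)).1 (mem_centralizer_singleton_iff.1 v.2)
  let π : centralizer ({S.t} : Set G) →* Equiv.Perm (Fin 12) :=
    MonoidHom.mk' (fun v => el (idx v)) fun v w => by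
      rw [← el_mul]
      congr 1
      exact S.inj (by rw [S.fmul, hidx, hidx, hidx]; rfl)
  have h := (Cfsg.Lib.Char.isCharacter_fixedCount π).isGeneralized
  convert h using 1
  funext v
  rw [← hidx v, F.theta_f, ← fix_el, Int.cast_natCast]
  refine congrArg (fun n : ℕ => (n : ℂ)) (congrArg Finset.card (Finset.ext fun p => ?_))
  simp only [Finset.mem_filter, Finset.mem_univ, true_and]
  show _ ↔ el (idx v) p = p
  rw [← Fin.val_inj, show ((el (idx v) p : Fin 12) : ℕ) = pk (Table.perm (idx v)) (p : ℕ) from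
    elFun_val (idx v) p]

theorem gen_of_invol {E : Subgroup G} {w : G} (hw : IsConj S.t w) (hle : ∀ v ∈ E, v * w = w * v) :
    IsGeneralizedCharacter E fun v : E => (S.theta v : ℂ) := by
  obtain ⟨h, hh⟩ := isConj_iff.1 hw.symm
  refine F.gen_of_conj h (fun v hv => mem_centralizer_singleton_iff.2 ?_) F.gen_centralizer_t
  rw [← hh, conj_mul, conj_mul, hle v hv]

theorem gen_sylow_three {T : Subgroup G} {g₁ g₂ : G} {z : Equiv.Perm (Fin 5)} (hz3 : z ^ 3 = 1)
    (hz1 : z ≠ 1) (hT : Nat.card T = 27) (h6T : S.f 6 ∈ T) (hTc : ∀ v ∈ T, S.f 6 * v = v * S.f 6)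
    (h1T : g₁ ∈ T) (h2T : g₂ ∈ T) (h1Z : g₁ ∉ zpowers (S.f 6))
    (hK1 : Nat.card ↥(T ⊓ centralizer ({g₁} : Set G)) = 9)
    (hK2 : Nat.card ↥(T ⊓ centralizer ({g₂} : Set G)) = 9)
    (hmeet : ∀ v, v ∈ T ⊓ centralizer ({g₁} : Set G) → v ∈ T ⊓ centralizer ({g₂} : Set G) →
      v ∈ zpowers (S.f 6))
    (hX : ∀ v ∈ T, v ≠ 1 → (IsConj (S.f 6) v ↔
      v ∈ T ⊓ centralizer ({g₁} : Set G) ∨ v ∈ T ⊓ centralizer ({g₂} : Set G))) :
    IsGeneralizedCharacter T fun v : T => (S.theta v : ℂ) := by
  haveI : Fact (Nat.Prime 3) := ⟨Nat.prime_three⟩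
  haveI := Fintype.ofFinite T
  set K1 := (T ⊓ centralizer ({g₁} : Set G)).subgroupOf T with hK1d
  set K2 := (T ⊓ centralizer ({g₂} : Set G)).subgroupOf T with hK2d
  set Z := (zpowers (S.f 6)).subgroupOf T with hZd
  have h6 := F.orderOf_six
  have hc1 : Nat.card K1 = 9 := by
    rw [Nat.card_congr (subgroupOfEquivOfLe inf_le_left).toEquiv, hK1]
  have hc2 : Nat.card K2 = 9 := by
    rw [Nat.card_congr (subgroupOfEquivOfLe inf_le_left).toEquiv, hK2]
  have hcZ : Nat.card Z = 3 := by
    rw [Nat.card_congr (subgroupOfEquivOfLe (zpowers_le.2 h6T)).toEquiv, Nat.card_zpowers, h6]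
  let zT : T := ⟨S.f 6, h6T⟩
  have hzc : ∀ v : T, v * zT = zT * v := fun v => Subtype.ext (hTc v v.2).symm
  have hzo : orderOf zT = 3 := by rw [orderOf_mk, h6]
  have hZ12 : ∀ v : T, v ∈ Z → v ∈ K1 ∧ v ∈ K2 := by
    intro v hv
    obtain ⟨k, hk⟩ := mem_zpowers_iff.1 (mem_subgroupOf.1 hv)
    have hcm : ∀ g ∈ T, (v : G) * g = g * v := fun g hg => by
      rw [← hk]; exact ((show Commute (S.f 6) g from hTc g hg).zpow_left k).eq
    exact ⟨mem_subgroupOf.2 (mem_inf.2 ⟨v.2, mem_centralizer_singleton_iff.2 (hcm g₁ h1T)⟩),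
      mem_subgroupOf.2 (mem_inf.2 ⟨v.2, mem_centralizer_singleton_iff.2 (hcm g₂ h2T)⟩)⟩
  refine Cfsg.Lib.Char.isGeneralizedCharacter_iff.2 ⟨fun g h => ?_, fun χ hχ => ?_⟩
  · show (S.theta ((h : G) * (g : G) * (h : G)⁻¹) : ℂ) = _
    rw [S.theta_conj]
  have hform : ∀ v : T, (S.theta v : ℂ) = (if v = 1 then 9 else 0) + (if v ∈ K1 then 3 else 0) +
      (if v ∈ K2 then 3 else 0) - (if v ∈ Z then 3 else 0) := by
    intro v
    by_cases hv1 : v = 1
    · subst hv1
      rw [if_pos rfl, if_pos (one_mem _), if_pos (one_mem _), if_pos (one_mem _), OneMemClass.coe_one,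
        F.theta_one]
      norm_num
    have hv1' : (v : G) ≠ 1 := fun e => hv1 (Subtype.ext e)
    rw [if_neg hv1]
    have hiff := hX v v.2 hv1'
    have hm1 : v ∈ K1 ↔ (v : G) ∈ T ⊓ centralizer ({g₁} : Set G) := mem_subgroupOf
    have hm2 : v ∈ K2 ↔ (v : G) ∈ T ⊓ centralizer ({g₂} : Set G) := mem_subgroupOf
    by_cases hXv : IsConj (S.f 6) (v : G)
    · rw [F.theta_six hXv]
      by_cases h1 : v ∈ K1 <;> by_cases h2 : v ∈ K2
      · have hvZ : v ∈ Z := mem_subgroupOf.2 (hmeet v (hm1.1 h1) (hm2.1 h2))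
        simp [h1, h2, hvZ]
      · have hvZ : v ∉ Z := fun h => h2 (hZ12 v h).2
        simp [h1, h2, hvZ]
      · have hvZ : v ∉ Z := fun h => h1 (hZ12 v h).1
        simp [h1, h2, hvZ]
      · exact ((hiff.1 hXv).elim (fun h => h1 (hm1.2 h)) fun h => h2 (hm2.2 h)).elim
    · have h1 : v ∉ K1 := fun h => hXv (hiff.2 (Or.inl (hm1.1 h)))
      have h2 : v ∉ K2 := fun h => hXv (hiff.2 (Or.inr (hm2.1 h)))
      have hvZ : v ∉ Z := fun h => h1 (hZ12 v h).1
      have hd : orderOf (v : G) ∣ 27 := hT ▸ Subgroup.orderOf_dvd_natCard T v.2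
      have hy := (F.order_three hz3 hz1 (Odd.of_dvd_nat (by decide) hd) hv1'
        (fun e => by rw [e] at hd; norm_num at hd) (fun e => by rw [e] at hd; norm_num at hd)).resolve_left hXv
      rw [F.theta_y hz3 hz1 hy]
      simp [h1, h2, hvZ]
  have hsub : ∀ (M : Subgroup T) (c : ℂ), ∃ n : ℕ,
      ∑ g, (if g ∈ M then c else 0) * conj (χ g) = c * (Nat.card M : ℂ) * n := by
    intro M c
    haveI := Fintype.ofFinite M
    obtain ⟨n, hn⟩ := (Cfsg.Lib.Char.isCharacter_one (G := M)).exists_nat_classInner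
      (hχ.isCharacter.comp M.subtype)
    refine ⟨n, ?_⟩
    rw [← hn, classInner, mul_assoc, ← mul_assoc (Nat.card M : ℂ),
      mul_inv_cancel₀ (Nat.cast_ne_zero.2 Nat.card_pos.ne'), one_mul, Finset.mul_sum]
    simp only [ite_mul, zero_mul]
    rw [← Finset.sum_filter, Finset.sum_subtype (p := fun g => g ∈ M) _ (fun g => by simp)
      fun g => c * conj (χ g)]
    exact Finset.sum_congr rfl fun m _ => by rw [one_mul]; rfl
  obtain ⟨n₁, hn₁⟩ := hsub K1 3
  obtain ⟨n₂, hn₂⟩ := hsub K2 3
  obtain ⟨n₃, hn₃⟩ := hsub Z 3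
  have hkey : ∃ k : ℤ, (charDegree χ : ℤ) - n₃ = 3 * k := by
    set d := charDegree χ with hd
    have hd1 : χ 1 = (d : ℂ) := hχ.apply_one_eq_charDegree
    have hd0 : (d : ℂ) ≠ 0 := Nat.cast_ne_zero.2 hχ.charDegree_pos.ne'
    have hmul : ∀ g : T, χ (g * zT) = χ g * χ zT / (d : ℂ) := by
      intro g
      have h := Cfsg.Lib.Char.sum_char_mul_conj hχ g zT
      rw [Finset.sum_congr rfl fun x _ => by rw [hzc x, mul_inv_cancel_right], Finset.sum_const,
        Finset.card_univ, ← Nat.card_eq_fintype_card, nsmul_eq_mul, hd1] at h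
      have hT0 : (Nat.card T : ℂ) ≠ 0 := Nat.cast_ne_zero.2 Nat.card_pos.ne'
      exact mul_left_cancel₀ hT0 (h.trans (by ring))
    set w := χ zT / (d : ℂ) with hw
    have hz1v : χ zT = d * w := by rw [hw, mul_div_cancel₀ _ hd0]
    have hz2v : χ (zT * zT) = d * (w * w) := by rw [hmul, hz1v]; field_simp
    have hw3 : (d : ℂ) * (w * w * w) = d := by
      have h := hmul (zT * zT)
      rw [show zT * zT * zT = 1 from by
        rw [← pow_orderOf_eq_one zT, hzo]; simp [pow_succ], hd1, hz2v, hz1v] at h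
      field_simp at h ⊢
      linear_combination -h
    have hfac : (w - 1) * (1 + w + w * w) = 0 := by
      have := mul_left_cancel₀ hd0 (hw3.trans (mul_one _).symm)
      linear_combination this
    have hZsum : ∑ g, (if g ∈ Z then (3 : ℂ) else 0) * conj (χ g) = 3 * conj ((d : ℂ) * (1 + w + w * w)) := by
      have hZset : (Finset.univ.filter fun g : T => g ∈ Z) = {1, zT, zT * zT} := by
        refine (Finset.eq_of_subset_of_card_le ?_ ?_).symm
        · intro g hg
          simp only [Finset.mem_insert, Finset.mem_singleton] at hg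
          refine Finset.mem_filter.2 ⟨Finset.mem_univ _, ?_⟩
          rcases hg with rfl | rfl | rfl
          exacts [one_mem _, mem_subgroupOf.2 (mem_zpowers _),
            mul_mem (mem_subgroupOf.2 (mem_zpowers _)) (mem_subgroupOf.2 (mem_zpowers _))]
        · have hne1 : zT ≠ 1 := fun e => by rw [e, orderOf_one] at hzo; omega
          have hne2 : zT * zT ≠ 1 := fun e => by
            have := orderOf_dvd_of_pow_eq_one (x := zT) (n := 2) (by rw [sq]; exact e)
            rw [hzo] at this
            omega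
          rw [← Fintype.card_subtype, ← Nat.card_eq_fintype_card, hcZ,
            Finset.card_insert_of_notMem (by simp [hne1.symm, hne2.symm]),
            Finset.card_pair (fun e => hne1 (mul_eq_left.1 e.symm))]
      simp only [ite_mul, zero_mul]
      rw [← Finset.sum_filter, hZset, ← Finset.mul_sum]
      congr 1
      have hne1 : zT ≠ 1 := fun e => by rw [e, orderOf_one] at hzo; omega
      have hne2 : zT * zT ≠ 1 := fun e => by
        have := orderOf_dvd_of_pow_eq_one (x := zT) (n := 2) (by rw [sq]; exact e)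
        rw [hzo] at this
        omega
      rw [Finset.sum_insert (by simp [hne1.symm, hne2.symm]),
        Finset.sum_pair (fun e => hne1 (mul_eq_left.1 e.symm)), hd1, hz1v, hz2v, ← map_add, ← map_add]
      congr 1
      ring
    rw [hn₃, hcZ] at hZsum
    rcases mul_eq_zero.1 hfac with hw1 | hw0
    · have hw1' : w = 1 := sub_eq_zero.1 hw1
      rw [hw1'] at hZsum
      refine ⟨0, ?_⟩
      have h' : (n₃ : ℂ) = (d : ℂ) := by
        simp only [map_mul, map_natCast, map_add, map_one, mul_one] at hZsum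
        push_cast at hZsum
        linear_combination hZsum / 9
      have h'' : n₃ = d := by exact_mod_cast h'
      omega
    · rw [hw0, mul_zero, map_zero, mul_zero] at hZsum
      have h0 : n₃ = 0 := by
        have : (n₃ : ℂ) = 0 := by push_cast at hZsum; linear_combination hZsum / 9
        exact_mod_cast this
      have hdvd : d ∣ 27 := hT ▸ Cfsg.Lib.Char.charDegree_dvd_card hχ
      have hdne : d ≠ 1 := by
        intro hd'
        obtain ⟨φ, hφ⟩ := Cfsg.Lib.Char.exists_hom_of_degree_one hχ.isCharacter (by rw [hd1, hd', Nat.cast_one])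
        haveI : Nontrivial T := Finite.one_lt_card_iff_nontrivial.1 (by rw [hT]; norm_num)
        have hPT : IsPGroup 3 T := IsPGroup.of_card (n := 3) (by rw [hT]; norm_num)
        haveI := hPT.center_nontrivial
        have hcent : center T ≤ Z := by
          intro v hv
          rw [mem_center_iff] at hv
          exact mem_subgroupOf.2 (hmeet v
            (mem_inf.2 ⟨v.2, mem_centralizer_singleton_iff.2 (congrArg Subtype.val (hv ⟨g₁, h1T⟩)).symm⟩)
            (mem_inf.2 ⟨v.2, mem_centralizer_singleton_iff.2 (congrArg Subtype.val (hv ⟨g₂, h2T⟩)).symm⟩))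
        have hzero : ∀ a b : T, φ (a * b * a⁻¹ * b⁻¹) = 1 := fun a b => by
          rw [map_mul, map_mul, map_mul, map_inv, map_inv, mul_comm (φ a) (φ b), mul_inv_cancel_right,
            mul_inv_cancel]
        -- a nontrivial commutator in the centre
        have hquot : ∀ a b : T, a * b * a⁻¹ * b⁻¹ ∈ center T := by
          have hci : (center T).index ∣ 9 := by
            have h3 : 3 ∣ Nat.card (center T) := by
              obtain ⟨j, hj⟩ := IsPGroup.iff_card.1 (hPT.to_subgroup (center T))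
              rw [hj]
              refine dvd_pow_self 3 fun e => ?_
              rw [e, pow_zero] at hj
              exact absurd hj (Finite.one_lt_card (α := center T)).ne'
            obtain ⟨j, hj⟩ := h3
            have h := (center T).index_mul_card
            rw [hj, hT] at h
            exact ⟨j, by nlinarith⟩
          intro a b
          have hc9 : Nat.card (T ⧸ center T) = (center T).index := rfl
          obtain ⟨j, hj2, hj⟩ := (Nat.dvd_prime_pow Nat.prime_three).1 (show (center T).index ∣ 3 ^ 2 from hci)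
          haveI hcomm : IsMulCommutative (T ⧸ center T) := by
            interval_cases j
            · haveI : Subsingleton (T ⧸ center T) :=
                (Nat.card_eq_one_iff_unique.1 (hc9.trans (by simpa using hj))).1
              exact ⟨⟨fun _ _ => Subsingleton.elim _ _⟩⟩
            · haveI : IsCyclic (T ⧸ center T) := isCyclic_of_prime_card (hc9.trans (by simpa using hj))
              exact ⟨⟨fun x y => IsCyclic.commGroup.mul_comm x y⟩⟩
            · exact ⟨⟨fun x y => IsPGroup.commutative_of_card_eq_prime_sq (hc9.trans hj) x y⟩⟩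
          rw [← QuotientGroup.eq_one_iff]
          simp only [QuotientGroup.mk_mul, QuotientGroup.mk_inv]
          rw [hcomm.is_comm.comm (a : T ⧸ center T) (b : T ⧸ center T), mul_inv_cancel_right, mul_inv_cancel]
        set c : T := ⟨g₁, h1T⟩ * ⟨g₂, h2T⟩ * (⟨g₁, h1T⟩ : T)⁻¹ * (⟨g₂, h2T⟩ : T)⁻¹ with hcdef
        have hc1 : c ≠ 1 := by
          intro e
          have e' : g₁ * g₂ = g₂ * g₁ :=
            mul_inv_eq_iff_eq_mul.1 (mul_inv_eq_one.1 (congrArg Subtype.val e))
          exact h1Z (hmeet g₁ (mem_inf.2 ⟨h1T, mem_centralizer_singleton_iff.2 rfl⟩)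
            (mem_inf.2 ⟨h1T, mem_centralizer_singleton_iff.2 e'⟩))
        have hzc' : zpowers c = Z := zpowers_eq_Z hcZ (hcent (hquot _ _)) hc1
        have hzmem : zT ∈ zpowers c := hzc' ▸ mem_subgroupOf.2 (mem_zpowers _)
        obtain ⟨j, hj⟩ := mem_zpowers_iff.1 hzmem
        have hφz : φ zT = 1 := by rw [← hj, map_zpow, hcdef, hzero, one_zpow]
        have hχz : χ zT = 1 := by rw [hφ]; show (φ zT : ℂ) = 1; rw [hφz, Units.val_one]
        have hw1 : w = 1 := by rw [hw, hχz, hd', Nat.cast_one, div_one]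
        rw [hw1] at hw0
        norm_num at hw0
      obtain ⟨j, hj3, hj⟩ := (Nat.dvd_prime_pow Nat.prime_three).1 (show d ∣ 3 ^ 3 from hdvd)
      obtain ⟨j', rfl⟩ : ∃ j', j = j' + 1 := ⟨j - 1, by
        rcases Nat.eq_zero_or_pos j with e | e
        · rw [e, pow_zero] at hj; exact absurd hj hdne
        · omega⟩
      refine ⟨(3 ^ j' : ℕ), ?_⟩
      rw [h0, hj, pow_succ]
      push_cast
      ring
  obtain ⟨k, hk⟩ := hkey
  refine ⟨k + n₁ + n₂, ?_⟩
  rw [classInner, hT, Finset.sum_congr rfl fun g _ => by rw [hform g, sub_mul, add_mul, add_mul],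
    Finset.sum_sub_distrib, Finset.sum_add_distrib, Finset.sum_add_distrib, hn₁, hn₂, hn₃, hc1, hc2, hcZ]
  simp only [ite_mul, zero_mul, Finset.sum_ite_eq', Finset.mem_univ, if_true, hχ.apply_one_eq_charDegree,
    map_natCast]
  have hk' : (charDegree χ : ℂ) - n₃ = 3 * (k : ℂ) := by exact_mod_cast hk
  push_cast
  field_simp
  linear_combination 9 * hk'
where
  zpowers_eq_Z {H : Type u} [Group H] [Finite H] {Z : Subgroup H} {c : H} (hZ : Nat.card Z = 3) (hc : c ∈ Z)
      (hc1 : c ≠ 1) : zpowers c = Z :=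
    haveI : Fact (Nat.Prime 3) := ⟨Nat.prime_three⟩
    Cfsg.Lib.Small.zpowers_eq_of_prime_card hZ hc hc1

/-- The restrictions to the elementary subgroups. -/
theorem gen_elementary {E : Subgroup G} {p : ℕ} (hp : p.Prime) (hE : IsElementary p E) :
    IsGeneralizedCharacter E fun v : E => (S.theta v : ℂ) := by
  haveI := Fintype.ofFinite E
  haveI : Fact (Nat.Prime 2) := ⟨Nat.prime_two⟩
  haveI : Fact (Nat.Prime 3) := ⟨Nat.prime_three⟩
  haveI : Fact (Nat.Prime 5) := ⟨by norm_num⟩
  have hcl : IsClassFunction E fun v : E => (S.theta v : ℂ) := fun g h => by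
    show (S.theta ((h : G) * (g : G) * (h : G)⁻¹) : ℂ) = _
    rw [S.theta_conj]
  have cent : ∀ q : ℕ, q.Prime → q ∣ Nat.card E → ∃ u : E, orderOf (u : G) = q ∧
      E ≤ centralizer ({(u : G)} : Set G) := fun q hq hd => by
    obtain ⟨u, hu, huo⟩ := exists_central hp hE hq hd
    exact ⟨u, by rw [orderOf_coe, huo], fun v hv => mem_centralizer_singleton_iff.2
      (congrArg Subtype.val (mem_center_iff.1 hu ⟨v, hv⟩))⟩
  by_cases h11 : 11 ∣ Nat.card E
  · obtain ⟨u, hu, hEu⟩ := cent 11 (by norm_num) h11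
    have hd := card_dvd_of_le hEu
    rw [F.eleven_facts.2 _ hu] at hd
    have hc : Nat.card E = 11 := Nat.dvd_antisymm hd h11
    refine gen_of_delta ⊤ 1 1 (by simp [hc]) _ hcl fun v => ?_
    rw [hc, if_pos (mem_top v)]
    by_cases hv : v = 1
    · subst hv; rw [if_pos rfl, OneMemClass.coe_one, F.theta_one]; norm_num
    · haveI : Fact (Nat.Prime 11) := ⟨by norm_num⟩
      rw [if_neg hv, F.theta_eleven (by
        rw [orderOf_coe]
        exact ((Nat.dvd_prime (by norm_num : Nat.Prime 11)).1 (hc ▸ orderOf_dvd_natCard v)).resolve_left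
          fun e => hv (orderOf_eq_one_iff.1 e))]
      norm_num
  by_cases h5 : 5 ∣ Nat.card E
  · obtain ⟨u, hu, hEu⟩ := cent 5 (by norm_num) h5
    have hd := card_dvd_of_le hEu
    rw [F.five_facts.2 _ hu] at hd
    have hMc : Nat.card (zpowers u) = 5 := by rw [Nat.card_zpowers, ← orderOf_coe, hu]
    obtain ⟨a, ha, hidx⟩ : ∃ a : ℕ, a * Nat.card E = 10 ∧ (zpowers u).index * a = 2 := by
      obtain ⟨a, ha⟩ := hd
      refine ⟨a, by rw [ha, mul_comm], ?_⟩
      have h := (zpowers u).index_mul_card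
      rw [hMc] at h
      rw [← h] at ha
      nlinarith
    refine gen_of_delta (zpowers u) a 2 ?_ _ hcl fun v => ?_
    · rw [hMc]
      exact ⟨a, by rw [← Nat.cast_mul, mul_comm (Nat.card E), ha]; norm_num⟩
    by_cases hv : v = 1
    · subst hv
      rw [if_pos rfl, if_pos (one_mem _), OneMemClass.coe_one, F.theta_one, Int.cast_natCast,
        ← Nat.cast_mul, ha]
      norm_num
    rw [if_neg hv, zero_add]
    have hv' : (v : G) ≠ 1 := fun e => hv (Subtype.ext e)
    by_cases hvu : v ∈ zpowers u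
    · have ho : orderOf (v : G) = 5 := by
        rw [orderOf_coe]
        have hvd := Subgroup.orderOf_dvd_natCard _ hvu
        rw [hMc] at hvd
        exact ((Nat.dvd_prime (by norm_num)).1 hvd).resolve_left fun e => hv (orderOf_eq_one_iff.1 e)
      rw [if_pos hvu, F.theta_five ho]
    · rw [if_neg hvu]
      have hvd : orderOf (v : G) ∣ 10 := by
        have := (Subgroup.orderOf_dvd_natCard E v.2).trans (Dvd.intro_left a ha)
        exact this
      have hne5 : orderOf (v : G) ≠ 5 := fun e => by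
        apply hvu
        have hi : (zpowers u).index = 1 ∨ (zpowers u).index = 2 :=
          (Nat.dvd_prime Nat.prime_two).1 (Dvd.intro a hidx)
        rcases hi with hi | hi
        · rw [index_eq_one] at hi; rw [hi]; exact mem_top v
        · have h4 : v = (v ^ 3) ^ 2 := by
            rw [← pow_mul, show 3 * 2 = 5 + 1 from rfl, pow_succ, ← e, orderOf_coe, pow_orderOf_eq_one, one_mul]
          rw [h4]
          exact Subgroup.sq_mem_of_index_two hi _
      have hord : orderOf (v : G) = 2 ∨ orderOf (v : G) = 10 := by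
        have hm : orderOf (v : G) ∈ Nat.divisors 10 := Nat.mem_divisors.2 ⟨hvd, by norm_num⟩
        rw [show Nat.divisors 10 = {1, 2, 5, 10} by decide +kernel] at hm
        simp only [Finset.mem_insert, Finset.mem_singleton] at hm
        rcases hm with e | e | e | e
        exacts [absurd (orderOf_eq_one_iff.1 e) hv', Or.inl e, absurd e hne5, Or.inr e]
      rcases hord with e | e
      · rw [S.theta_of_order e (by norm_num) (fun _ ht => ?_) (by omega) (by omega) (by omega) (by omega)]
        · norm_num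
        · have h1 := card_centralizer_conj ht
          have h2 : (u : G) ∈ centralizer ({(v : G)} : Set G) :=
            mem_centralizer_singleton_iff.2 (mem_centralizer_singleton_iff.1 (hEu v.2)).symm
          have h3 := Subgroup.orderOf_dvd_natCard _ h2
          rw [hu, h1, S.card_centralizer_t] at h3
          norm_num at h3
      · rw [S.theta_of_order e (by norm_num) (by omega) (by omega) (by omega) (by omega) (by omega)]
        norm_num
  have hdvd : Nat.card E ∣ 2 ^ 6 * 27 := by
    have h := card_subgroup_dvd_card E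
    rw [F.card] at h
    exact (((Nat.Prime.coprime_iff_not_dvd (by norm_num)).2 h11).symm).dvd_of_dvd_mul_left
      ((((Nat.Prime.coprime_iff_not_dvd (by norm_num)).2 h5).symm).dvd_of_dvd_mul_left
        (show Nat.card E ∣ 5 * (11 * (2 ^ 6 * 27)) from h))
  obtain ⟨z, hz3, hz1⟩ := three_ex
  by_cases h2 : 2 ∣ Nat.card E
  swap
  · -- a 3-group
    obtain ⟨T, g₁, g₂, hT, h6T, hTc, hconj, h1T, h2T, -, -, h1Z, hK1, hK2, hmeet, hX⟩ := F.three_lines hz3 hz1
    have h27 : Nat.card E ∣ 3 ^ 3 := (Nat.Coprime.pow_right 6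
      ((Nat.Prime.coprime_iff_not_dvd Nat.prime_two).2 h2).symm).dvd_of_dvd_mul_left hdvd
    obtain ⟨j, -, hj⟩ := (Nat.dvd_prime_pow Nat.prime_three).1 h27
    obtain ⟨h, hh⟩ := hconj E (IsPGroup.of_card hj)
    exact F.gen_of_conj h hh (F.gen_sylow_three hz3 hz1 hT h6T hTc h1T h2T h1Z hK1 hK2 hmeet hX)
  obtain ⟨w, hw, hEw⟩ := cent 2 Nat.prime_two h2
  by_cases h3 : 3 ∣ Nat.card E
  swap
  · -- a 2-group
    have h64 : Nat.card E ∣ 2 ^ 6 := (Nat.Coprime.pow_right 3
      ((Nat.Prime.coprime_iff_not_dvd Nat.prime_three).2 h3).symm).dvd_of_dvd_mul_right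
      (show Nat.card E ∣ 2 ^ 6 * 3 ^ 3 from hdvd)
    obtain ⟨j, -, hj⟩ := (Nat.dvd_prime_pow Nat.prime_two).1 h64
    obtain ⟨Q, hQ⟩ := (IsPGroup.of_card hj : IsPGroup 2 E).exists_le_sylow
    obtain ⟨P, hP⟩ := S.exists_sylow
    obtain ⟨h, hh⟩ := MulAction.exists_smul_eq G Q P
    refine F.gen_of_conj h (fun v hv => ?_) F.gen_centralizer_t
    have hm : h * v * h⁻¹ ∈ (P : Subgroup G) := by
      rw [← hh, Sylow.coe_subgroup_smul, mem_smul_pointwise_iff_exists]
      exact ⟨v, hQ hv, rfl⟩
    rw [hP] at hm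
    obtain ⟨i, -, hi⟩ := hm
    exact mem_centralizer_singleton_iff.2 ((S.mem_iff _).2 ⟨i, hi⟩)
  obtain ⟨u, hu, hEu⟩ := cent 3 Nat.prime_three h3
  have huw : (u : G) * w = w * u := mem_centralizer_singleton_iff.1 (hEw u.2)
  have hodd : Odd (orderOf (u : G)) := by rw [hu]; decide
  have hu1 : (u : G) ≠ 1 := fun e => by rw [e, orderOf_one] at hu; omega
  rcases F.inf_cases hodd hu1 hw huw with ⟨-, hwt, -⟩ | ⟨q, hqo, hqu, hqc⟩
  · exact F.gen_of_invol hwt fun v hv => mem_centralizer_singleton_iff.1 (hEw hv)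
  rw [hu] at hqo
  have hq3 : q ^ 3 = 1 := by rw [← hqo, pow_orderOf_eq_one]
  have hq1 : q ≠ 1 := fun e => by rw [e, orderOf_one] at hqo; omega
  have huX : ¬ IsConj (S.f 6) (u : G) := fun h => F.not_isConj_six hq3 hq1 (h.trans hqu.symm)
  have hd := card_dvd_of_le (le_inf hEw hEu)
  rw [hqc, three_count q hq3 hq1] at hd
  obtain ⟨a, ha⟩ := hd
  refine gen_of_delta ⊥ a 0 (by simp) _ hcl fun v => ?_
  rw [Int.cast_zero, ite_self, add_zero]
  by_cases hv : v = 1
  · subst hv
    rw [if_pos rfl, OneMemClass.coe_one, F.theta_one]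
    have h12 : (a : ℕ) * Nat.card E = 12 := by rw [mul_comm]; exact ha.symm
    exact_mod_cast h12.symm
  rw [if_neg hv]
  have hv' : (v : G) ≠ 1 := fun e => hv (Subtype.ext e)
  have hinv_b : ∀ x : G, orderOf x = 2 → (u : G) * x = x * u → ¬ IsConj S.t x := by
    intro x hx hux ht
    rcases F.inf_cases hodd hu1 hx hux with ⟨h, -⟩ | ⟨p', hp', -, hc⟩
    · exact huX h
    · obtain ⟨g, hg⟩ := isConj_iff.1 ht.symm
      obtain ⟨i, hi⟩ := (S.mem_iff (g * (u : G) * g⁻¹)).1 (by rw [← hg, conj_mul, conj_mul, hux])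
      have ho : orderOf (S.f i) = 3 := by rw [hi, ← hu]; exact MulEquiv.orderOf_eq (MulAut.conj g) (u : G)
      rw [S.orderOf_f_cls] at ho
      have h7 : cCls i = 7 := (odd_cls i (by rw [ho])).resolve_left fun e => by
        rw [e] at ho; exact absurd ho (by decide)
      exact huX ((S.isConj_of_cls (cls_of_rep.2.2.2.2.1.trans h7.symm)).trans
        (isConj_iff.2 ⟨g, hi.symm⟩).symm)
  have huv : (u : G) * v = v * u := (mem_centralizer_singleton_iff.1 (hEu v.2)).symm
  obtain ⟨g, hg⟩ := isConj_iff.1 ((F.classes hw).resolve_left (hinv_b _ hw huw)).symm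
  have hgv : g * (v : G) * g⁻¹ * S.b = S.b * (g * (v : G) * g⁻¹) := by
    rw [← hg, conj_mul, conj_mul, mem_centralizer_singleton_iff.1 (hEw v.2)]
  obtain ⟨p', hp'⟩ : ∃ p', g * (u : G) * g⁻¹ = F.cb.ι p' := by
    obtain ⟨p', e | e⟩ := F.cb.cover (g * (u : G) * g⁻¹) (by rw [← hg, conj_mul, conj_mul, huw])
    · exact ⟨p', e⟩
    · exfalso
      have h3' : (g * (u : G) * g⁻¹) ^ 3 = 1 := by
        rw [conj_pow, ← hu, pow_orderOf_eq_one, mul_one, mul_inv_cancel]
      rw [e, F.cb.bmul_pow, pow_succ, sq, S.b_sq, one_mul] at h3'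
      exact F.cb.b_notMem (p' ^ 3)⁻¹ (by rw [map_inv]; exact (eq_inv_of_mul_eq_one_left h3').symm)
  have hp3 : p' ^ 3 = 1 := F.cb.inj (by
    rw [map_pow, ← hp', conj_pow, ← hu, pow_orderOf_eq_one, mul_one, mul_inv_cancel, map_one])
  have hp1 : p' ≠ 1 := fun e => by
    rw [e, map_one, conj_eq_one_iff] at hp'
    exact hu1 hp'
  have hgvu : g * (v : G) * g⁻¹ * F.cb.ι p' = F.cb.ι p' * (g * (v : G) * g⁻¹) := by
    rw [← hp', conj_mul, conj_mul, huv]
  obtain ⟨r, hr⟩ := F.cb.cover _ hgv
  have hrc : r * p' = p' * r := by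
    rcases hr with e | e <;> rw [e] at hgvu
    · exact F.cb.inj (by rw [map_mul, map_mul, hgvu])
    · refine F.cb.inj (mul_left_cancel (a := S.b) ?_)
      rw [map_mul, map_mul, ← mul_assoc, hgvu, ← mul_assoc, ← mul_assoc, (F.cb.comm_b p').eq]
  have hr6 := six_commute p' r hp3 hp1 hrc
  have hv6 : (v : G) ^ 6 = 1 := by
    have h : (g * (v : G) * g⁻¹) ^ 6 = 1 := by
      rcases hr with e | e <;> rw [e]
      · rw [← map_pow, hr6, map_one]
      · rw [F.cb.bmul_pow, hr6, map_one, mul_one, show (6 : ℕ) = 2 * 3 from rfl, pow_mul, sq, S.b_sq, one_pow]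
    rw [conj_pow, conj_eq_one_iff] at h
    exact h
  have hm : orderOf (v : G) ∈ Nat.divisors 6 :=
    Nat.mem_divisors.2 ⟨orderOf_dvd_of_pow_eq_one hv6, by norm_num⟩
  rw [show Nat.divisors 6 = {1, 2, 3, 6} by decide +kernel] at hm
  simp only [Finset.mem_insert, Finset.mem_singleton] at hm
  rcases hm with e | e | e | e
  · exact absurd (orderOf_eq_one_iff.1 e) hv'
  · rw [S.theta_of_order e (by norm_num) (fun _ => hinv_b _ e huv) (by omega) (by omega) (by omega) (by omega)]
    norm_num
  · have hrv : g * (v : G) * g⁻¹ = F.cb.ι r := hr.resolve_right fun e' => by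
      have h3' : (g * (v : G) * g⁻¹) ^ 3 = 1 := by
        rw [conj_pow, ← e, pow_orderOf_eq_one, mul_one, mul_inv_cancel]
      rw [e', F.cb.bmul_pow, pow_succ, sq, S.b_sq, one_mul] at h3'
      exact F.cb.b_notMem (r ^ 3)⁻¹ (by rw [map_inv]; exact (eq_inv_of_mul_eq_one_left h3').symm)
    have hr1 : r ≠ 1 := fun e' => by
      rw [e', map_one, conj_eq_one_iff] at hrv
      exact hv' hrv
    have hr3' : r ^ 3 = 1 := F.cb.inj (by
      rw [map_pow, ← hrv, conj_pow, ← e, pow_orderOf_eq_one, mul_one, mul_inv_cancel, map_one])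
    rw [F.theta_y hr3' hr1 (isConj_iff.2 ⟨g, hrv⟩ : IsConj (v : G) (F.cb.ι r)).symm]
    norm_num
  · rw [S.theta_of_order e (by norm_num) (by omega) (by omega) (by omega) (fun _ hc => ?_) (by omega)]
    · norm_num
    · have h3' := isConj_pow hc 3
      rw [← S.f_pow, eight_pow.2.2.1, S.f_t] at h3'
      refine hinv_b _ ((orderOf_eq_of_isConj h3').trans S.orderOf_t) ?_ h3'
      exact ((show Commute (u : G) (v : G) from huv).pow_right 3).eq

/-- The class function is a generalized character. -/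
theorem theta_gen : IsGeneralizedCharacter G fun g => (S.theta g : ℂ) := by
  haveI := Fintype.ofFinite G
  exact Cfsg.Lib.Char.isGeneralizedCharacter_of_elementary F.isClassFunction_theta
    fun E p hp hE => F.gen_elementary hp hE

variable [Fintype G]

theorem theta_sums : (∑ g, S.theta g) = 95040 ∧ (∑ g, S.theta g * S.theta g) = 190080 := by
  obtain ⟨z, hz3, hz1⟩ := three_ex
  obtain ⟨hA, hB, hP, hQ, -, -, hall⟩ := F.odd_facts hz3 hz1
  have main : ∀ φ : ℤ → ℤ, (∑ g, φ (S.theta g)) =
      495 * (∑ i ∈ Finset.univ.filter (fun i : Fin 192 => hasP cT i = true), φ (cFix i)) + 396 * (45 * φ 0) +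
      (φ 12 + 1760 * φ 3 + 2640 * φ 0 + 9504 * φ 2 + 17280 * φ 1) := by
    intro φ
    rw [← Finset.sum_filter_add_sum_filter_not Finset.univ (fun g : G => 2 ∣ orderOf g)]
    congr 1
    · rw [F.sum_even (fun g => φ (S.theta g)) fun g h => by simp only [S.theta_conj], nsmul_eq_mul,
        nsmul_eq_mul, Finset.sum_congr rfl (fun i _ => congrArg φ (F.theta_f i)),
        Finset.sum_congr rfl (fun p hp => congrArg φ (F.theta_bmul (Finset.mem_filter.1 hp).2)),
        Finset.sum_const, count_evens.2, nsmul_eq_mul]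
      push_cast
      rfl
    set A := Finset.univ.filter fun g : G => IsConj (S.f 6) g with hAd
    set B := Finset.univ.filter fun g : G => IsConj (F.cb.ι z) g with hBd
    set P := Finset.univ.filter fun g : G => orderOf g = 5 with hPd
    set Q := Finset.univ.filter fun g : G => orderOf g = 11 with hQd
    haveI : Fact (Nat.Prime 3) := ⟨Nat.prime_three⟩
    have hoz : orderOf (F.cb.ι z) = 3 := by
      rw [orderOf_injective F.cb.ι F.cb.inj]; exact orderOf_eq_prime hz3 hz1
    have oA : ∀ g ∈ A, orderOf g = 3 := fun g hg =>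
      (orderOf_eq_of_isConj (Finset.mem_filter.1 hg).2).trans F.orderOf_six
    have oB : ∀ g ∈ B, orderOf g = 3 := fun g hg =>
      (orderOf_eq_of_isConj (Finset.mem_filter.1 hg).2).trans hoz
    have oP : ∀ g ∈ P, orderOf g = 5 := fun g hg => (Finset.mem_filter.1 hg).2
    have oQ : ∀ g ∈ Q, orderOf g = 11 := fun g hg => (Finset.mem_filter.1 hg).2
    have hset : (Finset.univ.filter fun g : G => ¬ 2 ∣ orderOf g) = {1} ∪ (A ∪ B ∪ (P ∪ Q)) := by
      ext g
      simp only [Finset.mem_union, Finset.mem_singleton, hAd, hBd, hPd, hQd, Finset.mem_filter,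
        Finset.mem_univ, true_and]
      constructor
      · intro h
        have := hall g h
        tauto
      · rintro (rfl | (h | h) | h | h)
        · rw [orderOf_one]; decide
        · rw [orderOf_eq_of_isConj h, F.orderOf_six]; decide
        · rw [orderOf_eq_of_isConj h, hoz]; decide
        · rw [h]; decide
        · rw [h]; decide
    have d1 : Disjoint ({1} : Finset G) (A ∪ B ∪ (P ∪ Q)) := by
      rw [Finset.disjoint_singleton_left]
      intro h
      simp only [Finset.mem_union] at h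
      have h1 : orderOf (1 : G) = 1 := orderOf_one
      rcases h with (h | h) | h | h
      · have := oA _ h; omega
      · have := oB _ h; omega
      · have := oP _ h; omega
      · have := oQ _ h; omega
    have d2 : Disjoint (A ∪ B) (P ∪ Q) := Finset.disjoint_left.2 fun g h h' => by
      have h1 : orderOf g = 3 := (Finset.mem_union.1 h).elim (oA g) (oB g)
      rcases Finset.mem_union.1 h' with e | e
      · have := oP _ e; omega
      · have := oQ _ e; omega
    have d3 : Disjoint A B := Finset.disjoint_left.2 fun g h h' =>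
      F.not_isConj_six hz3 hz1 ((Finset.mem_filter.1 h).2.trans (Finset.mem_filter.1 h').2.symm)
    have d4 : Disjoint P Q := Finset.disjoint_left.2 fun g h h' => by
      have := oP _ h; have := oQ _ h'; omega
    rw [hset, Finset.sum_union d1, Finset.sum_union d2, Finset.sum_union d3, Finset.sum_union d4,
      Finset.sum_singleton, F.theta_one,
      Finset.sum_congr rfl (fun g hg => by rw [F.theta_six (Finset.mem_filter.1 hg).2] : ∀ g ∈ A, φ (S.theta g) = φ 3),
      Finset.sum_congr rfl (fun g hg => by rw [F.theta_y hz3 hz1 (Finset.mem_filter.1 hg).2] : ∀ g ∈ B, φ (S.theta g) = φ 0),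
      Finset.sum_congr rfl (fun g hg => by rw [F.theta_five (oP g hg)] : ∀ g ∈ P, φ (S.theta g) = φ 2),
      Finset.sum_congr rfl (fun g hg => by rw [F.theta_eleven (oQ g hg)] : ∀ g ∈ Q, φ (S.theta g) = φ 1),
      Finset.sum_const, Finset.sum_const, Finset.sum_const, Finset.sum_const, hA, hB, hP, hQ]
    simp only [nsmul_eq_mul]
    push_cast
    ring
  refine ⟨(main id).trans ?_, (main fun x => x * x).trans ?_⟩
  · simp only [id]
    rw [show (∑ i ∈ Finset.univ.filter (fun i : Fin 192 => hasP cT i = true), (cFix i : ℤ)) = 108 by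
      exact_mod_cast cnt_theta.1]
    norm_num
  · rw [show (∑ i ∈ Finset.univ.filter (fun i : Fin 192 => hasP cT i = true), (cFix i : ℤ) * cFix i) = 240 by
      exact_mod_cast cnt_theta.2]
    norm_num

/-- The irreducible character of degree 11. -/
theorem exists_chi : ∃ χ : IrrCharacter G, ∀ g, (χ : G → ℂ) g = (S.theta g : ℂ) - 1 := by
  set f : G → ℂ := fun g => (S.theta g : ℂ) - 1 with hf
  have hgen : IsGeneralizedCharacter G f :=
    F.theta_gen.sub (Cfsg.Lib.Char.isCharacter_one (G := G)).isGeneralized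
  have hnorm : classInner f f = 1 := by
    rw [classInner, F.card]
    have hs : ∑ g, f g * conj (f g) =
        ((∑ g, S.theta g * S.theta g : ℤ) : ℂ) - 2 * ((∑ g, S.theta g : ℤ) : ℂ) + (Fintype.card G : ℂ) := by
      simp only [hf, map_sub, map_intCast, map_one]
      push_cast
      rw [Finset.mul_sum, Finset.card_univ.symm, Finset.cast_card, ← Finset.sum_sub_distrib,
        ← Finset.sum_add_distrib]
      exact Finset.sum_congr rfl fun g _ => by ring
    rw [hs, F.theta_sums.1, F.theta_sums.2, ← Nat.card_eq_fintype_card, F.card]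
    norm_num
  obtain ⟨ε, μ, hε, hμ⟩ := Cfsg.Lib.Char.exists_signed_irr_of_norm_one hgen hnorm
  refine ⟨μ, fun g => ?_⟩
  have h1 := congrFun hμ 1
  simp only [hf, Pi.smul_apply, smul_eq_mul, F.theta_one, μ.2.apply_one_eq_charDegree] at h1
  rcases hε with rfl | rfl
  · have := congrFun hμ g
    simp only [hf, Pi.smul_apply, smul_eq_mul, Int.cast_one, one_mul] at this
    exact this.symm
  · exfalso
    push_cast at h1
    have h' : ((charDegree (μ : G → ℂ) + 11 : ℕ) : ℂ) = ((0 : ℕ) : ℂ) := by push_cast; linear_combination h1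
    have := Nat.cast_injective h'
    omega

end Facts

end Cfsg.Lib.MTwelveRecog
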