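import Cfsg.Agent.Lib.MTwelveRecog.Eight
import Cfsg.Agent.Lib.MTwelveRecog.Theta
import Cfsg.Agent.Lib.MTwelveRecog.Point

/-!
Two subgroups with large fixed spaces in the representation of degree 11, hence a subgroup of index at
least 12 containing both.
-/

set_option autoImplicit false
set_option linter.style.haveILetI false
set_option linter.unusedSectionVars false
set_option maxRecDepth 100000

namespace Cfsg.Lib.MTwelveRecog

open Cfsg Subgroup
open scoped ComplexConjugate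

universe u

/-- The lower bound for the sum of the class function over a coset of the line. -/
def lowB (i : Fin 192) : ℕ :=
  if i = 0 then 36 else if cCls i = 1 ∨ cCls i = 2 ∨ cCls i = 10 then 9 * cFix i else 0

theorem mP_facts : mP 0 = true ∧ mP cT = true ∧
    (∀ i : Fin 192, mP i = true → mP (cInv i) = true) ∧
    (∀ i : Fin 192, mP i = true → ∀ j : Fin 192, mP j = true → mP (cMul i j) = true) ∧
    ((List.finRange 192).filter mP).length = 16 ∧
    (∀ k : Bool, ∀ i : Fin 192, mP i = true → mask k i = true) ∧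
    (∀ k : Bool, ∀ i : Fin 192, mask k i = true → mask (!k) i = true → mP i = true) := by
  decide +kernel

theorem mP_pow : ∀ i : Fin 192, mP i = true → cCls i = 1 ∨ cCls i = 2 ∨ cCls i = 10 →
    i ≠ 0 ∧ (cPow i 1 = cT ∨ cPow i 2 = cT ∨ cPow i 4 = cT) := by
  decide +kernel

theorem mask_sums : (∀ k : Bool, (∑ i ∈ Finset.univ.filter (fun i => mask k i = true), cFix i) = 144) ∧
    (∑ i ∈ Finset.univ.filter (fun i => mP i = true), cFix i) = 64 ∧
    (∑ i ∈ Finset.univ.filter (fun i => mP i = true), lowB i) = 360 := by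
  decide +kernel

namespace Frame

variable {G : Type u} [Group G] [Finite G] (Φ : Frame G)

/-- The subgroup of order 48 outside the normaliser of the line. -/
def grpA : Subgroup G :=
  Φ.S.sub (mask (!Φ.k)) (mask_facts _).1 (mask_facts _).2.2.2.2.2 (mask_facts _).2.2.2.2.1

/-- The Sylow 2-subgroup of both subgroups of order 48. -/
def grpP : Subgroup G :=
  Φ.S.sub mP mP_facts.1 mP_facts.2.2.2.1 mP_facts.2.2.1

theorem P_le_N {i : Fin 192} (hi : mP i = true) : Φ.S.f i ∈ normalizer (Φ.L.E : Set G) :=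
  (Φ.mem_N i).2 (mP_facts.2.2.2.2.2.1 _ i hi)

/-- The line extended by `grpP`. -/
def grpB : Subgroup G where
  carrier := {g | ∃ e ∈ Φ.L.E, ∃ p, mP p = true ∧ e * Φ.S.f p = g}
  one_mem' := ⟨1, one_mem _, 0, mP_facts.1, by rw [Φ.S.fone, mul_one]⟩
  mul_mem' := by
    rintro _ _ ⟨e, he, p, hp, rfl⟩ ⟨e', he', q, hq, rfl⟩
    refine ⟨e * (Φ.S.f p * e' * (Φ.S.f p)⁻¹), mul_mem he ((mem_normalizer_iff.1 (Φ.P_le_N hp) e').1 he'),
      cMul p q, mP_facts.2.2.2.1 p hp q hq, ?_⟩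
    rw [Φ.S.fmul]
    group
  inv_mem' := by
    rintro _ ⟨e, he, p, hp, rfl⟩
    refine ⟨(Φ.S.f p)⁻¹ * e⁻¹ * Φ.S.f p, ?_, cInv p, mP_facts.2.2.1 p hp, ?_⟩
    · simpa using (mem_normalizer_iff.1 (inv_mem (Φ.P_le_N hp)) e⁻¹).1 (inv_mem he)
    · rw [Φ.S.finv]
      group

/-- The parametrisation of `grpB`. -/
noncomputable def parB : Φ.L.E × {p : Fin 192 // mP p = true} ≃ Φ.grpB :=
  Equiv.ofBijective (fun x => ⟨x.1.1 * Φ.S.f x.2.1, x.1.1, x.1.2, x.2.1, x.2.2, rfl⟩) <| by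
    refine ⟨?_, fun ⟨g, e, he, p, hp, hg⟩ => ⟨(⟨e, he⟩, ⟨p, hp⟩), Subtype.ext hg⟩⟩
    rintro ⟨⟨e, he⟩, ⟨p, hp⟩⟩ ⟨⟨e', he'⟩, ⟨q, hq⟩⟩ heq
    have h' : e * Φ.S.f p = e' * Φ.S.f q := congrArg Subtype.val heq
    have h1 : e'⁻¹ * e = Φ.S.f q * (Φ.S.f p)⁻¹ :=
      calc e'⁻¹ * e = e'⁻¹ * (e * Φ.S.f p) * (Φ.S.f p)⁻¹ := by group
        _ = Φ.S.f q * (Φ.S.f p)⁻¹ := by rw [h']; group
    have h2 := Φ.L.eq_one_of_comm (mul_mem (inv_mem he') he) (by
      rw [h1, ← Φ.S.finv, ← Φ.S.fmul, Φ.S.comm_t])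
    have he_eq : e = e' := (inv_mul_eq_one.1 h2).symm
    subst he_eq
    have hp_eq : p = q := Φ.S.inj (mul_left_cancel h')
    subst hp_eq
    rfl

theorem card_grpA : Nat.card Φ.grpA = 48 :=
  (Φ.S.card_of_pred _ Φ.grpA fun _ => Iff.rfl).trans (mask_facts _).2.2.2.1

theorem card_grpP : Nat.card Φ.grpP = 16 :=
  (Φ.S.card_of_pred _ Φ.grpP fun _ => Iff.rfl).trans mP_facts.2.2.2.2.1

theorem card_grpB : Nat.card Φ.grpB = 144 := by
  have h16 : (Finset.univ.filter fun i => mP i = true).card = 16 := by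
    rw [← mP_facts.2.2.2.2.1, ← List.toFinset_card_of_nodup ((List.nodup_finRange 192).filter mP)]
    congr 1
  rw [← Nat.card_congr Φ.parB, Nat.card_prod, Φ.L.card_E, Nat.card_eq_fintype_card, Fintype.card_subtype,
    h16]

theorem P_le_A : Φ.grpP ≤ Φ.grpA := by
  rintro _ ⟨i, hi, rfl⟩
  exact ⟨i, mP_facts.2.2.2.2.2.1 _ i hi, rfl⟩

theorem P_le_B : Φ.grpP ≤ Φ.grpB := by
  rintro _ ⟨i, hi, rfl⟩
  exact ⟨1, one_mem _, i, hi, one_mul _⟩

theorem E_le_B : Φ.L.E ≤ Φ.grpB := fun e he => ⟨e, he, 0, mP_facts.1, by rw [Φ.S.fone, mul_one]⟩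

variable [IsSimpleGroup G]

theorem theta_nonneg (g : G) : 0 ≤ Φ.S.theta g := by
  unfold Setup.theta
  split_ifs <;> norm_num

/-- An element of order 2, 4 or 8 of `grpP` with `t` as a power moves every nontrivial element of `E`. -/
theorem conj_mem_coset {p : Fin 192} (hp : mP p = true)
    (hpow : cPow p 1 = cT ∨ cPow p 2 = cT ∨ cPow p 4 = cT) {e : G} (he : e ∈ Φ.L.E) :
    IsConj (Φ.S.f p) (e * Φ.S.f p) := by
  classical
  set x := Φ.S.f p with hx
  let τ : Φ.L.E → Φ.L.E := fun a =>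
    ⟨a.1 * (x * a.1⁻¹ * x⁻¹), mul_mem a.2 ((mem_normalizer_iff.1 (Φ.P_le_N hp) _).1 (inv_mem a.2))⟩
  have hτ : Function.Injective τ := by
    rintro ⟨a, ha⟩ ⟨b, hb⟩ hab
    have h' : a * (x * a⁻¹ * x⁻¹) = b * (x * b⁻¹ * x⁻¹) := congrArg Subtype.val hab
    have h1 : Commute (b⁻¹ * a) x :=
      calc b⁻¹ * a * x = b⁻¹ * (a * (x * a⁻¹ * x⁻¹)) * (x * a) := by group
        _ = b⁻¹ * (b * (x * b⁻¹ * x⁻¹)) * (x * a) := by rw [h']
        _ = x * (b⁻¹ * a) := by group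
    have h2 : ∀ n, cPow p n = cT → b⁻¹ * a = 1 := fun n hn =>
      Φ.L.eq_one_of_comm (mul_mem (inv_mem hb) ha) (by
        have := (h1.pow_right n).eq
        rwa [hx, ← Φ.S.f_pow, hn, Φ.S.f_t] at this)
    refine Subtype.ext (inv_mul_eq_one.1 ?_).symm
    rcases hpow with h | h | h
    exacts [h2 1 h, h2 2 h, h2 4 h]
  obtain ⟨⟨a, ha⟩, hae⟩ := (Finite.injective_iff_surjective.1 hτ) ⟨e, he⟩
  refine isConj_iff.2 ⟨a, ?_⟩
  rw [← show a * (x * a⁻¹ * x⁻¹) = e from congrArg Subtype.val hae]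
  group

/-- A subgroup of index at least 12 containing both. -/
theorem exists_big : ∃ K : Subgroup G, Φ.grpA ≤ K ∧ Φ.grpB ≤ K ∧ 12 ≤ K.index := by
  classical
  letI := Fintype.ofFinite G
  have F := Φ.facts
  obtain ⟨χ, hχ⟩ := F.exists_chi
  have h1 : (χ : G → ℂ) 1 = ((11 : ℕ) : ℂ) := by rw [hχ, F.theta_one]; norm_num
  have hne : χ ≠ Cfsg.Lib.Block.trivChar G := fun e => by
    rw [e, Cfsg.Lib.Block.trivChar_coe] at h1
    norm_num at h1
  have hsum : ∀ H : Subgroup G, ∀ [Fintype H], ∑ g : H, (χ : G → ℂ) g =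
      ((∑ g : H, Φ.S.theta g : ℤ) : ℂ) - (Nat.card H : ℂ) := fun H _ => by
    simp only [hχ]
    rw [Finset.sum_sub_distrib, Finset.sum_const, Finset.card_univ, ← Nat.card_eq_fintype_card,
      nsmul_eq_mul, mul_one]
    push_cast
    rfl
  have hmask : ∀ (P : Fin 192 → Bool) (H : Subgroup G) [Fintype H],
      (∀ g, g ∈ H ↔ ∃ i, P i = true ∧ Φ.S.f i = g) →
      (∑ g : H, Φ.S.theta g) = ((∑ i ∈ Finset.univ.filter (fun i => P i = true), cFix i : ℕ) : ℤ) := by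
    intro P H _ hH
    push_cast
    refine (Finset.sum_bij (fun i hi => (⟨Φ.S.f i, (hH _).2 ⟨i, (Finset.mem_filter.1 hi).2, rfl⟩⟩ : H))
      (fun i _ => Finset.mem_univ _) (fun i _ j _ e => Φ.S.inj (congrArg Subtype.val e)) ?_ ?_).symm
    · rintro ⟨g, hg⟩ -
      obtain ⟨i, hi, rfl⟩ := (hH g).1 hg
      exact ⟨i, Finset.mem_filter.2 ⟨Finset.mem_univ _, hi⟩, rfl⟩
    · intro i _
      exact (F.theta_f i).symm
  letI := Fintype.ofFinite Φ.grpA
  letI := Fintype.ofFinite Φ.grpB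
  letI := Fintype.ofFinite Φ.grpP
  have hA : ∑ g : Φ.grpA, (χ : G → ℂ) g = ((Nat.card Φ.grpA * 2 : ℕ) : ℂ) := by
    rw [hsum, hmask _ Φ.grpA fun _ => Iff.rfl, mask_sums.1, Φ.card_grpA]; norm_num
  have hP : ∑ g : Φ.grpP, (χ : G → ℂ) g = ((Nat.card Φ.grpP * 3 : ℕ) : ℂ) := by
    rw [hsum, hmask _ Φ.grpP fun _ => Iff.rfl, mask_sums.2.1, Φ.card_grpP]; norm_num
  obtain ⟨b, hb⟩ := (Cfsg.Lib.Char.isCharacter_one (G := Φ.grpB)).exists_nat_classInner
    (χ.2.isCharacter.comp Φ.grpB.subtype)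
  have hB : ∑ g : Φ.grpB, (χ : G → ℂ) g = ((Nat.card Φ.grpB * b : ℕ) : ℂ) := by
    have h : ∑ g : Φ.grpB, conj ((χ : G → ℂ) g) = (Nat.card Φ.grpB : ℂ) * b := by
      rw [← hb, classInner, ← mul_assoc, mul_inv_cancel₀ (Nat.cast_ne_zero.2 Nat.card_pos.ne'), one_mul]
      exact Finset.sum_congr rfl fun m _ => (one_mul _).symm
    have h' := congrArg conj h
    simp only [map_sum, Complex.conj_conj, map_mul, map_natCast] at h'
    rw [h']
    push_cast
    rfl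
  refine (exists_point hne h1 Φ.grpA Φ.grpB Φ.grpP Φ.P_le_A Φ.P_le_B hA hB hP ?_).imp
    fun K h => ⟨h.1, h.2.1, h.2.2⟩
  -- the fixed space of `grpB`
  have hlow : (360 : ℤ) ≤ ∑ g : Φ.grpB, Φ.S.theta g := by
    letI := Fintype.ofFinite Φ.L.E
    rw [← Equiv.sum_comp Φ.parB, Fintype.sum_prod_type_right, show (360 : ℤ) = ((360 : ℕ) : ℤ) from rfl,
      ← mask_sums.2.2,
      Finset.sum_subtype (p := fun p => mP p = true) _ (fun p => by simp) lowB]
    push_cast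
    refine Finset.sum_le_sum fun p _ => ?_
    show (lowB p.1 : ℤ) ≤ ∑ e : Φ.L.E, Φ.S.theta (e.1 * Φ.S.f p.1)
    rw [lowB]
    split_ifs with h0 hc
    · have hE : ∀ e : Φ.L.E, Φ.S.theta (e.1 * Φ.S.f p.1) = if e = 1 then 12 else 3 := fun e => by
        rw [h0, Φ.S.fone, mul_one]
        split_ifs with he
        · rw [he, OneMemClass.coe_one, F.theta_one]
        · exact F.theta_six (Φ.L.isX _ e.2 fun h => he (Subtype.ext h))
      rw [Finset.sum_congr rfl fun e _ => hE e, Finset.sum_ite, Finset.filter_eq', if_pos (Finset.mem_univ _),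
        Finset.sum_singleton, Finset.sum_const, Finset.filter_ne', Finset.card_erase_of_mem (Finset.mem_univ _),
        Finset.card_univ, ← Nat.card_eq_fintype_card, Φ.L.card_E]
      norm_num
    · have hE : ∀ e : Φ.L.E, Φ.S.theta (e.1 * Φ.S.f p.1) = (cFix p.1 : ℤ) := fun e => by
        obtain ⟨c, hc'⟩ := isConj_iff.1 (Φ.conj_mem_coset p.2 (mP_pow p.1 p.2 hc).2 e.2)
        rw [← hc', Φ.S.theta_conj, F.theta_f]
      rw [Finset.sum_congr rfl fun e _ => hE e, Finset.sum_const, Finset.card_univ,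
        ← Nat.card_eq_fintype_card, Φ.L.card_E, nsmul_eq_mul]
      push_cast
      rfl
    · exact Finset.sum_nonneg fun e _ => Φ.theta_nonneg _
  have hval : ((∑ g : Φ.grpB, Φ.S.theta g : ℤ) : ℂ) = ((144 * (b + 1) : ℤ) : ℂ) := by
    have h := hsum Φ.grpB
    rw [hB, Φ.card_grpB] at h
    push_cast at h ⊢
    linear_combination -h
  have := Int.cast_injective hval
  omega

end Frame

end Cfsg.Lib.MTwelveRecog
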