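import Cfsg.Agent.Lib.MTwelveRecog.Fusion
import Cfsg.Agent.Lib.Coprime.Generation
import Cfsg.Agent.Lib.Core.Cores
import Cfsg.Agent.S3035
import Cfsg.Agent.S0111
import Mathlib.GroupTheory.SpecificGroups.Alternating.Simple

/-!
The centraliser of an involution not conjugate to `t`: it is a 2-group or the product of its centre
with a symmetric group of degree 4 or 5.
-/

set_option autoImplicit false
set_option linter.style.haveILetI false
set_option linter.unusedSectionVars false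
set_option maxRecDepth 100000
set_option maxHeartbeats 800000

namespace Cfsg.Lib.MTwelveRecog

open Cfsg Subgroup

universe u

/-! ### Facts about the table -/

theorem bR_card : ((List.finRange 192).filter (cCm 55)).length = 16 := by decide +kernel

theorem bR_mul : cCm 55 0 = true ∧ cCm 55 cT = true ∧ cCm 55 55 = true ∧
    (∀ i : Fin 192, cCm 55 i = true → cCm 55 (cInv i) = true) ∧
    (∀ i : Fin 192, cCm 55 i = true → ∀ j : Fin 192, cCm 55 j = true → cCm 55 (cMul i j) = true) := by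
  decide +kernel

theorem bR_invol : ∀ i : Fin 192, cCm 55 i = true → cMul i i = 0 →
    i = 0 ∨ cCls i = 4 ∨ i = cT ∨ i = 44 ∨ i = 106 := by
  decide +kernel

theorem cCard_two_pow : ∀ i : Fin 192, cMul i i = 0 → i ≠ 0 → i ≠ cT → cCard i ∣ 32 := by decide +kernel

theorem bR_other : cCls (cMul cT 55) = 4 ∧ cCls (cMul 44 55) = 4 ∧ cCls (cMul 106 55) = 4 ∧
    cCm cT 44 = true ∧ cMul cT 44 = 106 ∧ cCls 44 = 12 ∧ cCls 106 = 12 ∧
    cCm 55 44 = true ∧ cCm 55 106 = true := by
  decide +kernel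

/-- The section of the dihedral quotient. -/
def secD : DihedralGroup 4 → Fin 192
  | .r k => ![0, 24, 14, 132] k
  | .sr k => ![44, 76, 106, 160] k

theorem secD_facts : (∀ d d' : DihedralGroup 4, secD (d * d') = cMul (secD d) (secD d')) ∧
    (∀ d, cCm 55 (secD d) = true) ∧ (∀ d, secD d ≠ 55) ∧ (∀ d, secD d = 0 → d = 1) ∧
    (∀ i : Fin 192, cCm 55 i = true → ∃ d, i = secD d ∨ i = cMul 55 (secD d)) := by
  decide +kernel

theorem dt_cent : ∀ p : Equiv.Perm (Fin 5), p * p = 1 → p ≠ 1 →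
    (Finset.univ.filter fun q => p * q = q * p).card = 8 → Equiv.Perm.sign p = 1 := by
  decide +kernel

theorem dt_cent_four : ∀ p : Equiv.Perm (Fin 4), p * p = 1 → p ≠ 1 →
    (Finset.univ.filter fun q => p * q = q * p).card = 8 → Equiv.Perm.sign p = 1 := by
  decide +kernel

/-- The products of two disjoint transpositions. -/
def isDT {n : ℕ} (p : Equiv.Perm (Fin n)) : Prop := p * p = 1 ∧ p ≠ 1 ∧ Equiv.Perm.sign p = 1

instance {n : ℕ} (p : Equiv.Perm (Fin n)) : Decidable (isDT p) :=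
  inferInstanceAs (Decidable (p * p = 1 ∧ p ≠ 1 ∧ Equiv.Perm.sign p = 1))

theorem dt_conj : ∀ p q : Equiv.Perm (Fin 5), isDT p → isDT q → ∃ c, c * p * c⁻¹ = q := by
  decide +kernel

theorem dt_conj_four : ∀ p q : Equiv.Perm (Fin 4), isDT p → isDT q → ∃ c, c * p * c⁻¹ = q := by
  decide +kernel

theorem dt_others : ∀ p : Equiv.Perm (Fin 5), isDT p → ∃ q q', isDT q ∧ isDT q' ∧ p * q = q * p ∧
    p * q' = q' * p ∧ q ≠ p ∧ q' ≠ p ∧ q ≠ q' := by
  decide +kernel

theorem dt_others_four : ∀ p : Equiv.Perm (Fin 4), isDT p → ∃ q q', isDT q ∧ isDT q' ∧ p * q = q * p ∧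
    p * q' = q' * p ∧ q ≠ p ∧ q' ≠ p ∧ q ≠ q' := by
  decide +kernel

theorem dt_all {n : ℕ} (hn : n = 4 ∨ n = 5) :
    (∀ p : Equiv.Perm (Fin n), p * p = 1 → p ≠ 1 →
      (Finset.univ.filter fun q => p * q = q * p).card = 8 → isDT p) ∧
    (∀ p q : Equiv.Perm (Fin n), isDT p → isDT q → ∃ c, c * p * c⁻¹ = q) ∧
    (∀ p : Equiv.Perm (Fin n), isDT p → ∃ q q', isDT q ∧ isDT q' ∧ p * q = q * p ∧ p * q' = q' * p ∧
      q ≠ p ∧ q' ≠ p ∧ q ≠ q') := by
  rcases hn with rfl | rfl
  · exact ⟨fun p h1 h2 h3 => ⟨h1, h2, dt_cent_four p h1 h2 h3⟩, dt_conj_four, dt_others_four⟩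
  · exact ⟨fun p h1 h2 h3 => ⟨h1, h2, dt_cent p h1 h2 h3⟩, dt_conj, dt_others⟩

namespace Setup

variable {G : Type u} [Group G] (S : Setup G)

/-- The chosen involution not conjugate to `t`. -/
def b : G := S.f 55

/-- The indices centralising `b`, as a subgroup. -/
def rgrp : Subgroup G where
  carrier := {g | ∃ i, cCm 55 i = true ∧ S.f i = g}
  one_mem' := ⟨0, bR_mul.1, S.fone⟩
  mul_mem' := by
    rintro _ _ ⟨i, hi, rfl⟩ ⟨j, hj, rfl⟩
    exact ⟨cMul i j, bR_mul.2.2.2.2 i hi j hj, S.fmul i j⟩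
  inv_mem' := by
    rintro _ ⟨i, hi, rfl⟩
    exact ⟨cInv i, bR_mul.2.2.2.1 i hi, S.finv i⟩

theorem card_rgrp : Nat.card S.rgrp = 16 :=
  (S.card_of_pred (cCm 55) S.rgrp fun _ => Iff.rfl).trans bR_card

theorem orderOf_b : orderOf S.b = 2 := S.orderOf_f (cls_sq 55 (Or.inl cls_reps.1)).1 (by decide)

theorem b_sq : S.b * S.b = 1 := by rw [← sq, ← S.orderOf_b, pow_orderOf_eq_one]

theorem b_ne_one : S.b ≠ 1 := fun h => by
  have := S.orderOf_b
  rw [h, orderOf_one] at this
  norm_num at this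

theorem mem_rgrp {g : G} : g ∈ S.rgrp ↔ g * S.t = S.t * g ∧ g * S.b = S.b * g := by
  constructor
  · rintro ⟨i, hi, rfl⟩
    exact ⟨S.comm_t i, (S.comm_of_cCm hi).symm⟩
  · rintro ⟨h1, h2⟩
    obtain ⟨i, rfl⟩ := (S.mem_iff g).1 h1
    exact ⟨i, S.cCm_of_comm h2.symm, rfl⟩

theorem rgrp_le : S.rgrp ≤ centralizer ({S.b} : Set G) := fun _ hg =>
  mem_centralizer_singleton_iff.2 (S.mem_rgrp.1 hg).2

variable [Finite G]

theorem isConj_ne {i : Fin 192} (h : cCls i = 4) : ¬ IsConj S.t (S.f i) :=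
  fun hc => S.not_isConj_b (hc.trans (S.isConj_cls4 h).symm)

/-- A 2-subgroup of the centraliser of `b` containing the sixteen elements equals their subgroup. -/
theorem eq_rgrp {Q : Subgroup G} (hQ : IsPGroup 2 Q) (hle : S.rgrp ≤ Q)
    (hQb : Q ≤ centralizer ({S.b} : Set G)) : Q = S.rgrp := by
  haveI : Fact (Nat.Prime 2) := ⟨Nat.prime_two⟩
  by_contra hne
  set K := S.rgrp.subgroupOf Q with hK
  have hKne : K ≠ ⊤ := fun h => hne (le_antisymm (subgroupOf_eq_top.1 h) hle)
  have hlt : K < normalizer (K : Set Q) := by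
    haveI := hQ.isNilpotent
    exact Group.normalizerCondition_of_isNilpotent K (lt_top_iff_ne_top.2 hKne)
  obtain ⟨n, hn, hnK⟩ := SetLike.exists_of_lt hlt
  have hnorm : ∀ g ∈ S.rgrp, (n : G) * g * (n : G)⁻¹ ∈ S.rgrp := fun g hg => by
    have h := (mem_normalizer_iff.1 hn ⟨g, hle hg⟩).1 (mem_subgroupOf.2 hg)
    exact mem_subgroupOf.1 h
  obtain ⟨x, hx, y, hy, hxy⟩ := b_comm_ex 55 cls_reps.1
  obtain ⟨x', hx', hxe⟩ := hnorm (S.f x) ⟨x, hx, rfl⟩
  obtain ⟨y', hy', hye⟩ := hnorm (S.f y) ⟨y, hy, rfl⟩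
  have hval : S.f (cComm x' y') = (n : G) * S.t * (n : G)⁻¹ := by
    rw [S.fcomm, hxe, hye, ← S.f_t, ← hxy, S.fcomm]; group
  have hnt : (n : G) * S.t = S.t * (n : G) := by
    rcases b_comm x' y' hx' hy' with e | e <;> rw [e] at hval
    · rw [S.fone] at hval
      exact absurd (conj_eq_one_iff.1 hval.symm) S.t_ne_one
    · rw [S.f_t] at hval
      exact mul_inv_eq_iff_eq_mul.1 hval.symm
  exact hnK (mem_subgroupOf.2 (S.mem_rgrp.2 ⟨hnt, mem_centralizer_singleton_iff.1 (hQb n.2)⟩))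

/-- A 2-element of the centraliser of `b` is conjugate there into the sixteen elements. -/
theorem exists_conj_rgrp {x : G} (hxb : x * S.b = S.b * x) (hx : ∃ k : ℕ, orderOf x = 2 ^ k) :
    ∃ h : G, h * S.b = S.b * h ∧ h * x * h⁻¹ ∈ S.rgrp := by
  haveI : Fact (Nat.Prime 2) := ⟨Nat.prime_two⟩
  set H := centralizer ({S.b} : Set G) with hH
  obtain ⟨P, hP⟩ := (IsPGroup.of_card (p := 2) (n := 4)
    (by rw [Nat.card_congr (subgroupOfEquivOfLe S.rgrp_le).toEquiv, S.card_rgrp]; norm_num) :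
    IsPGroup 2 (S.rgrp.subgroupOf H)).exists_le_sylow
  have hPeq : (P : Subgroup H).map H.subtype = S.rgrp := by
    refine S.eq_rgrp (P.isPGroup'.map _) (fun g hg => ?_) (map_subtype_le _)
    exact ⟨⟨g, S.rgrp_le hg⟩, hP (mem_subgroupOf.2 hg), rfl⟩
  obtain ⟨k, hk⟩ := hx
  set xH : H := ⟨x, mem_centralizer_singleton_iff.2 hxb⟩
  obtain ⟨Q, hQ⟩ := (IsPGroup.of_card (p := 2) (n := k) (by rw [Nat.card_zpowers, orderOf_mk, hk]) :
    IsPGroup 2 (zpowers xH)).exists_le_sylow
  obtain ⟨h, hh⟩ := MulAction.exists_smul_eq H Q P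
  refine ⟨h, mem_centralizer_singleton_iff.1 h.2, ?_⟩
  rw [← hPeq]
  refine ⟨h * xH * h⁻¹, ?_, rfl⟩
  show h * xH * h⁻¹ ∈ (P : Subgroup H)
  rw [← hh, Sylow.coe_subgroup_smul, mem_smul_pointwise_iff_exists]
  exact ⟨xH, hQ (mem_zpowers xH), rfl⟩

variable (hna : S.Fused)
include hna

/-- The members of the four-group of conjugates of `t`. -/
theorem four_isConj {i : Fin 192} (h : i = cT ∨ i = 44 ∨ i = 106) :
    IsConj S.t (S.f i) ∧ cCm 55 i = true ∧ cCls (cMul i 55) = 4 := by
  rcases h with rfl | rfl | rfl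
  · exact ⟨by rw [S.f_t], bR_mul.2.1, bR_other.1⟩
  · exact ⟨hna.a.trans (S.isConj_cls12 bR_other.2.2.2.2.2.1), bR_other.2.2.2.2.2.2.2.1,
      bR_other.2.1⟩
  · exact ⟨hna.a.trans (S.isConj_cls12 bR_other.2.2.2.2.2.2.1),
      bR_other.2.2.2.2.2.2.2.2, bR_other.2.2.1⟩

/-- An element commuting with `b` and a conjugate of `t` centralising `b` has 2-power order. -/
theorem orderOf_dvd_of_comm {v x : G} (hv : IsConj S.t v) (hvb : v * S.b = S.b * v)
    (hxv : x * v = v * x) (hxb : x * S.b = S.b * x) : orderOf x ∣ 32 := by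
  obtain ⟨g, rfl⟩ := isConj_iff.1 hv
  obtain ⟨τ, hτ⟩ := (S.mem_iff (g⁻¹ * S.b * g)).1 (by
    calc g⁻¹ * S.b * g * S.t = g⁻¹ * (S.b * (g * S.t * g⁻¹)) * g := by group
      _ = g⁻¹ * (g * S.t * g⁻¹ * S.b) * g := by rw [hvb]
      _ = S.t * (g⁻¹ * S.b * g) := by group)
  have hτb : IsConj S.b (S.f τ) := isConj_iff.2 ⟨g⁻¹, by rw [hτ]; group⟩
  have hτsq : cMul τ τ = 0 ∧ τ ≠ 0 := S.sq_of_orderOf (by
    rw [hτ, show g⁻¹ * S.b * g = MulAut.conj g⁻¹ S.b by simp, MulEquiv.orderOf_eq, S.orderOf_b])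
  have hτT : τ ≠ cT := fun e => by
    rw [e, S.f_t] at hτb
    exact S.not_isConj_b hτb.symm
  set D := centralizer ({S.t} : Set G) ⊓ centralizer ({S.f τ} : Set G)
  have hy : g⁻¹ * x * g ∈ D := by
    refine mem_inf.2 ⟨mem_centralizer_singleton_iff.2 ?_, mem_centralizer_singleton_iff.2 ?_⟩
    · calc g⁻¹ * x * g * S.t = g⁻¹ * (x * (g * S.t * g⁻¹)) * g := by group
        _ = g⁻¹ * (g * S.t * g⁻¹ * x) * g := by rw [hxv]
        _ = S.t * (g⁻¹ * x * g) := by group
    · rw [hτ]
      calc g⁻¹ * x * g * (g⁻¹ * S.b * g) = g⁻¹ * (x * S.b) * g := by group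
        _ = g⁻¹ * (S.b * x) * g := by rw [hxb]
        _ = g⁻¹ * S.b * g * (g⁻¹ * x * g) := by group
  have h := orderOf_dvd_natCard D hy
  rw [S.card_centralizer_inf, show g⁻¹ * x * g = MulAut.conj g⁻¹ x by simp, MulEquiv.orderOf_eq] at h
  exact h.trans (cCard_two_pow τ hτsq.1 hτsq.2 hτT)

end Setup

/-- The centraliser of `b` as the product of its centre with a symmetric group. -/
structure CentB {G : Type u} [Group G] (S : Setup G) (n : ℕ) where
  /-- the embedding of the symmetric group -/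
  ι : Equiv.Perm (Fin n) →* G
  deg : n = 4 ∨ n = 5
  inj : Function.Injective ι
  comm : ∀ p, ι p * S.b = S.b * ι p
  b_notMem : ∀ p, ι p ≠ S.b
  cover : ∀ h : G, h * S.b = S.b * h → ∃ p, h = ι p ∨ h = S.b * ι p
  isConj_t : ∀ p, IsConj S.t (ι p) ↔ isDT p
  not_isConj_t : ∀ p, ¬ IsConj S.t (S.b * ι p)
  four : ∀ i : Fin 192, i = cT ∨ i = 44 ∨ i = 106 → ∃ p, isDT p ∧ ι p = S.f i

namespace Setup

variable {G : Type u} [Group G] [Finite G] (S : Setup G) (hna : S.Fused)
include hna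

/-- The two possibilities for the centraliser of `b`. -/
theorem centB_cases : (∀ h : G, h * S.b = S.b * h → h ∈ S.rgrp) ∨ ∃ n, Nonempty (CentB S n) := by
  classical
  haveI : Fact (Nat.Prime 2) := ⟨Nat.prime_two⟩
  set H := centralizer ({S.b} : Set G) with hH
  let bH : H := ⟨S.b, mem_centralizer_singleton_iff.2 rfl⟩
  set Z : Subgroup H := zpowers bH with hZ
  have hbc : ∀ h : H, h * bH = bH * h := fun h =>
    Subtype.ext (mem_centralizer_singleton_iff.1 h.2)
  haveI hZn : Z.Normal := ⟨fun z hz h => by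
    obtain ⟨i, rfl⟩ := mem_zpowers_iff.1 hz
    rw [((Commute.zpow_right (hbc h) i).eq), mul_inv_cancel_right]
    exact zpow_mem (mem_zpowers _) i⟩
  have hbo : orderOf bH = 2 := by rw [← orderOf_coe]; exact S.orderOf_b
  have hZmem : ∀ z : H, z ∈ Z → z = 1 ∨ z = bH := by
    intro z hz
    rw [hZ, ← mem_powers_iff_mem_zpowers] at hz
    obtain ⟨i, rfl⟩ := hz
    show bH ^ i = 1 ∨ bH ^ i = bH
    rw [← pow_mod_orderOf, hbo]
    rcases Nat.mod_two_eq_zero_or_one i with e | e <;> simp [e]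
  let π := QuotientGroup.mk' Z
  have hπ : ∀ h h' : H, π h = π h' → (h : G) = h' ∨ (h' : G) = h * S.b := by
    intro h h' e
    rcases hZmem _ (QuotientGroup.eq.1 e) with e1 | e1
    · exact Or.inl (congrArg Subtype.val (inv_mul_eq_one.1 e1))
    · exact Or.inr (congrArg Subtype.val (inv_mul_eq_iff_eq_mul.1 e1))
  let secH : DihedralGroup 4 → H := fun d =>
    ⟨S.f (secD d), S.rgrp_le ⟨secD d, secD_facts.2.1 d, rfl⟩⟩
  let ψ : DihedralGroup 4 →* H ⧸ Z :=
    MonoidHom.mk' (fun d => π (secH d)) fun d d' => by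
      rw [← map_mul]
      refine congrArg π (Subtype.ext ?_)
      show S.f (secD (d * d')) = S.f (secD d) * S.f (secD d')
      rw [secD_facts.1, S.fmul]
  let tH : H := ⟨S.t, S.rgrp_le ⟨cT, bR_mul.2.1, S.f_t⟩⟩
  set tq : H ⧸ Z := π tH with htq
  have htne : tq ≠ 1 := fun e => by
    rcases hπ 1 tH e.symm with e1 | e1
    · exact S.t_ne_one e1.symm
    · exact S.not_isConj_b (by rw [show S.f 55 = S.b from rfl, show S.b = S.t by
        simpa using e1.symm])
  have htq2 : orderOf tq = 2 := by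
    refine orderOf_eq_prime ?_ htne
    rw [htq, ← map_pow, show tH ^ 2 = 1 from Subtype.ext (by
      show S.t ^ 2 = 1
      rw [sq, S.t_sq]), map_one]
  -- the centraliser of the image of `t`
  have hcent : ∀ h : H, π h * tq = tq * π h → (h : G) ∈ S.rgrp := by
    intro h e
    rw [htq, ← map_mul, ← map_mul] at e
    refine S.mem_rgrp.2 ⟨?_, mem_centralizer_singleton_iff.1 h.2⟩
    rcases hπ _ _ e with e1 | e1
    · exact e1
    · exfalso
      have hc : IsConj S.t (S.f (cMul cT 55)) := isConj_iff.2 ⟨(h : G), by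
        rw [S.fmul, S.f_t]
        show (h : G) * S.t * (h : G)⁻¹ = S.t * S.b
        have hbh := mem_centralizer_singleton_iff.1 h.2
        have e2 : S.t * (h : G) = (h : G) * S.t * S.b := e1
        calc (h : G) * S.t * (h : G)⁻¹ = (h : G) * S.t * (S.b * S.b) * (h : G)⁻¹ := by
              rw [S.b_sq, mul_one]
          _ = ((h : G) * S.t * S.b) * (S.b * (h : G)⁻¹) := by group
          _ = (S.t * (h : G)) * ((h : G)⁻¹ * S.b) := by
              rw [← e2, show S.b * (h : G)⁻¹ = (h : G)⁻¹ * S.b from by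
                rw [eq_inv_mul_iff_mul_eq, ← mul_assoc, hbh, mul_inv_cancel_right]]
          _ = S.t * S.b := by group⟩
      exact S.isConj_ne bR_other.1 hc
  have hψinj : Function.Injective ψ := by
    rw [injective_iff_map_eq_one]
    intro d hd
    rcases hπ 1 (secH d) (by rw [map_one]; exact hd.symm) with e | e
    · exact secD_facts.2.2.2.1 d (S.inj (by rw [S.fone]; exact e.symm))
    · exact absurd (S.inj (e.trans (one_mul _))) (secD_facts.2.2.1 d)
  have hψC : ∀ d, ψ d * tq = tq * ψ d := fun d => by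
    show π (secH d) * π tH = π tH * π (secH d)
    rw [← map_mul, ← map_mul]
    exact congrArg π (Subtype.ext (S.comm_t (secD d)))
  have hψsurj : ∀ y ∈ centralizer ({tq} : Set (H ⧸ Z)), ∃ d, ψ d = y := by
    intro y hy
    obtain ⟨h, rfl⟩ := QuotientGroup.mk'_surjective Z y
    obtain ⟨i, hi, hie⟩ := hcent h (mem_centralizer_singleton_iff.1 hy)
    obtain ⟨d, e | e⟩ := secD_facts.2.2.2.2 i hi
    · exact ⟨d, congrArg π (Subtype.ext (by show S.f (secD d) = h; rw [← e, hie]))⟩
    · refine ⟨d, ?_⟩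
      have he : h = bH * secH d := Subtype.ext (by
        show (h : G) = S.b * S.f (secD d)
        rw [← hie, e, S.fmul]; rfl)
      rw [he, map_mul, show π bH = 1 from (QuotientGroup.eq_one_iff _).2 (mem_zpowers _), one_mul]
      rfl
  let eC : centralizer ({tq} : Set (H ⧸ Z)) ≃* DihedralGroup 4 :=
    (MulEquiv.ofBijective (ψ.codRestrict _ fun d => mem_centralizer_singleton_iff.2 (hψC d))
      ⟨fun d d' e => hψinj (congrArg Subtype.val e), fun y => by
        obtain ⟨d, hd⟩ := hψsurj y y.2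
        exact ⟨d, Subtype.ext hd⟩⟩).symm
  -- the odd core
  have hodd : oddCore (H ⧸ Z) = ⊥ := by
    set N := oddCore (H ⧸ Z) with hN
    haveI hNn : N.Normal := inferInstance
    let vH : {i : Fin 192 // i = cT ∨ i = 44 ∨ i = 106} → H := fun i =>
      ⟨S.f i.1, S.rgrp_le ⟨i.1, (S.four_isConj hna i.2).2.1, rfl⟩⟩
    have hfix : ∀ i, ∀ y ∈ N, y * π (vH i) = π (vH i) * y → y = 1 := by
      intro i y hy e
      obtain ⟨h, rfl⟩ := QuotientGroup.mk'_surjective Z y
      rw [← map_mul, ← map_mul] at e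
      obtain ⟨hT, hRi, hB⟩ := S.four_isConj hna i.2
      have hbh := mem_centralizer_singleton_iff.1 h.2
      have hcomm : (h : G) * S.f i.1 = S.f i.1 * (h : G) := by
        rcases hπ _ _ e with e1 | e1
        · exact e1
        · exfalso
          have e2 : S.f i.1 * (h : G) = (h : G) * S.f i.1 * S.b := e1
          refine S.isConj_ne hB (hT.trans (isConj_iff.2 ⟨(h : G), ?_⟩))
          rw [S.fmul, show S.f 55 = S.b from rfl]
          calc (h : G) * S.f i.1 * (h : G)⁻¹ = (h : G) * S.f i.1 * (S.b * S.b) * (h : G)⁻¹ := by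
                rw [S.b_sq, mul_one]
            _ = ((h : G) * S.f i.1 * S.b) * (S.b * (h : G)⁻¹) := by group
            _ = (S.f i.1 * (h : G)) * ((h : G)⁻¹ * S.b) := by
                rw [← e2, show S.b * (h : G)⁻¹ = (h : G)⁻¹ * S.b from by
                  rw [eq_inv_mul_iff_mul_eq, ← mul_assoc, hbh, mul_inv_cancel_right]]
            _ = S.f i.1 * S.b := by group
      have h32 := S.orderOf_dvd_of_comm hna hT (mem_centralizer_singleton_iff.1 (vH i).2) hcomm hbh
      rw [orderOf_coe] at h32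
      refine orderOf_eq_one_iff.1 (Nat.eq_one_of_dvd_coprimes ?_ ((orderOf_map_dvd π h).trans h32)
        (orderOf_dvd_natCard N hy))
      exact (Nat.Coprime.pow_left 5
        (Nat.Coprime.symm (Cfsg.Lib.Core.pPrimeCore_coprime 2 (H ⧸ Z))) : (2 ^ 5).Coprime _)
    set A : Subgroup (H ⧸ Z) :=
      { carrier := {y | y = 1 ∨ y = π (vH ⟨cT, Or.inl rfl⟩) ∨ y = π (vH ⟨44, Or.inr (Or.inl rfl)⟩) ∨
          y = π (vH ⟨106, Or.inr (Or.inr rfl)⟩)}
        one_mem' := Or.inl rfl
        mul_mem' := by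
          have key : ∀ i j : Fin 192, (i = 0 ∨ i = cT ∨ i = 44 ∨ i = 106) →
              (j = 0 ∨ j = cT ∨ j = 44 ∨ j = 106) →
              (cMul i j = 0 ∨ cMul i j = cT ∨ cMul i j = 44 ∨ cMul i j = 106) := by decide +kernel
          have hrep : ∀ y : H ⧸ Z, (y = 1 ∨ y = π (vH ⟨cT, Or.inl rfl⟩) ∨
              y = π (vH ⟨44, Or.inr (Or.inl rfl)⟩) ∨ y = π (vH ⟨106, Or.inr (Or.inr rfl)⟩)) ↔
              ∃ i : Fin 192, (i = 0 ∨ i = cT ∨ i = 44 ∨ i = 106) ∧ ∃ h : H, (h : G) = S.f i ∧ π h = y := by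
            intro y
            constructor
            · rintro (rfl | rfl | rfl | rfl)
              exacts [⟨0, Or.inl rfl, 1, S.fone.symm, map_one π⟩,
                ⟨cT, Or.inr (Or.inl rfl), _, rfl, rfl⟩, ⟨44, Or.inr (Or.inr (Or.inl rfl)), _, rfl, rfl⟩,
                ⟨106, Or.inr (Or.inr (Or.inr rfl)), _, rfl, rfl⟩]
            · rintro ⟨i, rfl | rfl | rfl | rfl, h, he, rfl⟩
              · exact Or.inl (by
                  rw [show h = 1 from Subtype.ext (he.trans S.fone), map_one])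
              · exact Or.inr (Or.inl (congrArg π (Subtype.ext he)))
              · exact Or.inr (Or.inr (Or.inl (congrArg π (Subtype.ext he))))
              · exact Or.inr (Or.inr (Or.inr (congrArg π (Subtype.ext he))))
          intro y y' hy hy'
          obtain ⟨i, hi, h, he, rfl⟩ := (hrep y).1 hy
          obtain ⟨j, hj, h', he', rfl⟩ := (hrep y').1 hy'
          exact (hrep _).2 ⟨cMul i j, key i j hi hj, h * h', by
            rw [S.fmul, ← he, ← he']; rfl, map_mul π h h'⟩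
        inv_mem' := by
          have key : ∀ i : Fin 192, (i = cT ∨ i = 44 ∨ i = 106) → cMul i i = 0 := by decide +kernel
          have hinv : ∀ i, (π (vH i))⁻¹ = π (vH i) := fun i => by
            refine inv_eq_of_mul_eq_one_right ?_
            rw [← map_mul, show vH i * vH i = 1 from Subtype.ext (by
              show S.f i.1 * S.f i.1 = 1
              rw [← S.fmul, key i.1 i.2, S.fone]), map_one]
          rintro y (rfl | rfl | rfl | rfl)
          · exact Or.inl inv_one
          · exact Or.inr (Or.inl (hinv _))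
          · exact Or.inr (Or.inr (Or.inl (hinv _)))
          · exact Or.inr (Or.inr (Or.inr (hinv _))) } with hA
    have hAsq : ∀ a ∈ A, a * a = 1 := by
      rintro a (rfl | rfl | rfl | rfl)
      · exact one_mul 1
      all_goals
        rw [← map_mul, ← map_one π]
        refine congrArg π (Subtype.ext ?_)
        show S.f _ * S.f _ = 1
        rw [← S.fmul, ← S.fone]
        exact congrArg S.f (by decide +kernel)
    haveI : IsMulCommutative A := ⟨⟨fun a c => Subtype.ext (by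
      have ha := inv_eq_of_mul_eq_one_right (hAsq _ a.2)
      have hc := inv_eq_of_mul_eq_one_right (hAsq _ c.2)
      have hac := inv_eq_of_mul_eq_one_right (hAsq _ (mul_mem a.2 c.2))
      rw [_root_.mul_inv_rev, ha, hc] at hac
      exact hac.symm)⟩⟩
    have hne2 : π (vH ⟨44, Or.inr (Or.inl rfl)⟩) ≠ 1 ∧ π (vH ⟨44, Or.inr (Or.inl rfl)⟩) ≠ tq := by
      constructor <;> intro e
      · rcases hπ 1 _ e.symm with e1 | e1
        · exact absurd (S.inj (e1.symm.trans S.fone.symm)) (by decide)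
        · exact absurd (S.inj (e1.trans (one_mul _))) (by decide)
      · rcases hπ tH _ e.symm with e1 | e1
        · exact absurd (S.inj (e1.symm.trans S.f_t.symm)) (by decide)
        · refine absurd (S.inj (e1.trans ?_)) (show (44 : Fin 192) ≠ cMul cT 55 by decide +kernel)
          rw [S.fmul, S.f_t]; rfl
    have hnc : ¬ IsCyclic A := by
      intro hcyc
      obtain ⟨⟨a, ha⟩, hgen⟩ := IsCyclic.exists_generator (α := A)
      have h2 : ∀ c ∈ A, c = 1 ∨ c = a := by
        intro c hc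
        obtain ⟨i, hi⟩ := mem_zpowers_iff.1 (hgen ⟨c, hc⟩)
        have hi' : a ^ i = c := congrArg Subtype.val hi
        rw [← hi']
        rcases Int.even_or_odd' i with ⟨j, rfl | rfl⟩
        · exact Or.inl (by rw [zpow_mul, zpow_two, hAsq a ha, one_zpow])
        · exact Or.inr (by rw [zpow_add_one, zpow_mul, zpow_two, hAsq a ha, one_zpow, one_mul])
      have e1 := (h2 tq (Or.inr (Or.inl (congrArg π (Subtype.ext S.f_t.symm))))).resolve_left htne
      have e2 := (h2 _ (Or.inr (Or.inr (Or.inl rfl)))).resolve_left hne2.1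
      exact hne2.2 (e2.trans e1.symm)
    have hAN : A ≤ normalizer (N : Set (H ⧸ Z)) := fun a _ => by
      rw [Subgroup.normalizer_eq_top]; exact mem_top a
    have hcop : (Nat.card A).Coprime (Nat.card N) := by
      have hd : Nat.card A ∣ 2 ^ 2 := by
        obtain ⟨k, hk⟩ := IsPGroup.iff_card.1 (show IsPGroup 2 A from fun a => ⟨1, Subtype.ext (by
          rw [pow_one, coe_pow, sq]; exact hAsq _ a.2)⟩)
        rw [hk]
        refine pow_dvd_pow 2 ?_
        by_contra hk3
        have h4 : Nat.card A ≤ 4 := by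
          have hsub : (A : Set (H ⧸ Z)) ⊆ ↑({1, π (vH ⟨cT, Or.inl rfl⟩), π (vH ⟨44, Or.inr (Or.inl rfl)⟩),
              π (vH ⟨106, Or.inr (Or.inr rfl)⟩)} : Finset (H ⧸ Z)) := by
            rintro a (rfl | rfl | rfl | rfl) <;> simp
          have := Set.ncard_le_ncard hsub (Finset.finite_toSet _)
          rw [Set.ncard_coe_finset, ← Nat.card_coe_set_eq] at this
          exact this.trans Finset.card_le_four
        rw [hk] at h4
        have := Nat.pow_le_pow_right (show 1 ≤ 2 by norm_num) (show 3 ≤ k by omega)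
        omega
      exact Nat.Coprime.coprime_dvd_left hd
        (Nat.Coprime.pow_left 2 (Nat.Coprime.symm (Cfsg.Lib.Core.pPrimeCore_coprime 2 (H ⧸ Z))))
    refine le_bot_iff.1 ((Cfsg.Lib.Coprime.le_iSup_centralizer_of_not_isCyclic hnc hAN hcop).trans
      (iSup_le ?_))
    rintro ⟨a, ha, ha1⟩ y hy
    obtain ⟨hyN, hya⟩ := mem_inf.1 hy
    rw [mem_bot]
    rw [mem_centralizer_singleton_iff] at hya
    rcases ha with rfl | rfl | rfl | rfl
    · exact absurd rfl ha1
    all_goals exact hfix _ y hyN hya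
  have build : ∀ n, (n = 4 ∨ n = 5) → (H ⧸ Z ≃* Equiv.Perm (Fin n)) → Nonempty (CentB S n) := by
    intro n hn eQ
    -- a complement of the centre
    let R : Subgroup H := S.rgrp.subgroupOf H
    obtain ⟨P, hP⟩ := (IsPGroup.of_card (p := 2) (n := 4)
      (by rw [Nat.card_congr (subgroupOfEquivOfLe S.rgrp_le).toEquiv, S.card_rgrp]; norm_num) :
      IsPGroup 2 R).exists_le_sylow
    have hPeq : (P : Subgroup H).map H.subtype = S.rgrp := by
      refine S.eq_rgrp (P.isPGroup'.map _) (fun g hg => ?_) (map_subtype_le _)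
      exact ⟨⟨g, S.rgrp_le hg⟩, hP (mem_subgroupOf.2 hg), rfl⟩
    let φD : DihedralGroup 4 →* H := MonoidHom.mk' secH fun d d' => Subtype.ext (by
      show S.f (secD (d * d')) = S.f (secD d) * S.f (secD d')
      rw [secD_facts.1, S.fmul])
    have hDP : φD.range ≤ (P : Subgroup H) := by
      rintro _ ⟨d, rfl⟩
      exact hP (mem_subgroupOf.2 ⟨secD d, secD_facts.2.1 d, rfl⟩)
    have hφi : Function.Injective φD := fun d d' e =>
      hψinj (show π (secH d) = π (secH d') from congrArg π e)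
    have hrel : φD.range.relIndex (P : Subgroup H) = 2 := by
      have h1 := (φD.range.subgroupOf (P : Subgroup H)).index_mul_card
      have h2 : Nat.card (P : Subgroup H) = 16 := by
        rw [← Subgroup.card_map_of_injective (K := (P : Subgroup H)) H.subtype_injective, hPeq, S.card_rgrp]
      rw [Nat.card_congr (subgroupOfEquivOfLe hDP).toEquiv,
        ← Nat.card_congr (MonoidHom.ofInjective hφi).toEquiv, DihedralGroup.nat_card, h2] at h1
      rw [relIndex]; omega
    have hbP : bH ∈ (P : Subgroup H) := hP (mem_subgroupOf.2 ⟨55, bR_mul.2.2.1, rfl⟩)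
    have hbD : bH ∉ φD.range := by
      rintro ⟨d, hd⟩
      exact secD_facts.2.2.1 d (S.inj (congrArg Subtype.val hd))
    obtain ⟨M, hMn, hMi, hbM⟩ := (Cfsg.Agent.S0111.result P φD.range hDP hrel bH hbo hbP hbD).resolve_right
      (fun ⟨g, hg⟩ => hbD (by rwa [hbc g, mul_inv_cancel_right] at hg))
    haveI := hMn
    have hbij : Function.Bijective fun m : M => π (m : H) := by
      refine ⟨fun m m' e => ?_, fun y => ?_⟩
      · rcases hπ _ _ e with e1 | e1
        · exact Subtype.ext (Subtype.ext e1)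
        · exfalso
          apply hbM
          have e2 : (m' : H) = (m : H) * bH := Subtype.ext e1
          rw [show bH = (m : H)⁻¹ * (m' : H) by rw [e2]; group]
          exact mul_mem (inv_mem m.2) m'.2
      · obtain ⟨k, rfl⟩ := QuotientGroup.mk'_surjective Z y
        by_cases hk : k ∈ M
        · exact ⟨⟨k, hk⟩, rfl⟩
        · refine ⟨⟨k * bH, ?_⟩, ?_⟩
          · rw [mul_mem_iff_of_index_two hMi]; exact iff_of_false hk hbM
          · show π (k * bH) = π k
            rw [map_mul, show π bH = 1 from (QuotientGroup.eq_one_iff _).2 (mem_zpowers _), mul_one]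
    let e' : M ≃* H ⧸ Z := MulEquiv.ofBijective (π.comp M.subtype) hbij
    let ι : Equiv.Perm (Fin n) →* G :=
      (H.subtype.comp M.subtype).comp (eQ.symm.trans e'.symm).toMonoidHom
    have hιM : ∀ p, ∃ m : M, eQ (e' m) = p ∧ ((m : H) : G) = ι p := fun p =>
      ⟨e'.symm (eQ.symm p), by rw [MulEquiv.apply_symm_apply, MulEquiv.apply_symm_apply], rfl⟩
    have hinj : Function.Injective ι :=
      (H.subtype_injective.comp M.subtype_injective).comp (eQ.symm.trans e'.symm).injective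
    have hιm : ∀ m : M, ι (eQ (e' m)) = ((m : H) : G) := fun m => by
      show (((e'.symm (eQ.symm (eQ (e' m))) : M) : H) : G) = _
      rw [MulEquiv.symm_apply_apply, MulEquiv.symm_apply_apply]
    have hcomm : ∀ p, ι p * S.b = S.b * ι p := fun p => by
      obtain ⟨m, -, hm⟩ := hιM p
      rw [← hm]; exact mem_centralizer_singleton_iff.1 (m : H).2
    have hbn : ∀ p, ι p ≠ S.b := fun p e => by
      obtain ⟨m, -, hm⟩ := hιM p
      exact hbM (by rw [show bH = (m : H) from Subtype.ext (e.symm.trans hm.symm)]; exact m.2)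
    have hcover : ∀ x : G, x * S.b = S.b * x → ∃ p, x = ι p ∨ x = S.b * ι p := by
      intro x hx
      set xH : H := ⟨x, mem_centralizer_singleton_iff.2 hx⟩
      by_cases hk : xH ∈ M
      · exact ⟨_, Or.inl (hιm ⟨xH, hk⟩).symm⟩
      · refine ⟨eQ (e' ⟨bH * xH, by rw [mul_mem_iff_of_index_two hMi]; exact iff_of_false hbM hk⟩),
          Or.inr ?_⟩
        rw [hιm]
        show x = S.b * (S.b * x)
        rw [← mul_assoc, S.b_sq, one_mul]
    -- `t` lies in the complement
    obtain ⟨x, hxC, y, hyC, hxy⟩ := b_comm_ex 55 cls_reps.1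
    have htM : tH ∈ M := by
      let xH : H := ⟨S.f x, S.rgrp_le ⟨x, hxC, rfl⟩⟩
      let yH : H := ⟨S.f y, S.rgrp_le ⟨y, hyC, rfl⟩⟩
      have e : tH = xH * yH * xH⁻¹ * yH⁻¹ := Subtype.ext (by
        show S.t = S.f x * S.f y * (S.f x)⁻¹ * (S.f y)⁻¹
        rw [← S.fcomm, hxy, S.f_t])
      rw [e, mul_mem_iff_of_index_two hMi, mul_mem_iff_of_index_two hMi, mul_mem_iff_of_index_two hMi,
        inv_mem_iff, inv_mem_iff]
      tauto
    set p₀ := eQ (e' ⟨tH, htM⟩) with hp₀
    have hι₀ : ι p₀ = S.t := hιm ⟨tH, htM⟩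
    obtain ⟨hcent8, hdtc, hdto⟩ := dt_all hn
    have hdt0 : isDT p₀ := by
      refine hcent8 p₀ (hinj (by rw [map_mul, hι₀, S.t_sq, map_one])) (fun e => S.t_ne_one ?_) ?_
      · rw [← hι₀, e, map_one]
      · rw [← Fintype.card_subtype, ← Nat.card_eq_fintype_card,
          ← show Nat.card (DihedralGroup 4) = 8 from DihedralGroup.nat_card]
        refine (Nat.card_congr ((Equiv.ofBijective (fun d => (⟨eQ (ψ d), ?_⟩ :
          {q // p₀ * q = q * p₀})) ⟨fun d d' e => hψinj (eQ.injective (congrArg Subtype.val e)), ?_⟩))).symm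
        · show eQ tq * eQ (ψ d) = eQ (ψ d) * eQ tq
          rw [← map_mul, ← map_mul, hψC d]
        · rintro ⟨q, hq⟩
          obtain ⟨y, rfl⟩ := eQ.surjective q
          obtain ⟨d, rfl⟩ := hψsurj y (mem_centralizer_singleton_iff.2
            (eQ.injective (by rw [map_mul, map_mul]; exact hq.symm)))
          exact ⟨d, rfl⟩
    have hdtT : ∀ q, isDT q → IsConj S.t (ι q) := fun q hq => by
      obtain ⟨c, hc⟩ := hdtc p₀ q hdt0 hq
      exact isConj_iff.2 ⟨ι c, by rw [← hι₀, ← map_inv, ← map_mul, ← map_mul, hc]⟩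
    have hfour : ∀ i : Fin 192, i = cT ∨ i = 44 ∨ i = 106 → ∃ p, isDT p ∧ ι p = S.f i := by
      obtain ⟨q, q', hq, hq', hc, hc', hne, hne', hqq⟩ := hdto p₀ hdt0
      have key : ∀ q, isDT q → p₀ * q = q * p₀ → q ≠ p₀ → ι q = S.f 44 ∨ ι q = S.f 106 := by
        intro q hq hc hne
        obtain ⟨i, hi, hie⟩ := S.mem_rgrp.2 ⟨by rw [← hι₀, ← map_mul, ← map_mul, hc], hcomm q⟩
        have hT : IsConj S.t (S.f i) := hie ▸ hdtT q hq
        have hsq : cMul i i = 0 := S.inj (by rw [S.fmul, hie, ← map_mul, hq.1, map_one, S.fone])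
        rcases bR_invol i hi hsq with e | e | e | e | e
        · exact absurd (hinj ((hie.symm.trans (by rw [e, S.fone])).trans (map_one ι).symm)) hq.2.1
        · exact absurd hT (S.isConj_ne e)
        · exact absurd (hinj ((hie.symm.trans (by rw [e, S.f_t])).trans hι₀.symm)) hne
        · exact Or.inl (by rw [← hie, e])
        · exact Or.inr (by rw [← hie, e])
      rintro i (rfl | rfl | rfl)
      · exact ⟨p₀, hdt0, by rw [hι₀, S.f_t]⟩
      · rcases key q hq hc hne, key q' hq' hc' hne' with ⟨e | e, e' | e'⟩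
        exacts [absurd (hinj (e.trans e'.symm)) hqq, ⟨q, hq, e⟩, ⟨q', hq', e'⟩,
          absurd (hinj (e.trans e'.symm)) hqq]
      · rcases key q hq hc hne, key q' hq' hc' hne' with ⟨e | e, e' | e'⟩
        exacts [absurd (hinj (e.trans e'.symm)) hqq, ⟨q', hq', e'⟩, ⟨q, hq, e⟩,
          absurd (hinj (e.trans e'.symm)) hqq]
    have hTdt : ∀ x : G, x * S.b = S.b * x → IsConj S.t x → ∃ q, isDT q ∧ x = ι q := by
      intro x hxb hT
      have hxo : orderOf x = 2 := by
        obtain ⟨g, rfl⟩ := isConj_iff.1 hT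
        rw [show g * S.t * g⁻¹ = MulAut.conj g S.t from rfl, MulEquiv.orderOf_eq]
        exact orderOf_eq_prime (by rw [sq, S.t_sq]) S.t_ne_one
      obtain ⟨k, hk, i, hi, hie⟩ := S.exists_conj_rgrp hxb ⟨1, by rw [hxo, pow_one]⟩
      have hTi : IsConj S.t (S.f i) := hT.trans (isConj_iff.2 ⟨k, hie.symm⟩)
      have hsq := S.sq_of_orderOf (i := i) (by
        rw [hie, show k * x * k⁻¹ = MulAut.conj k x from rfl, MulEquiv.orderOf_eq, hxo])
      have hV : i = cT ∨ i = 44 ∨ i = 106 := by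
        rcases bR_invol i hi hsq.1 with e | e | e
        · exact absurd e hsq.2
        · exact absurd hTi (S.isConj_ne e)
        · exact e
      obtain ⟨q, hq, hqe⟩ := hfour i hV
      have hx' : x = k⁻¹ * ι q * k := by rw [hqe, hie]; group
      obtain ⟨c, e | e⟩ := hcover k hk
      all_goals
        refine ⟨c⁻¹ * q * c, ⟨?_, fun h1 => hq.2.1 ?_, ?_⟩, ?_⟩
      any_goals
        (rw [show c⁻¹ * q * c * (c⁻¹ * q * c) = c⁻¹ * (q * q) * c by group, hq.1, mul_one,
          inv_mul_cancel]; done)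
      any_goals (rw [show q = c * (c⁻¹ * q * c) * c⁻¹ by group, h1]; group; done)
      any_goals (rw [map_mul, map_mul, hq.2.2, map_inv, mul_one, inv_mul_cancel]; done)
      · rw [hx', e, map_mul, map_mul, map_inv]
      · rw [hx', e, map_mul, map_mul, map_inv, _root_.mul_inv_rev, inv_eq_of_mul_eq_one_right S.b_sq]
        calc (ι c)⁻¹ * S.b * ι q * (S.b * ι c) = (ι c)⁻¹ * (S.b * ι q * S.b) * ι c := by group
          _ = (ι c)⁻¹ * ι q * ι c := by
              rw [← hcomm q, mul_assoc (ι q), S.b_sq, mul_one]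
    refine ⟨⟨ι, hn, hinj, hcomm, hbn, hcover,
      fun p => ⟨fun h => ?_, hdtT p⟩, fun p h => ?_, hfour⟩⟩
    · obtain ⟨q, hq, e⟩ := hTdt _ (hcomm p) h
      rw [hinj e]; exact hq
    · obtain ⟨q, hq, e⟩ := hTdt _ (by rw [mul_assoc, hcomm p]) h
      exact hbn (q * p⁻¹) (by rw [map_mul, map_inv, ← e, mul_inv_cancel_right])
  rcases Cfsg.Agent.S3035.result tq htq2 ⟨eC⟩ with h | h | h | h | h
  · left
    intro x hx
    rw [hodd, sup_bot_eq] at h
    refine hcent ⟨x, mem_centralizer_singleton_iff.2 hx⟩ (mem_centralizer_singleton_iff.1 ?_)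
    rw [h]; exact mem_top _
  · obtain ⟨eQ⟩ := h; exact Or.inr ⟨4, build 4 (Or.inl rfl) eQ⟩
  · obtain ⟨eQ⟩ := h; exact Or.inr ⟨5, build 5 (Or.inr rfl) eQ⟩
  all_goals
    exfalso
    have hsimp : IsSimpleGroup (H ⧸ Z) ∧ 2 < Nat.card (H ⧸ Z) := by
      obtain ⟨eQ⟩ := h
      first
        | exact ⟨(MulEquiv.isSimpleGroup_congr eQ).2 Cfsg.Agent.S3035.slThree.1, by
            rw [Nat.card_congr eQ.toEquiv, Cfsg.Agent.S3035.slThree.2]; norm_num⟩
        | exact ⟨(MulEquiv.isSimpleGroup_congr eQ).2 (alternatingGroup.isSimpleGroup (by simp)), by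
            rw [Nat.card_congr eQ.toEquiv, nat_card_alternatingGroup]; simp [Nat.factorial]⟩
    haveI := hsimp.1
    have h2 : ∀ M : Subgroup (H ⧸ Z), M.Normal → M.index ≠ 2 := by
      intro M hM hi
      rcases hM.eq_bot_or_eq_top with e | e
      · rw [e, index_bot] at hi
        omega
      · rw [e, index_top] at hi
        norm_num at hi
    obtain ⟨w, hwR, hw2, hwB, hwb⟩ : ∃ w : Fin 192, cCm 55 w = true ∧ cMul w w = 0 ∧
        cCls w = 4 ∧ cCls (cMul w 55) = 4 ∧ w ≠ 55 := by decide +kernel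
    let wH : H := ⟨S.f w, S.rgrp_le ⟨w, hwR, rfl⟩⟩
    have hwo : orderOf (π wH) = 2 := by
      refine orderOf_eq_prime ?_ fun e => ?_
      · rw [← map_pow, show wH ^ 2 = 1 from Subtype.ext (by
          show S.f w ^ 2 = 1
          rw [sq, ← S.fmul, hw2, S.fone]), map_one]
      · rcases hπ 1 wH (by rw [map_one]; exact e.symm) with e1 | e1
        · exact (cls_sq w (Or.inl hwB)).2.1 (S.inj (e1.symm.trans S.fone.symm))
        · exact hwb.2 (S.inj (e1.trans (one_mul _)))
    obtain ⟨g, hg⟩ := isConj_iff.1 (Cfsg.Lib.Small.CentralizerD8.one_class eC htq2 h2 hwo).symm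
    obtain ⟨k, rfl⟩ := QuotientGroup.mk'_surjective Z g
    rw [htq, ← map_inv, ← map_mul, ← map_mul] at hg
    rcases hπ _ _ hg with e | e
    · exact S.isConj_ne hwB (isConj_iff.2 ⟨(k : G), e⟩)
    · refine S.isConj_ne hwb.1 (isConj_iff.2 ⟨(k : G), ?_⟩)
      rw [S.fmul]
      show (k : G) * S.t * (k : G)⁻¹ = S.f w * S.b
      have e' : S.f w = (k : G) * S.t * (k : G)⁻¹ * S.b := e
      rw [e', mul_assoc _ S.b S.b, S.b_sq, mul_one]

end Setup

end Cfsg.Lib.MTwelveRecog
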