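import Cfsg.Agent.Lib.MTwelveRecog.Sylows

/-!
The elements of odd order and the summation of class functions.
-/

set_option autoImplicit false
set_option linter.style.haveILetI false
set_option linter.unusedSectionVars false
set_option maxRecDepth 100000

namespace Cfsg.Lib.MTwelveRecog

open Cfsg Subgroup Finset

universe u

theorem three_conj : ∀ p q : Equiv.Perm (Fin 5), p ^ 3 = 1 → p ≠ 1 → q ^ 3 = 1 → q ≠ 1 →
    ∃ c, c * p * c⁻¹ = q := by
  decide +kernel

theorem fifteen : ∀ p : Equiv.Perm (Fin 5), p ^ 15 = 1 → p ^ 3 = 1 ∨ p ^ 5 = 1 := by decide +kernel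

theorem count_evens : ((Finset.univ : Finset (Fin 192)).filter fun i => hasP cT i = true).card = 93 ∧
    ((Finset.univ : Finset (Equiv.Perm (Fin 5))).filter fun p => p ^ 15 = 1).card = 45 := by
  decide +kernel

variable {G : Type u} [Group G] [Finite G]

namespace Facts

variable [IsSimpleGroup G] {S : Setup G} (F : Facts S)
include F

theorem card_class (x : G) :
    Nat.card {y : G // IsConj x y} * Nat.card (centralizer ({x} : Set G)) = 95040 :=
  (Cfsg.Lib.Invol.card_conj_mul_centralizer x).trans F.card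

theorem card_class_t : Nat.card {y : G // IsConj S.t y} = 495 := by
  have h := F.card_class S.t
  rw [S.card_centralizer_t] at h
  omega

theorem card_class_b : Nat.card {y : G // IsConj S.b y} = 396 := by
  have h := F.card_class S.b
  rw [S.card_centralizer_b_big F.fused F.cb, show Nat.factorial 5 = 120 from rfl] at h
  omega

/-- An odd part of a centraliser. -/
theorem cofactor {g : G} (hodd : Odd (orderOf g)) (h5 : orderOf g ≠ 5) (h11 : orderOf g ≠ 11)
    (h1 : g ≠ 1) {k : ℕ} (hk : k ≤ 5) (hd : 2 ^ k ∣ Nat.card (centralizer ({g} : Set G)))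
    (hn : ¬ 2 ^ (k + 1) ∣ Nat.card (centralizer ({g} : Set G))) :
    ∃ m, m ∣ 27 ∧ Nat.card (centralizer ({g} : Set G)) = 2 ^ k * m := by
  haveI : Fact (Nat.Prime 5) := ⟨by norm_num⟩
  haveI : Fact (Nat.Prime 11) := ⟨by norm_num⟩
  set C := centralizer ({g} : Set G) with hC
  have key : ∀ q : ℕ, q.Prime → q ≠ 2 → orderOf g ≠ q →
      ∀ n : ℕ, (∀ x : G, orderOf x = q → Nat.card (centralizer ({x} : Set G)) = n) →
      n ∣ 2 * q → ¬ q ∣ Nat.card C := by
    intro q hq hq2 hgq n hn' hnq h
    haveI : Fact q.Prime := ⟨hq⟩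
    obtain ⟨⟨z, hzC⟩, hz⟩ := exists_prime_orderOf_dvd_card' (G := C) q h
    rw [orderOf_mk] at hz
    have hgz : g ∈ centralizer ({z} : Set G) :=
      mem_centralizer_singleton_iff.2 (mem_centralizer_singleton_iff.1 hzC).symm
    have := (Subgroup.orderOf_dvd_natCard _ hgz).trans (hn' z hz ▸ hnq)
    have hgd := (Nat.coprime_two_right.2 hodd).dvd_of_dvd_mul_left this
    rcases (Nat.dvd_prime hq).1 hgd with e | e
    · exact h1 (orderOf_eq_one_iff.1 e)
    · exact hgq e
  have n5 := key 5 (by norm_num) (by norm_num) h5 10 F.five_facts.2 (by norm_num)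
  have n11 := key 11 (by norm_num) (by norm_num) h11 11 F.eleven_facts.2 (by norm_num)
  obtain ⟨m, hm⟩ := hd
  refine ⟨m, ?_, hm⟩
  have hmo : Odd m := Nat.not_even_iff_odd.1 fun ⟨j, hj⟩ => hn ⟨j, by rw [hm, hj]; ring⟩
  have hmd : m ∣ 2 ^ 6 * (5 * (11 * 27)) := by
    have h := card_subgroup_dvd_card C
    rw [F.card, hm] at h
    exact (Dvd.intro_left _ rfl).trans h
  have c5 : Nat.Coprime m 5 := ((Nat.Prime.coprime_iff_not_dvd (by norm_num)).2
    fun h => n5 (hm ▸ Dvd.dvd.mul_left h _)).symm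
  have c11 : Nat.Coprime m 11 := ((Nat.Prime.coprime_iff_not_dvd (by norm_num)).2
    fun h => n11 (hm ▸ Dvd.dvd.mul_left h _)).symm
  exact c11.dvd_of_dvd_mul_left (c5.dvd_of_dvd_mul_left
    ((Nat.Coprime.pow_right 6 (Nat.coprime_two_right.2 hmo)).dvd_of_dvd_mul_left hmd))

/-- An element of odd order with an involution in its centraliser. -/
theorem three_cases {g w : G} (hodd : Odd (orderOf g)) (h5 : orderOf g ≠ 5) (h1 : g ≠ 1)
    (hw : orderOf w = 2) (hgw : g * w = w * g) {z : Equiv.Perm (Fin 5)} (hz3 : z ^ 3 = 1) (hz1 : z ≠ 1) :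
    IsConj (S.f 6) g ∨ IsConj (F.cb.ι z) g := by
  rcases F.inf_cases hodd h1 hw hgw with ⟨h, -⟩ | ⟨p, hp, h, -⟩
  · exact Or.inl h
  right
  have hp120 : orderOf p ∣ 120 := (_root_.orderOf_dvd_natCard _).trans (by
    rw [Nat.card_eq_fintype_card, Fintype.card_perm, Fintype.card_fin]; decide)
  have hp15 : p ^ 15 = 1 := orderOf_dvd_iff_pow_eq_one.1
    ((Nat.Coprime.pow_right 3 (Nat.coprime_two_right.2 (hp ▸ hodd))).dvd_of_dvd_mul_left
      (show orderOf p ∣ 2 ^ 3 * 15 from hp120))
  have hp1 : p ≠ 1 := fun e => by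
    rw [e, orderOf_one] at hp
    exact h1 (orderOf_eq_one_iff.1 hp.symm)
  rcases fifteen p hp15 with e | e
  · obtain ⟨c, hc⟩ := three_conj z p hz3 hz1 e hp1
    exact (F.cb.isConj_ι hc).1.trans h
  · haveI : Fact (Nat.Prime 5) := ⟨by norm_num⟩
    exact absurd (hp.symm.trans (orderOf_eq_prime e hp1)) h5

section sums

open scoped Classical

variable [Fintype G]

theorem mem_zpowers_b {g : G} :
    S.b ∈ zpowers g ↔ ∃ p : Equiv.Perm (Fin 5), p ^ 15 = 1 ∧ g = S.b * F.cb.ι p := by
  constructor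
  · intro h
    have hgb : g * S.b = S.b * g := by
      obtain ⟨k, hk⟩ := mem_zpowers_iff.1 h
      rw [← hk]; exact ((Commute.refl g).zpow_right k).eq
    rw [← mem_powers_iff_mem_zpowers] at h
    obtain ⟨k, hk⟩ := h
    replace hk : g ^ k = S.b := hk
    obtain ⟨p, rfl | rfl⟩ := F.cb.cover g hgb
    · exact absurd ((map_pow _ _ _).trans hk) (F.cb.b_notMem _)
    refine ⟨p, ?_, rfl⟩
    rw [F.cb.bmul_pow] at hk
    rcases Nat.even_or_odd' k with ⟨j, rfl | rfl⟩
    · rw [pow_mul, sq, S.b_sq, one_pow, one_mul] at hk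
      exact absurd hk (F.cb.b_notMem _)
    rw [pow_succ (a := S.b), pow_mul, sq, S.b_sq, one_pow, one_mul, mul_eq_left] at hk
    have hone : p ^ (2 * j + 1) = 1 := F.cb.inj (hk.trans (map_one _).symm)
    have hp120 : orderOf p ∣ 120 := (_root_.orderOf_dvd_natCard _).trans (by
      rw [Nat.card_eq_fintype_card, Fintype.card_perm, Fintype.card_fin]; decide)
    exact orderOf_dvd_iff_pow_eq_one.1
      ((Nat.Coprime.pow_right 3 (Nat.coprime_two_right.2
        (Odd.of_dvd_nat ⟨j, rfl⟩ (orderOf_dvd_of_pow_eq_one hone)))).dvd_of_dvd_mul_left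
        (show orderOf p ∣ 2 ^ 3 * 15 from hp120))
  · rintro ⟨p, hp, rfl⟩
    refine mem_zpowers_iff.2 ⟨(15 : ℕ), ?_⟩
    rw [zpow_natCast, F.cb.bmul_pow, hp, map_one, mul_one, show (15 : ℕ) = 2 * 7 + 1 from rfl, pow_succ,
      pow_mul, sq, S.b_sq, one_pow, one_mul]

/-- The sum of a class function over the elements of even order. -/
theorem sum_even {M : Type*} [AddCommMonoid M] (f : G → M) (hf : ∀ g h : G, f (h * g * h⁻¹) = f g) :
    ∑ g ∈ univ.filter (fun g : G => 2 ∣ orderOf g), f g =
      495 • (∑ i ∈ univ.filter (fun i : Fin 192 => hasP cT i = true), f (S.f i)) +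
      396 • ∑ p ∈ univ.filter (fun p : Equiv.Perm (Fin 5) => p ^ 15 = 1), f (S.b * F.cb.ι p) := by
  set I : Finset G := univ.filter fun w => orderOf w = 2 with hI
  have hinv : ∀ g : G, 2 ∣ orderOf g → orderOf (g ^ (orderOf g / 2)) = 2 := fun g hg => by
    obtain ⟨m, hm⟩ := hg
    have hm0 : 0 < m := by
      have := orderOf_pos g
      omega
    rw [orderOf_pow' g (by omega : orderOf g / 2 ≠ 0), hm, Nat.mul_div_cancel_left m two_pos,
      Nat.gcd_mul_left_left, Nat.mul_div_cancel 2 hm0]
  have hmap : ∀ g ∈ univ.filter (fun g : G => 2 ∣ orderOf g), g ^ (orderOf g / 2) ∈ I := fun g hg =>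
    Finset.mem_filter.2 ⟨Finset.mem_univ _, hinv g (Finset.mem_filter.1 hg).2⟩
  rw [← Finset.sum_fiberwise_of_maps_to hmap]
  let T : G → M := fun w => ∑ g ∈ univ.filter (fun g : G => w ∈ zpowers g), f g
  have hfib : ∀ w ∈ I, ∑ g ∈ (univ.filter (fun g : G => 2 ∣ orderOf g)).filter
      (fun g => g ^ (orderOf g / 2) = w), f g = T w := by
    intro w hw
    have hw2 := (Finset.mem_filter.1 hw).2
    refine Finset.sum_congr ?_ fun _ _ => rfl
    ext g
    simp only [Finset.mem_filter, Finset.mem_univ, true_and]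
    refine ⟨fun h => h.2 ▸ npow_mem_zpowers _ _, fun h => ?_⟩
    have h2 : 2 ∣ orderOf g := by
      have := orderOf_dvd_natCard (zpowers g) h
      rwa [Nat.card_zpowers, hw2] at this
    exact ⟨h2, unique_invol (hinv g h2) hw2 (npow_mem_zpowers _ _) h⟩
  rw [Finset.sum_congr rfl hfib]
  have hTc : ∀ v w : G, IsConj v w → T w = T v := by
    intro v w h
    obtain ⟨c, rfl⟩ := isConj_iff.1 h
    symm
    refine Finset.sum_nbij' (fun g => c * g * c⁻¹) (fun g => c⁻¹ * g * c) ?_ ?_
      (fun g _ => by simp [mul_assoc]) (fun g _ => by simp [mul_assoc]) fun g _ => (hf g c).symm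
    · intro g hg
      simp only [Finset.coe_filter, Finset.mem_filter, Finset.mem_univ, true_and, Set.mem_setOf_eq] at hg ⊢
      obtain ⟨k, rfl⟩ := mem_zpowers_iff.1 hg
      exact mem_zpowers_iff.2 ⟨k, conj_zpow⟩
    · intro g hg
      simp only [Finset.coe_filter, Finset.mem_filter, Finset.mem_univ, true_and, Set.mem_setOf_eq] at hg ⊢
      obtain ⟨k, hk⟩ := mem_zpowers_iff.1 hg
      refine mem_zpowers_iff.2 ⟨k, ?_⟩
      rw [show c⁻¹ * g * c = c⁻¹ * g * c⁻¹⁻¹ by rw [inv_inv], conj_zpow, hk]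
      group
  rw [← Finset.sum_filter_add_sum_filter_not I (fun w => IsConj S.t w)]
  have hcls : ∀ x : G, orderOf x = 2 → (univ.filter fun y : G => IsConj x y).card =
      Nat.card {y : G // IsConj x y} := fun x _ => by
    rw [Nat.card_eq_fintype_card, Fintype.card_subtype]
  have e1 : I.filter (fun w => IsConj S.t w) = univ.filter fun y => IsConj S.t y := by
    ext y
    simp only [hI, Finset.mem_filter, Finset.mem_univ, true_and, and_iff_right_iff_imp]
    exact fun h => (orderOf_eq_of_isConj h).trans S.orderOf_t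
  have e2 : I.filter (fun w => ¬ IsConj S.t w) = univ.filter fun y => IsConj S.b y := by
    ext y
    simp only [hI, Finset.mem_filter, Finset.mem_univ, true_and]
    exact ⟨fun h => (F.classes h.1).resolve_left h.2,
      fun h => ⟨(orderOf_eq_of_isConj h).trans S.orderOf_b, fun h' => S.not_isConj_b (h'.trans h.symm)⟩⟩
  rw [e1, e2, Finset.sum_congr rfl (fun y hy => hTc S.t y (Finset.mem_filter.1 hy).2),
    Finset.sum_congr rfl (fun y hy => hTc S.b y (Finset.mem_filter.1 hy).2), Finset.sum_const,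
    Finset.sum_const, hcls _ S.orderOf_t, hcls _ S.orderOf_b, F.card_class_t, F.card_class_b]
  congr 1
  · congr 1
    symm
    refine Finset.sum_nbij S.f ?_ S.inj.injOn ?_ fun _ _ => rfl
    · intro i hi
      simp only [Finset.coe_filter, Finset.mem_filter, Finset.mem_univ, true_and, Set.mem_setOf_eq] at hi ⊢
      rw [← S.f_t]; exact (S.mem_zpowers_f _ _).2 hi
    · intro g hg
      simp only [Finset.coe_filter, Finset.mem_filter, Finset.mem_univ, true_and, Set.mem_setOf_eq] at hg
      obtain ⟨i, rfl⟩ : ∃ i, S.f i = g := (S.mem_iff g).1 (by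
        obtain ⟨k, hk⟩ := mem_zpowers_iff.1 hg
        rw [← hk]; exact ((Commute.refl g).zpow_right k).eq)
      rw [← S.f_t] at hg
      exact ⟨i, by simpa using (S.mem_zpowers_f _ _).1 hg, rfl⟩
  · congr 1
    symm
    refine Finset.sum_nbij (fun p => S.b * F.cb.ι p) ?_
      (fun p _ q _ h => F.cb.inj (mul_left_cancel h)) ?_ fun _ _ => rfl
    · intro p hp
      simp only [Finset.coe_filter, Finset.mem_filter, Finset.mem_univ, true_and, Set.mem_setOf_eq] at hp ⊢
      exact F.mem_zpowers_b.2 ⟨p, hp, rfl⟩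
    · intro g hg
      simp only [Finset.coe_filter, Finset.mem_filter, Finset.mem_univ, true_and, Set.mem_setOf_eq] at hg
      obtain ⟨p, hp, rfl⟩ := F.mem_zpowers_b.1 hg
      exact ⟨p, by simpa using hp, rfl⟩

theorem card_odd : (univ.filter fun g : G => ¬ 2 ∣ orderOf g).card = 31185 := by
  have h := F.sum_even (fun _ : G => (1 : ℕ)) fun _ _ => rfl
  simp only [← Finset.card_eq_sum_ones, count_evens.1, count_evens.2, smul_eq_mul] at h
  have h2 := Finset.card_filter_add_card_filter_not (s := (univ : Finset G)) (fun g : G => 2 ∣ orderOf g)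
  rw [Finset.card_univ, ← Nat.card_eq_fintype_card, F.card] at h2
  omega

/-- The elements of odd order. -/
theorem odd_facts {z : Equiv.Perm (Fin 5)} (hz3 : z ^ 3 = 1) (hz1 : z ≠ 1) :
    (univ.filter fun g : G => IsConj (S.f 6) g).card = 1760 ∧
    (univ.filter fun g : G => IsConj (F.cb.ι z) g).card = 2640 ∧
    (univ.filter fun g : G => orderOf g = 5).card = 9504 ∧
    (univ.filter fun g : G => orderOf g = 11).card = 17280 ∧
    Nat.card (centralizer ({S.f 6} : Set G)) = 54 ∧
    Nat.card (centralizer ({F.cb.ι z} : Set G)) = 36 ∧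
    ∀ g : G, ¬ 2 ∣ orderOf g →
      g = 1 ∨ IsConj (S.f 6) g ∨ IsConj (F.cb.ι z) g ∨ orderOf g = 5 ∨ orderOf g = 11 := by
  haveI : Fact (Nat.Prime 3) := ⟨Nat.prime_three⟩
  haveI : Fact (Nat.Prime 5) := ⟨by norm_num⟩
  haveI : Fact (Nat.Prime 11) := ⟨by norm_num⟩
  set A := univ.filter fun g : G => IsConj (S.f 6) g with hA
  set B := univ.filter fun g : G => IsConj (F.cb.ι z) g with hB
  set P := univ.filter fun g : G => orderOf g = 5 with hP
  set Q := univ.filter fun g : G => orderOf g = 11 with hQ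
  have hPc : P.card = 9504 := by
    have h := Cfsg.Lib.Small.card_orderOf_eq F.sylow_five_card
    rw [F.five_facts.1, Nat.card_eq_fintype_card, Fintype.card_subtype] at h
    rw [hP]; omega
  have hQc : Q.card = 17280 := by
    have h := Cfsg.Lib.Small.card_orderOf_eq F.sylow_eleven_card
    rw [F.eleven_facts.1, Nat.card_eq_fintype_card, Fintype.card_subtype] at h
    rw [hQ]; omega
  have ho6 : orderOf (S.f 6) = 3 := by rw [S.orderOf_f_cls, cls_of_rep.2.2.2.2.1]; rfl
  have hoz : orderOf (F.cb.ι z) = 3 := by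
    rw [orderOf_injective F.cb.ι F.cb.inj]; exact orderOf_eq_prime hz3 hz1
  have hoA : ∀ g ∈ A, orderOf g = 3 := fun g hg =>
    (orderOf_eq_of_isConj (Finset.mem_filter.1 hg).2).trans ho6
  have hoB : ∀ g ∈ B, orderOf g = 3 := fun g hg =>
    (orderOf_eq_of_isConj (Finset.mem_filter.1 hg).2).trans hoz
  set U := insert (1 : G) (A ∪ B ∪ (P ∪ Q)) with hU
  have hdAB : Disjoint A B := Finset.disjoint_left.2 fun g ha hb =>
    F.not_isConj_six hz3 hz1 ((Finset.mem_filter.1 ha).2.trans (Finset.mem_filter.1 hb).2.symm)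
  have hdPQ : Disjoint P Q := Finset.disjoint_left.2 fun g ha hb => by
    have h1 := (Finset.mem_filter.1 ha).2
    have h2 := (Finset.mem_filter.1 hb).2
    omega
  have hd2 : Disjoint (A ∪ B) (P ∪ Q) := Finset.disjoint_left.2 fun g ha hb => by
    have h1 : orderOf g = 3 := (Finset.mem_union.1 ha).elim (hoA g) (hoB g)
    rcases Finset.mem_union.1 hb with h | h <;> have h2 := (Finset.mem_filter.1 h).2 <;> omega
  have h1U : (1 : G) ∉ A ∪ B ∪ (P ∪ Q) := fun h => by
    have : orderOf (1 : G) = 1 := orderOf_one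
    simp only [Finset.mem_union] at h
    rcases h with (h | h) | (h | h)
    · have := hoA _ h; omega
    · have := hoB _ h; omega
    · have := (Finset.mem_filter.1 h).2; omega
    · have := (Finset.mem_filter.1 h).2; omega
  have hUc : U.card = 1 + A.card + B.card + 26784 := by
    rw [hU, Finset.card_insert_of_notMem h1U, Finset.card_union_of_disjoint hd2,
      Finset.card_union_of_disjoint hdAB, Finset.card_union_of_disjoint hdPQ, hPc, hQc]
    omega
  set O := univ.filter fun g : G => ¬ 2 ∣ orderOf g with hO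
  have hUO : U ⊆ O := by
    intro g hg
    refine Finset.mem_filter.2 ⟨Finset.mem_univ _, ?_⟩
    simp only [hU, Finset.mem_insert, Finset.mem_union] at hg
    rcases hg with rfl | (h | h) | (h | h)
    · rw [orderOf_one]; decide
    · rw [hoA _ h]; decide
    · rw [hoB _ h]; decide
    · rw [(Finset.mem_filter.1 h).2]; decide
    · rw [(Finset.mem_filter.1 h).2]; decide
  have hOc := F.card_odd
  rw [← hO] at hOc
  have hle := Finset.card_le_card hUO
  rw [hUc, hOc] at hle
  have hcls : ∀ x : G, (univ.filter fun g : G => IsConj x g).card *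
      Nat.card (centralizer ({x} : Set G)) = 95040 := fun x => by
    rw [← F.card_class x, Nat.card_eq_fintype_card (α := {y : G // IsConj x y}), Fintype.card_subtype]
  obtain ⟨m, hm, hmC⟩ := F.cofactor (g := S.f 6) (by rw [ho6]; decide) (by omega) (by omega)
    (fun e => by rw [e, orderOf_one] at ho6; omega) (k := 1) (by norm_num)
    (by
      have h := Subgroup.orderOf_dvd_natCard (centralizer ({S.f 6} : Set G))
        (mem_centralizer_singleton_iff.2 (S.comm_t 6).symm : S.t ∈ _)
      rw [S.orderOf_t] at h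
      exact h)
    F.not_four_dvd_six
  obtain ⟨n, hn, hnC⟩ := F.cofactor (g := F.cb.ι z) (by rw [hoz]; decide) (by omega) (by omega)
    (fun e => by rw [e, orderOf_one] at hoz; omega) (k := 2) (by norm_num)
    (by
      have h := card_dvd_of_le
        (inf_le_right : centralizer ({S.b} : Set G) ⊓ centralizer ({F.cb.ι z} : Set G) ≤ _)
      rw [F.cb.card_inf, three_count z hz3 hz1] at h
      exact (show (2 : ℕ) ^ 2 ∣ 2 * 6 by norm_num).trans h)
    (F.not_eight_dvd hz3 hz1)
  have hAm := hcls (S.f 6)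
  have hBn := hcls (F.cb.ι z)
  rw [← hA, hmC] at hAm
  rw [← hB, hnC] at hBn
  have hdiv : ∀ d : ℕ, d ∣ 27 → d = 1 ∨ d = 3 ∨ d = 9 ∨ d = 27 := fun d hd => by
    have h' : d ∈ Nat.divisors 27 := Nat.mem_divisors.2 ⟨hd, by norm_num⟩
    rw [show Nat.divisors 27 = {1, 3, 9, 27} by decide +kernel] at h'
    simpa using h'
  have hm27 : m = 27 ∧ A.card = 1760 := by
    rcases hdiv m hm with h | h | h | h <;> rw [h] at hAm <;> omega
  have hrest : ∀ g ∈ O \ U, 3520 ≤ (O \ U).card := by
    intro g hg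
    obtain ⟨hgO, hgU⟩ := Finset.mem_sdiff.1 hg
    have hodd : Odd (orderOf g) := Nat.not_even_iff_odd.1 fun h =>
      (Finset.mem_filter.1 hgO).2 (even_iff_two_dvd.1 h)
    simp only [hU, hA, hB, hP, hQ, Finset.mem_insert, Finset.mem_union, Finset.mem_filter,
      Finset.mem_univ, true_and, not_or] at hgU
    obtain ⟨hg1, ⟨hgA, hgB⟩, hg5, hg11⟩ := hgU
    obtain ⟨k, hk, hkC⟩ := F.cofactor hodd hg5 hg11 hg1 (k := 0) (by norm_num) (by simp)
      (by
        refine not_two_pow_dvd one_pos fun w hw hgw => False.elim ?_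
        rcases F.three_cases hodd hg5 hg1 hw hgw hz3 hz1 with h | h
        exacts [hgA h, hgB h])
    have hsub : (univ.filter fun y : G => IsConj g y) ⊆ O \ U := by
      intro y hy
      have hy' := (Finset.mem_filter.1 hy).2
      refine Finset.mem_sdiff.2 ⟨Finset.mem_filter.2 ⟨Finset.mem_univ _, ?_⟩, ?_⟩
      · rw [orderOf_eq_of_isConj hy']; exact (Finset.mem_filter.1 hgO).2
      · simp only [hU, hA, hB, hP, hQ, Finset.mem_insert, Finset.mem_union, Finset.mem_filter,
          Finset.mem_univ, true_and, not_or]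
        refine ⟨fun e => hg1 ?_, ⟨fun h => hgA (h.trans hy'.symm), fun h => hgB (h.trans hy'.symm)⟩, ?_, ?_⟩
        · subst e; exact isConj_one_right.1 hy'.symm
        · rw [orderOf_eq_of_isConj hy']; exact hg5
        · rw [orderOf_eq_of_isConj hy']; exact hg11
    have h := Finset.card_le_card hsub
    have hgc := hcls g
    rw [hkC] at hgc
    rcases hdiv k hk with e | e | e | e <;> rw [e] at hgc <;> omega
  have hsd : (O \ U).card + U.card = O.card := Finset.card_sdiff_add_card_eq_card hUO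
  rw [hOc, hUc] at hsd
  have hfin : n = 9 ∧ B.card = 2640 ∧ (O \ U).card = 0 := by
    rcases Finset.eq_empty_or_nonempty (O \ U) with h | ⟨g, hg⟩
    · rw [h, Finset.card_empty] at hsd
      rcases hdiv n hn with e | e | e | e <;> rw [e] at hBn <;> simp [h] <;> omega
    · have := hrest g hg
      rcases hdiv n hn with e | e | e | e <;> rw [e] at hBn <;> omega
  refine ⟨hm27.2, hfin.2.1, hPc, hQc, by rw [hmC, hm27.1]; norm_num, by rw [hnC, hfin.1]; norm_num,
    fun g hg => ?_⟩
  have hgU : g ∈ U := by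
    by_contra h
    have hh := Finset.card_eq_zero.1 hfin.2.2
    exact Finset.notMem_empty g (hh ▸ Finset.mem_sdiff.2 ⟨Finset.mem_filter.2 ⟨Finset.mem_univ _, hg⟩, h⟩)
  simp only [hU, hA, hB, hP, hQ, Finset.mem_insert, Finset.mem_union, Finset.mem_filter,
    Finset.mem_univ, true_and] at hgU
  tauto

end sums

end Facts

end Cfsg.Lib.MTwelveRecog
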