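import Cfsg.Agent.Lib.MTwelveRecog.Line

/-!
The centraliser of `t` in the normaliser of a line is one of two subgroups of order 48 of the table
group through a fixed element of order 8.
-/

set_option autoImplicit false
set_option linter.style.haveILetI false
set_option linter.unusedSectionVars false
set_option linter.style.longLine false
set_option maxRecDepth 100000

namespace Cfsg.Lib.MTwelveRecog

open Cfsg Subgroup

universe u

/-- The first subgroup of order 48 through `4`. -/
def mOne (i : Fin 192) : Bool :=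
  Nat.testBit 3170566452454665659406485765518796033869443986877872357425 i

/-- The second subgroup of order 48 through `4`. -/
def mTwo (i : Fin 192) : Bool :=
  Nat.testBit 138027675466887213642764911038201927858350313408429705233 i

/-- One of the two subgroups. -/
def mask (k : Bool) (i : Fin 192) : Bool := bif k then mOne i else mTwo i

/-- Their intersection. -/
def mP (i : Fin 192) : Bool := mOne i && mTwo i

/-- Words in `4` and `v`. -/
def wordsA (v : Fin 192) : List (Fin 192) :=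
  ((List.range 8).map (cPow 4)).flatMap fun a => ((List.range 3).map (cPow v)).flatMap fun b =>
    ((List.range 8).map (cPow 4)).flatMap fun c => ((List.range 3).map (cPow v)).map fun d =>
      cMul (cMul (cMul a b) c) d

/-- Shorter words. -/
def wordsB (v : Fin 192) : List (Fin 192) :=
  ((List.range 3).map (cPow v)).flatMap fun a => ((List.range 8).map (cPow 4)).flatMap fun b =>
    ((List.range 3).map (cPow v)).map fun c => cMul (cMul a b) c

theorem mask_facts : ∀ k : Bool, mask k 0 = true ∧ mask k 4 = true ∧ mask k cT = true ∧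
    ((List.finRange 192).filter (mask k)).length = 48 ∧
    (∀ i : Fin 192, mask k i = true → mask k (cInv i) = true) ∧
    (∀ i : Fin 192, mask k i = true → ∀ j : Fin 192, mask k j = true → mask k (cMul i j) = true) := by
  decide +kernel

theorem mask_words : ∀ k : Bool, ∀ v : Fin 192, cCls v = 7 → mask k v = true →
    (List.finRange 192).all (fun x => !mask k x || (wordsA v).contains x) = true := by
  decide +kernel

theorem mask_out : ∀ v : Fin 192, cCls v = 7 → mOne v = false → mTwo v = false →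
    48 < (List.finRange 192).countP (fun x => (wordsB v).contains x) := by
  decide +kernel

theorem cls_eight : ∀ i : Fin 192, cPow i 4 = cT → cCls i = 6 ∨ cCls i = 10 := by decide +kernel

theorem autTwo_facts : cAutTwo cT = cT ∧ (∀ i : Fin 192, cCls (cAutTwo i) = 6 → cCls i = 10) ∧
    cCls (cAutTwo 6) = 7 ∧ cCls (cAutTwo 19) = 3 ∧ cCls (cAutTwo 1) = 11 ∧ cCls (cAutTwo 61) = 9 := by
  decide +kernel

variable {G : Type u} [Group G]

namespace Setup

variable (S : Setup G)

/-- The image of a subgroup of the table group. -/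
def sub (P : Fin 192 → Bool) (h0 : P 0 = true) (hm : ∀ i, P i = true → ∀ j, P j = true → P (cMul i j) = true)
    (hi : ∀ i, P i = true → P (cInv i) = true) : Subgroup G where
  carrier := {g | ∃ i, P i = true ∧ S.f i = g}
  one_mem' := ⟨0, h0, S.fone⟩
  mul_mem' := by
    rintro _ _ ⟨i, hi, rfl⟩ ⟨j, hj, rfl⟩
    exact ⟨cMul i j, hm i hi j hj, S.fmul i j⟩
  inv_mem' := by
    rintro _ ⟨i, h, rfl⟩
    exact ⟨cInv i, hi i h, S.finv i⟩

variable {S} in
theorem f_mem_pow {K : Subgroup G} {i : Fin 192} (h : S.f i ∈ K) : ∀ n, S.f (cPow i n) ∈ K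
  | 0 => by rw [show cPow i 0 = 0 from rfl, S.fone]; exact one_mem K
  | n + 1 => by rw [show cPow i (n + 1) = cMul i (cPow i n) from rfl, S.fmul]; exact mul_mem h (f_mem_pow h n)

theorem wordsA_mem {K : Subgroup G} {v x : Fin 192} (h4 : S.f 4 ∈ K) (hv : S.f v ∈ K)
    (hx : x ∈ wordsA v) : S.f x ∈ K := by
  simp only [wordsA, List.mem_flatMap, List.mem_map] at hx
  obtain ⟨_, ⟨a, -, rfl⟩, _, ⟨b, -, rfl⟩, _, ⟨c, -, rfl⟩, _, ⟨d, -, rfl⟩, rfl⟩ := hx
  rw [S.fmul, S.fmul, S.fmul]
  exact mul_mem (mul_mem (mul_mem (f_mem_pow h4 a) (f_mem_pow hv b)) (f_mem_pow h4 c)) (f_mem_pow hv d)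

theorem wordsB_mem {K : Subgroup G} {v x : Fin 192} (h4 : S.f 4 ∈ K) (hv : S.f v ∈ K)
    (hx : x ∈ wordsB v) : S.f x ∈ K := by
  simp only [wordsB, List.mem_flatMap, List.mem_map] at hx
  obtain ⟨_, ⟨a, -, rfl⟩, _, ⟨b, -, rfl⟩, _, ⟨c, -, rfl⟩, rfl⟩ := hx
  rw [S.fmul, S.fmul]
  exact mul_mem (mul_mem (f_mem_pow hv a) (f_mem_pow h4 b)) (f_mem_pow hv c)

end Setup

variable [Finite G]

namespace Line

variable {S : Setup G}

theorem orderOf_e [IsSimpleGroup G] (L : Line S) (F : Facts S) {e : G} (he : e ∈ L.E) (he1 : e ≠ 1) :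
    orderOf e = 3 :=
  (orderOf_eq_of_isConj (L.isX e he he1)).trans F.orderOf_six

/-- The elements of `E` commuting with `t` are trivial. -/
theorem eq_one_of_comm (L : Line S) {e : G} (he : e ∈ L.E) (h : e * S.t = S.t * e) : e = 1 := by
  have h1 := L.inv_t e he
  rw [← h, mul_inv_cancel_right] at h1
  have h2 : e ^ 2 = 1 := by rw [sq]; nth_rw 2 [h1]; exact mul_inv_cancel e
  have h9 : e ^ 9 = 1 := by
    rw [← L.card_E]
    exact congrArg Subtype.val (pow_card_eq_one' (x := (⟨e, he⟩ : L.E)))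
  calc e = e ^ 9 * (e ^ 2)⁻¹ ^ 4 := by group
    _ = 1 := by rw [h9, h2, inv_one, one_pow, mul_one]

/-- The complement of `E` in its normaliser. -/
def comp (L : Line S) : Subgroup G := centralizer ({S.t} : Set G) ⊓ normalizer (L.E : Set G)

/-- Every element of the normaliser is a product of an element of `E` and one commuting with `t`. -/
theorem exists_mul (L : Line S) {n : G} (hn : n ∈ normalizer (L.E : Set G)) :
    ∃ e ∈ L.E, ∃ h ∈ L.comp, n = e * h := by
  have hE : ∀ a ∈ L.E, n⁻¹ * a * n ∈ L.E := fun a ha => by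
    simpa using (mem_normalizer_iff.1 (inv_mem hn) a).1 ha
  have hcen : ∀ a ∈ L.E, n * S.t * n⁻¹ * S.t * a = a * (n * S.t * n⁻¹ * S.t) := by
    intro a ha
    have h1 : S.t * a * S.t⁻¹ = a⁻¹ := L.inv_t a ha
    have h2 := L.inv_t _ (hE a⁻¹ (inv_mem ha))
    calc n * S.t * n⁻¹ * S.t * a = n * S.t * n⁻¹ * (S.t * a * S.t⁻¹) * S.t := by group
      _ = n * (S.t * (n⁻¹ * a⁻¹ * n) * S.t⁻¹) * S.t * n⁻¹ * S.t := by rw [h1]; group
      _ = n * (n⁻¹ * a⁻¹ * n)⁻¹ * S.t * n⁻¹ * S.t := by rw [h2]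
      _ = a * (n * S.t * n⁻¹ * S.t) := by group
  have haE : n * S.t * n⁻¹ * S.t ∈ L.E := L.cent_E _ hcen
  obtain ⟨a, ha⟩ : ∃ a, a = n * S.t * n⁻¹ * S.t := ⟨_, rfl⟩
  rw [← ha] at haE
  have h9 : a ^ 9 = 1 := by
    rw [← L.card_E]
    exact congrArg Subtype.val (pow_card_eq_one' (x := (⟨a, haE⟩ : L.E)))
  have he : a ^ 4 ∈ L.E := pow_mem haE 4
  refine ⟨(a ^ 4)⁻¹, inv_mem he, a ^ 4 * n, mem_inf.2 ⟨mem_centralizer_singleton_iff.2 ?_,
    mul_mem (le_normalizer he) hn⟩, (inv_mul_cancel_left _ _).symm⟩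
  have hat : a * S.t = n * S.t * n⁻¹ := by rw [ha, mul_assoc, S.t_sq, mul_one]
  calc a ^ 4 * n * S.t = a ^ 4 * (n * S.t * n⁻¹) * n := by group
    _ = a ^ 4 * (a * S.t) * n := by rw [hat]
    _ = a ^ 5 * S.t * n := by group
    _ = (a ^ 4)⁻¹ * (a ^ 9) * S.t * n := by group
    _ = (a ^ 4)⁻¹ * S.t * n := by rw [h9, mul_one]
    _ = S.t * a ^ 4 * S.t⁻¹ * S.t * n := by rw [L.inv_t _ he]
    _ = S.t * (a ^ 4 * n) := by group

theorem card_comp (L : Line S) : Nat.card L.comp = 48 := by
  let φ : L.E × L.comp → normalizer (L.E : Set G) := fun p =>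
    ⟨p.1.1 * p.2.1, mul_mem (le_normalizer p.1.2) (mem_inf.1 p.2.2).2⟩
  have hφ : Function.Bijective φ := by
    refine ⟨?_, ?_⟩
    · rintro ⟨⟨e, he⟩, ⟨h, hh⟩⟩ ⟨⟨e', he'⟩, ⟨h', hh'⟩⟩ heq
      have heq' : e * h = e' * h' := congrArg Subtype.val heq
      have h1 : e'⁻¹ * e = h' * h⁻¹ :=
        calc e'⁻¹ * e = e'⁻¹ * (e * h) * h⁻¹ := by group
          _ = h' * h⁻¹ := by rw [heq']; group
      have hm : h' * h⁻¹ ∈ centralizer ({S.t} : Set G) :=
        mul_mem (mem_inf.1 hh').1 (inv_mem (mem_inf.1 hh).1)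
      have h2 := L.eq_one_of_comm (mul_mem (inv_mem he') he) (by rw [h1]; exact mem_centralizer_singleton_iff.1 hm)
      have he_eq : e = e' := (inv_mul_eq_one.1 h2).symm
      subst he_eq
      have hh_eq : h = h' := mul_left_cancel heq'
      subst hh_eq
      rfl
    · rintro ⟨n, hn⟩
      obtain ⟨e, he, h, hh, rfl⟩ := L.exists_mul hn
      exact ⟨⟨⟨e, he⟩, ⟨h, hh⟩⟩, rfl⟩
  have h := Nat.card_eq_of_bijective φ hφ
  rw [Nat.card_prod, L.card_E, L.card_N] at h
  omega

theorem exists_eight [IsSimpleGroup G] (L : Line S) (F : Facts S) :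
    ∃ i : Fin 192, cPow i 4 = cT ∧ S.f i ∈ normalizer (L.E : Set G) := by
  classical
  letI := Fintype.ofFinite L.E
  haveI : Fact (Nat.Prime 3) := ⟨Nat.prime_three⟩
  haveI : Nontrivial L.E := Finite.one_lt_card_iff_nontrivial.1 (by rw [L.card_E]; norm_num)
  obtain ⟨x, hx1⟩ := exists_ne (1 : L.E)
  have hcm : ∀ a b : L.E, a * b = b * a := fun a b => Subtype.ext (L.comm _ a.2 _ b.2)
  have ho : ∀ a : L.E, a ≠ 1 → orderOf a = 3 := fun a ha => by
    rw [← orderOf_coe]; exact L.orderOf_e F a.2 fun e => ha (Subtype.ext e)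
  have hz3 : ∀ a : L.E, a ≠ 1 → Nat.card (zpowers a) = 3 := fun a ha => by rw [Nat.card_zpowers, ho a ha]
  obtain ⟨y, hy⟩ : ∃ y, y ∉ zpowers x := by
    by_contra hall
    push_neg at hall
    have h := hz3 x hx1
    rw [(eq_top_iff' _).2 hall, card_top, L.card_E] at h
    norm_num at h
  let T : Finset (L.E × L.E) := Finset.univ.filter fun p => p.1 ≠ 1 ∧ p.2 ∉ zpowers p.1
  have hT : T.card = 48 := by
    rw [Finset.card_filter, Fintype.sum_prod_type]
    have hin : ∀ a : L.E, (∑ b, if a ≠ 1 ∧ b ∉ zpowers a then 1 else 0) = if a ≠ 1 then 6 else 0 := by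
      intro a
      split_ifs with ha
      · simp only [ha, not_false_eq_true, true_and, ne_eq]
        rw [← Finset.card_filter, Finset.filter_not, Finset.card_sdiff, Finset.inter_univ, Finset.card_univ,
          ← Nat.card_eq_fintype_card, L.card_E, ← Fintype.card_subtype, ← Nat.card_eq_fintype_card]
        show 9 - Nat.card (zpowers a) = 6
        rw [hz3 a ha]
      · refine Finset.sum_eq_zero fun b _ => if_neg fun h => ha h.1
    rw [Finset.sum_congr rfl fun a _ => hin a, Finset.sum_ite, Finset.sum_const_zero, add_zero,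
      Finset.sum_const, smul_eq_mul, Finset.filter_ne', Finset.card_erase_of_mem (Finset.mem_univ _),
      Finset.card_univ, ← Nat.card_eq_fintype_card, L.card_E]
  let act : L.comp → L.E →* L.E := fun h =>
    { toFun := fun a => ⟨(h : G) * a * (h : G)⁻¹, (mem_normalizer_iff.1 (mem_inf.1 h.2).2 a).1 a.2⟩
      map_one' := Subtype.ext (by simp)
      map_mul' := fun a b => Subtype.ext (by simp [mul_assoc]) }
  have hgen : ∀ a : L.E, a ∈ closure ({x, y} : Set L.E) := by
    have hxm : x ∈ closure ({x, y} : Set L.E) := subset_closure (by simp)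
    have hle : zpowers x ≤ closure ({x, y} : Set L.E) := zpowers_le.2 hxm
    have hd : Nat.card (closure ({x, y} : Set L.E)) ∈ Nat.divisors 9 :=
      Nat.mem_divisors.2 ⟨L.card_E ▸ card_subgroup_dvd_card _, by norm_num⟩
    rw [show Nat.divisors 9 = {1, 3, 9} by decide +kernel] at hd
    simp only [Finset.mem_insert, Finset.mem_singleton] at hd
    have h3 := card_dvd_of_le hle
    rw [hz3 x hx1] at h3
    rcases hd with h | h | h
    · rw [h] at h3; norm_num at h3
    · exact absurd ((eq_of_le_of_card_ge hle (by rw [h, hz3 x hx1])).symm ▸ subset_closure (by simp)) hy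
    · intro a
      rw [eq_of_le_of_card_ge (le_top : closure ({x, y} : Set L.E) ≤ ⊤) (by rw [card_top, h, L.card_E])]
      exact mem_top a
  have heq : ∀ h h' : L.comp, act h x = act h' x → act h y = act h' y → h = h' := by
    intro h h' h1 h2
    have hall : act h = act h' := by
      refine MonoidHom.ext fun a => ?_
      refine MonoidHom.eqOn_closure (fun b hb => ?_) (hgen a)
      rcases hb with rfl | rfl
      exacts [h1, h2]
    have hE : (h' : G)⁻¹ * h ∈ L.E := L.cent_E _ fun a ha => by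
      have := congrArg Subtype.val (DFunLike.congr_fun hall ⟨a, ha⟩)
      change (h : G) * a * (h : G)⁻¹ = (h' : G) * a * (h' : G)⁻¹ at this
      calc (h' : G)⁻¹ * h * a = (h' : G)⁻¹ * ((h : G) * a * (h : G)⁻¹) * h := by group
        _ = a * ((h' : G)⁻¹ * h) := by rw [this]; group
    have h3 := L.eq_one_of_comm hE (mem_centralizer_singleton_iff.1
      (mul_mem (inv_mem (mem_inf.1 h'.2).1) (mem_inf.1 h.2).1))
    exact Subtype.ext (inv_mul_eq_one.1 h3).symm
  have hinj : ∀ (h : L.comp), Function.Injective (act h) := fun h a b e => by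
    have e' : (h : G) * a * (h : G)⁻¹ = (h : G) * b * (h : G)⁻¹ := congrArg Subtype.val e
    exact Subtype.ext (by simpa using e')
  let ψ : L.comp → T := fun h => ⟨(act h x, act h y), Finset.mem_filter.2 ⟨Finset.mem_univ _,
    fun e => hx1 (hinj h (e.trans (map_one _).symm)), fun hm => hy (by
      obtain ⟨n, hn⟩ := mem_zpowers_iff.1 hm
      rw [← map_zpow] at hn
      exact mem_zpowers_iff.2 ⟨n, hinj h hn⟩)⟩⟩
  have hψi : Function.Injective ψ := fun h h' e => by
    have e' := congrArg Subtype.val e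
    simp only [ψ, Prod.mk.injEq] at e'
    exact heq h h' e'.1 e'.2
  have hψ : Function.Bijective ψ := Nat.bijective_iff_injective_and_card ψ |>.2
    ⟨hψi, by rw [L.card_comp, Nat.card_eq_fintype_card, Fintype.card_coe, hT]⟩
  have hy1 : y ≠ 1 := fun e => hy (e ▸ one_mem _)
  have hxy : x * y ∉ zpowers y := fun hm => by
    have hxm : x ∈ zpowers y := by simpa using mul_mem hm (inv_mem (mem_zpowers y))
    have he := eq_of_le_of_card_ge (zpowers_le.2 hxm) (by rw [hz3 x hx1, hz3 y hy1])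
    exact hy (he ▸ mem_zpowers y)
  obtain ⟨h, hh⟩ := hψ.2 ⟨(y, x * y), Finset.mem_filter.2 ⟨Finset.mem_univ _, hy1, hxy⟩⟩
  have hx' : act h x = y := congrArg (fun p : T => p.1.1) hh
  have hy' : act h y = x * y := congrArg (fun p : T => p.1.2) hh
  have htc : S.t ∈ L.comp := mem_inf.2 ⟨mem_centralizer_singleton_iff.2 rfl, by
    rw [mem_normalizer_iff]
    intro a
    refine ⟨fun ha => by rw [L.inv_t a ha]; exact inv_mem ha, fun ha => ?_⟩
    have h2 := L.inv_t _ ha
    have e : S.t * (S.t * a * S.t⁻¹) * S.t⁻¹ = a := by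
      rw [show S.t * (S.t * a * S.t⁻¹) * S.t⁻¹ = (S.t * S.t) * a * (S.t * S.t)⁻¹ by group, S.t_sq]
      group
    rw [e] at h2
    rw [h2]; exact inv_mem ha⟩
  have hact : ∀ a : L.E, act (h ^ 4) a = act h (act h (act h (act h a))) := fun a => Subtype.ext (by
    show ((h ^ 4 : L.comp) : G) * a * ((h ^ 4 : L.comp) : G)⁻¹ =
      (h : G) * ((h : G) * ((h : G) * ((h : G) * a * (h : G)⁻¹) * (h : G)⁻¹) * (h : G)⁻¹) * (h : G)⁻¹
    simp only [coe_pow, Subgroup.coe_mul, pow_succ, pow_zero, one_mul, mul_inv_rev, mul_assoc])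
  have ha3 : ∀ a : L.E, a * (a * a) = 1 := fun a => by
    by_cases ha : a = 1
    · rw [ha, one_mul, one_mul]
    · have := pow_orderOf_eq_one a
      rw [ho a ha] at this
      simpa [pow_succ, mul_assoc] using this
  letI : CommGroup L.E := { (inferInstance : Group L.E) with mul_comm := hcm }
  have h4 : h ^ 4 = ⟨S.t, htc⟩ := by
    have hinvt : ∀ a : L.E, act ⟨S.t, htc⟩ a = a⁻¹ := fun a => Subtype.ext (L.inv_t a a.2)
    have e3 : ∀ a : L.E, a⁻¹ = a * a := fun a => inv_eq_of_mul_eq_one_right (ha3 a)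
    have s1 : act h (x * y) = y * (x * y) := by rw [map_mul, hx', hy']
    have s2 : act h (y * (x * y)) = x * y * (y * (x * y)) := by rw [map_mul, hy', s1]
    refine heq _ _ ?_ ?_
    · rw [hact, hinvt, hx', hy', s1, s2, e3]
      calc x * y * (y * (x * y)) = x * x * (y * (y * y)) := by simp only [mul_comm, mul_left_comm]
        _ = x * x := by rw [ha3, mul_one]
    · rw [hact, hinvt, hy', s1, s2, map_mul, s1, s2, e3]
      calc y * (x * y) * (x * y * (y * (x * y))) = x * (x * x) * (y * (y * y)) * (y * y) := by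
            simp only [mul_comm, mul_left_comm]
        _ = y * y := by rw [ha3, ha3, one_mul, one_mul]
  obtain ⟨i, hi⟩ := (S.mem_iff _).1 (mem_centralizer_singleton_iff.1 (mem_inf.1 h.2).1)
  refine ⟨i, S.inj ?_, hi ▸ (mem_inf.1 h.2).2⟩
  rw [S.f_pow, hi, S.f_t]
  exact congrArg Subtype.val h4

/-- Transport to a conjugate line, conjugating by an element commuting with `t`. -/
theorem conj_line (L : Line S) {c : G} (hc : c * S.t = S.t * c) :
    ∃ L' : Line S, ∀ g, c⁻¹ * g * c ∈ normalizer (L.E : Set G) → g ∈ normalizer (L'.E : Set G) := by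
  set E' := L.E.map (MulAut.conj c).toMonoidHom with hE'
  have hmem : ∀ a, a ∈ E' ↔ c⁻¹ * a * c ∈ L.E := fun a => by
    constructor
    · rintro ⟨b, hb, rfl⟩
      simpa [mul_assoc] using hb
    · exact fun h => ⟨_, h, by simp [mul_assoc]⟩
  have hN : ∀ g, g ∈ normalizer (E' : Set G) ↔ c⁻¹ * g * c ∈ normalizer (L.E : Set G) := fun g => by
    constructor <;> intro h <;> rw [mem_normalizer_iff] at h ⊢ <;> intro a
    · have := h (c * a * c⁻¹)
      rw [hmem, hmem] at this
      simp only [show c⁻¹ * (c * a * c⁻¹) * c = a by group,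
        show c⁻¹ * (g * (c * a * c⁻¹) * g⁻¹) * c = c⁻¹ * g * c * a * (c⁻¹ * g * c)⁻¹ by group] at this
      exact this
    · have := h (c⁻¹ * a * c)
      rw [show c⁻¹ * g * c * (c⁻¹ * a * c) * (c⁻¹ * g * c)⁻¹ = c⁻¹ * (g * a * g⁻¹) * c by group] at this
      rw [hmem, hmem]
      exact this
  refine ⟨⟨E', ?_, ?_, ?_, ?_, ?_, ?_, ?_⟩, fun g h => (hN g).2 h⟩
  · rw [hE', Subgroup.card_map_of_injective (f := (MulAut.conj c).toMonoidHom) (MulAut.conj c).injective, L.card_E]
  · rintro _ ⟨a, ha, rfl⟩ _ ⟨b, hb, rfl⟩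
    rw [← map_mul, ← map_mul, L.comm a ha b hb]
  · rintro _ ⟨a, ha, rfl⟩ h1
    exact (L.isX a ha fun e => h1 (by rw [e, map_one])).trans (isConj_iff.2 ⟨c, rfl⟩)
  · have e : normalizer (E' : Set G) = (normalizer (L.E : Set G)).map (MulAut.conj c).toMonoidHom := by
      ext g
      rw [hN]
      exact ⟨fun h => ⟨_, h, by simp [mul_assoc]⟩, by rintro ⟨b, hb, rfl⟩; simpa [mul_assoc] using hb⟩
    rw [e, Subgroup.card_map_of_injective (f := (MulAut.conj c).toMonoidHom) (MulAut.conj c).injective, L.card_N]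
  · intro g hg
    rw [hmem]
    refine L.cent_E _ fun a ha => ?_
    have := hg (c * a * c⁻¹) ((hmem _).2 (by simpa [mul_assoc] using ha))
    calc c⁻¹ * g * c * a = c⁻¹ * (g * (c * a * c⁻¹)) * c := by group
      _ = c⁻¹ * (c * a * c⁻¹ * g) * c := by rw [this]
      _ = a * (c⁻¹ * g * c) := by group
  · intro a ha
    have h := L.inv_t _ ((hmem a).1 ha)
    calc S.t * a * S.t⁻¹ = S.t * c * (c⁻¹ * a * c) * (S.t * c)⁻¹ := by group
      _ = c * (S.t * (c⁻¹ * a * c) * S.t⁻¹) * c⁻¹ := by rw [← hc]; group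
      _ = a⁻¹ := by rw [h]; group
  · intro a ha h1 g hg
    rw [hN]
    refine L.cent_le _ ((hmem a).1 ha) (fun e => h1 ?_) _ ?_
    · calc a = c * (c⁻¹ * a * c) * c⁻¹ := by group
        _ = 1 := by rw [e]; group
    · calc c⁻¹ * g * c * (c⁻¹ * a * c) = c⁻¹ * (g * a) * c := by group
        _ = c⁻¹ * a * c * (c⁻¹ * g * c) := by rw [hg]; group

end Line

/-- A line whose normaliser meets the centraliser of `t` in a known subgroup. -/
structure Frame (G : Type u) [Group G] where
  /-- the table -/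
  S : Setup G
  facts : Facts S
  /-- the line -/
  L : Line S
  /-- which of the two subgroups -/
  k : Bool
  mem_N : ∀ i, S.f i ∈ normalizer (L.E : Set G) ↔ mask k i = true

theorem exists_line_ten [IsSimpleGroup G] {S : Setup G} (F : Facts S) :
    ∃ S' : Setup G, Nonempty (Facts S') ∧ ∃ L : Line S', ∃ i, cCls i = 10 ∧ S'.f i ∈ normalizer (L.E : Set G) := by
  obtain ⟨L⟩ := F.exists_line
  obtain ⟨i, hi, hiN⟩ := L.exists_eight F
  rcases cls_eight i hi with h | h
  · obtain ⟨hT, h10, h6, h19, h1, h61⟩ := autTwo_facts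
    obtain ⟨j, rfl⟩ := (Finite.injective_iff_surjective.1 fun a b => cAut_bij.2 a b) i
    set S' := S.precomp cAutTwo cAut_bij.2 (fun a b => (cAut_hom a b).2) hT with hS'
    have hx : IsConj (S.f 6) (S'.f 6) := S.isConj_of_cls (cls_of_rep.2.2.2.2.1.trans h6.symm)
    obtain ⟨hcard, hc, hcb⟩ := S'.main_facts (S'.fused F.na)
    refine ⟨S', ⟨F.na, hcard, hc, ?_, hcb.some⟩, ⟨⟨L.E, L.card_E, L.comm, fun e he h1 => hx.symm.trans (L.isX e he h1),
      L.card_N, L.cent_E, L.inv_t, L.cent_le⟩, j, h10 j h, hiN⟩⟩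
    show IsConj (S.f (cAutTwo 19)) (S.f (cAutTwo 1))
    exact ((S.isConj_of_cls (h19.trans cls_of_rep.2.1.symm)).trans (S.isConj_21_74 F.fused F.norm)).trans
      (S.isConj_of_cls (cls_of_rep.2.2.2.2.2.2.2.trans h1.symm))
  · exact ⟨S, ⟨F⟩, L, i, h, hiN⟩

theorem exists_frame [IsSimpleGroup G] {S₀ : Setup G} (F₀ : Facts S₀) : Nonempty (Frame G) := by
  classical
  obtain ⟨S, ⟨F⟩, L₁, i, hi, hiN⟩ := exists_line_ten F₀
  have hrep : cRep i = 4 := by rw [(cls_lt i).2, hi]; rfl
  have hw : S.f i = S.f (cWit i) * S.f 4 * (S.f (cWit i))⁻¹ := by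
    rw [← hrep, ← S.fconj, cConj_wit]
  obtain ⟨L, hL⟩ := L₁.conj_line (c := (S.f (cWit i))⁻¹)
    (show Commute (S.f (cWit i))⁻¹ S.t from Commute.inv_left (S.comm_t _)).eq
  have h4 : S.f 4 ∈ normalizer (L.E : Set G) := hL _ (by rw [inv_inv, ← hw]; exact hiN)
  haveI : Fact (Nat.Prime 3) := ⟨Nat.prime_three⟩
  obtain ⟨⟨v, hv⟩, hvo⟩ := exists_prime_orderOf_dvd_card' (G := L.comp) 3 (by rw [L.card_comp]; norm_num)
  rw [orderOf_mk] at hvo
  obtain ⟨j, rfl⟩ := (S.mem_iff v).1 (mem_centralizer_singleton_iff.1 (mem_inf.1 hv).1)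
  have hj : cCls j = 7 := (odd_cls j (by rw [← S.orderOf_f_cls, hvo])).resolve_left fun e => by
    rw [S.orderOf_f_cls, e] at hvo; exact absurd hvo (by decide)
  have hcompmem : ∀ x, S.f x ∈ L.comp ↔ S.f x ∈ normalizer (L.E : Set G) := fun x =>
    ⟨fun h => (mem_inf.1 h).2, fun h => mem_inf.2 ⟨mem_centralizer_singleton_iff.2 (S.comm_t x), h⟩⟩
  have h4c := (hcompmem 4).2 h4
  have hcount : ∀ P : Fin 192 → Bool, (∀ x, P x = true → S.f x ∈ L.comp) →
      ((List.finRange 192).filter P).length ≤ 48 := by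
    intro P hP
    rw [← L.card_comp, ← List.toFinset_card_of_nodup ((List.nodup_finRange 192).filter P),
      ← Fintype.card_coe, ← Nat.card_eq_fintype_card]
    refine Nat.card_le_card_of_injective (fun x => ⟨S.f x.1, hP x.1 ?_⟩) fun a b e => ?_
    · simpa using x.2
    · exact Subtype.ext (S.inj (congrArg Subtype.val e))
  obtain ⟨k, hk⟩ : ∃ k, mask k j = true := by
    by_contra hall
    push_neg at hall
    have hb := mask_out j hj (by simpa [mask] using hall true) (by simpa [mask] using hall false)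
    rw [List.countP_eq_length_filter] at hb
    have := hcount _ fun x hx => S.wordsB_mem h4c hv (List.contains_iff_mem.1 hx)
    omega
  have hle : ∀ x, mask k x = true → S.f x ∈ L.comp := fun x hx => by
    have := List.all_eq_true.1 (mask_words k j hj hk) x (List.mem_finRange x)
    rw [hx, Bool.not_true, Bool.false_or] at this
    exact S.wordsA_mem h4c hv (List.contains_iff_mem.1 this)
  set H := S.sub (mask k) (mask_facts k).1 (mask_facts k).2.2.2.2.2 (mask_facts k).2.2.2.2.1
  have hH : H = L.comp := eq_of_le_of_card_ge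
    (by rintro _ ⟨x, hx, rfl⟩; exact hle x hx)
    (by rw [S.card_of_pred (mask k) H fun _ => Iff.rfl, (mask_facts k).2.2.2.1, L.card_comp])
  refine ⟨⟨S, F, L, k, fun x => ⟨fun h => ?_, fun h => (hcompmem x).1 (hle x h)⟩⟩⟩
  obtain ⟨y, hy, hyx⟩ := hH.symm.le ((hcompmem x).2 h)
  exact S.inj hyx ▸ hy

end Cfsg.Lib.MTwelveRecog
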