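import Cfsg.Agent.Lib.MTwelveRecog.Setup
import Cfsg.Agent.Lib.MEleven.Basic
import Cfsg.Agent.S0111
import Cfsg.Agent.S0215

/-!
Fusion of involutions in a simple group with the centraliser of the table group.
-/

set_option autoImplicit false
set_option linter.style.haveILetI false
set_option linter.unusedSectionVars false
set_option maxRecDepth 100000

namespace Cfsg.Lib.MTwelveRecog

open Cfsg

universe u

/-! ### Facts about the table -/

/-- Whether two indices commute. -/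
def cCm (i j : Fin 192) : Bool := cMul i j == cMul j i

/-- The order of the centraliser of an index. -/
def cCard (i : Fin 192) : ℕ := ((List.finRange 192).filter (cCm i)).length

/-- The commutator of two indices. -/
def cComm (i j : Fin 192) : Fin 192 := cMul (cMul (cMul i j) (cInv i)) (cInv j)

theorem sq_cases : ∀ i : Fin 192, cMul i i = 0 →
    i = 0 ∨ i = cT ∨ cCls i = 4 ∨ cCls i = 9 ∨ cCls i = 12 := by
  decide +kernel

theorem cls_sq : ∀ i : Fin 192, (cCls i = 4 ∨ cCls i = 9 ∨ cCls i = 12) →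
    cMul i i = 0 ∧ i ≠ 0 ∧ i ≠ cT := by
  decide +kernel

theorem cls_cCard : ∀ i : Fin 192,
    (cCls i = 4 → cCard i = 16) ∧ (cCls i = 9 → cCard i = 8) ∧ (cCls i = 12 → cCard i = 32) := by
  decide +kernel

theorem cls_rep_eq : ∀ i : Fin 192,
    (cCls i = 4 → cRep i = 55) ∧ (cCls i = 9 → cRep i = 61) ∧ (cCls i = 12 → cRep i = 3) := by
  decide +kernel

theorem cls_conj : ∀ h i : Fin 192, cCls (cConj h i) = cCls i := by decide +kernel

theorem cls_reps : cCls 55 = 4 ∧ cCls 61 = 9 ∧ cCls 3 = 12 ∧ cRep 55 = 55 ∧ cRep 61 = 61 ∧ cRep 3 = 3 := by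
  decide +kernel

theorem b_comm : ∀ x y : Fin 192, cCm 55 x = true → cCm 55 y = true →
    cComm x y = 0 ∨ cComm x y = cT := by
  decide +kernel

theorem b_comm_ex : ∀ b : Fin 192, cCls b = 4 →
    ∃ x : Fin 192, cCm b x = true ∧ ∃ y : Fin 192, cCm b y = true ∧ cComm x y = cT := by
  decide +kernel

theorem c_facts : (∀ x : Fin 192, cCm 61 x = true → cMul x x = 0 → cCls x ≠ 4) ∧
    ∃ a : Fin 192, cCm 61 a = true ∧ cCls a = 12 ∧ cCm 61 (cMul a cT) = true ∧
      cCls (cMul a cT) = 12 ∧ cMul a (cMul a cT) = cT := by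
  decide +kernel

theorem c_pairs : ∀ c : Fin 192, cCls c = 9 → ∀ x : Fin 192, cCm c x = true → cCls x = 12 →
    ∀ y : Fin 192, cCm c y = true → cCls y = 12 → x ≠ y → cMul x y = cT := by
  decide +kernel

/-- The indices of a maximal subgroup of the Sylow subgroup avoiding the class of `61`. -/
def inMax (i : Fin 192) : Bool :=
  Nat.testBit 1373119852750384833189273100866824403405030506966710501385 i

theorem inMax_facts : inMax 0 = true ∧
    (∀ i j : Fin 192, inMax i = true → inMax j = true → inMax (cMul i j) = true) ∧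
    (∀ i : Fin 192, inMax i = true → inMax (cInv i) = true ∧ inSyl i = true ∧ cCls i ≠ 9) ∧
    ((List.finRange 192).filter inMax).length = 32 := by
  decide +kernel

/-- The facts on the maximal subgroup used with the transfer. -/
theorem transfer_facts : (∀ i, inMax i = true → ∃ j k, cMul (cMul j j) (cMul k k) = i) ∧
    (∀ i, inMax i = true → cPow i 4 = 0) ∧
    (∀ i, cPow i 4 = 0 → inMax i = true ∨ ∃ j k, cMul 61 (cMul (cMul j j) (cMul k k)) = i) ∧
    (∀ i l, inMax i = true → inMax l = true → cComm i l = 0 ∨ cComm i l = cT) ∧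
    ∃ x y, (inMax x = true ∧ cMul 3 x = cMul x 3) ∧ (inMax y = true ∧ cMul 3 y = cMul y 3) ∧
      cComm x y = cT := by
  refine ⟨?_, ?_, ?_, ?_, ?_⟩ <;> decide +kernel

namespace Setup

variable {G : Type u} [Group G] (S : Setup G)

theorem cCm_of_comm {i j : Fin 192} (h : S.f i * S.f j = S.f j * S.f i) : cCm i j = true := by
  rw [cCm, beq_iff_eq]
  exact S.inj (by rw [S.fmul, S.fmul, h])

theorem comm_of_cCm {i j : Fin 192} (h : cCm i j = true) : S.f i * S.f j = S.f j * S.f i := by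
  rw [cCm, beq_iff_eq] at h
  rw [← S.fmul, ← S.fmul, h]

theorem fcomm (i j : Fin 192) :
    S.f (cComm i j) = S.f i * S.f j * (S.f i)⁻¹ * (S.f j)⁻¹ := by
  rw [cComm, S.fmul, S.fmul, S.fmul, S.finv, S.finv]

theorem orderOf_f {i : Fin 192} (h : cMul i i = 0) (h0 : i ≠ 0) : orderOf (S.f i) = 2 := by
  refine orderOf_eq_prime ?_ fun e => h0 (S.inj (e.trans S.fone.symm))
  rw [sq, ← S.fmul, h, S.fone]

theorem sq_of_orderOf {i : Fin 192} (h : orderOf (S.f i) = 2) : cMul i i = 0 ∧ i ≠ 0 := by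
  refine ⟨S.inj ?_, fun e => ?_⟩
  · rw [S.fmul, S.fone, ← sq, ← h, pow_orderOf_eq_one]
  · rw [e, S.fone, orderOf_one] at h; norm_num at h

/-- The Sylow subgroup. -/
def syl : Subgroup G where
  carrier := {g | ∃ i, inSyl i = true ∧ S.f i = g}
  one_mem' := ⟨0, inSyl_facts.1, S.fone⟩
  mul_mem' := by
    rintro _ _ ⟨i, hi, rfl⟩ ⟨j, hj, rfl⟩
    exact ⟨cMul i j, inSyl_facts.2.2.1 i j hi hj, S.fmul i j⟩
  inv_mem' := by
    rintro _ ⟨i, hi, rfl⟩
    exact ⟨cInv i, inSyl_facts.2.2.2.1 i hi, S.finv i⟩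

/-- Its maximal subgroup. -/
def maxSyl : Subgroup G where
  carrier := {g | ∃ i, inMax i = true ∧ S.f i = g}
  one_mem' := ⟨0, inMax_facts.1, S.fone⟩
  mul_mem' := by
    rintro _ _ ⟨i, hi, rfl⟩ ⟨j, hj, rfl⟩
    exact ⟨cMul i j, inMax_facts.2.1 i j hi hj, S.fmul i j⟩
  inv_mem' := by
    rintro _ ⟨i, hi, rfl⟩
    exact ⟨cInv i, (inMax_facts.2.2.1 i hi).1, S.finv i⟩

theorem card_of_pred (P : Fin 192 → Bool) (K : Subgroup G)
    (hK : ∀ g, g ∈ K ↔ ∃ i, P i = true ∧ S.f i = g) :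
    Nat.card K = ((List.finRange 192).filter P).length := by
  let F : {i : Fin 192 // P i = true} → K := fun i => ⟨S.f i.1, (hK _).2 ⟨i.1, i.2, rfl⟩⟩
  have hF : Function.Bijective F := by
    refine ⟨fun i j h => Subtype.ext (S.inj (congrArg Subtype.val h)), ?_⟩
    rintro ⟨g, hg⟩
    obtain ⟨i, hi, rfl⟩ := (hK g).1 hg
    exact ⟨⟨i, hi⟩, rfl⟩
  rw [← Nat.card_eq_of_bijective F hF, Nat.card_eq_fintype_card, Fintype.card_subtype,
    ← List.toFinset_card_of_nodup ((List.nodup_finRange 192).filter P)]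
  congr 1
  ext i
  simp

theorem card_syl : Nat.card S.syl = 64 :=
  (S.card_of_pred inSyl S.syl fun _ => Iff.rfl).trans inSyl_facts.2.2.2.2.1

theorem card_maxSyl : Nat.card S.maxSyl = 32 :=
  (S.card_of_pred inMax S.maxSyl fun _ => Iff.rfl).trans inMax_facts.2.2.2

theorem card_centralizer_t : Nat.card (Subgroup.centralizer ({S.t} : Set G)) = 192 := by
  rw [S.card_of_pred (fun _ => true) _ fun g => by
    rw [Subgroup.mem_centralizer_singleton_iff, S.mem_iff]; simp]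
  rfl

/-- The centraliser of `t` and an element of its centraliser. -/
theorem card_centralizer_inf (i : Fin 192) :
    Nat.card ↥(Subgroup.centralizer ({S.t} : Set G) ⊓ Subgroup.centralizer ({S.f i} : Set G)) =
      cCard i := by
  refine S.card_of_pred (cCm i) _ fun g => ?_
  simp only [Subgroup.mem_inf, Subgroup.mem_centralizer_singleton_iff]
  constructor
  · rintro ⟨h1, h2⟩
    obtain ⟨j, rfl⟩ := (S.mem_iff g).1 h1
    exact ⟨j, S.cCm_of_comm h2.symm, rfl⟩
  · rintro ⟨j, hj, rfl⟩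
    exact ⟨S.comm_t j, (S.comm_of_cCm hj).symm⟩

variable [Finite G]

theorem exists_sylow : ∃ P : Sylow 2 G, (P : Subgroup G) = S.syl := by
  haveI : Fact (Nat.Prime 2) := ⟨Nat.prime_two⟩
  obtain ⟨P, hP⟩ := (IsPGroup.of_card (p := 2) (n := 6) (by rw [S.card_syl]; norm_num) :
    IsPGroup 2 S.syl).exists_le_sylow
  refine ⟨P, ?_⟩
  by_contra hne
  set K := S.syl.subgroupOf (P : Subgroup G) with hK
  have hKne : K ≠ ⊤ := fun h => hne (le_antisymm (Subgroup.subgroupOf_eq_top.1 h) hP)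
  have hlt : K < Subgroup.normalizer (K : Set (P : Subgroup G)) := by
    haveI := P.isPGroup'.isNilpotent
    exact Group.normalizerCondition_of_isNilpotent K (lt_top_iff_ne_top.2 hKne)
  obtain ⟨n, hn, hnK⟩ := SetLike.exists_of_lt hlt
  have hnorm : ∀ g ∈ S.syl, (n : G) * g * (n : G)⁻¹ ∈ S.syl := fun g hg => by
    have h := (Subgroup.mem_normalizer_iff.1 hn ⟨g, hP hg⟩).1 (Subgroup.mem_subgroupOf.2 hg)
    exact Subgroup.mem_subgroupOf.1 h
  obtain ⟨k, hk, hke⟩ := hnorm S.t ⟨cT, inSyl_facts.2.1, S.f_t⟩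
  have hcent : ∀ j, inSyl j = true → cMul k j = cMul j k := fun j hj => S.inj (by
    have hinv : (n : G)⁻¹ * S.f j * (n : G) ∈ S.syl := by
      have hfin : Set.InjOn (fun g => (n : G) * g * (n : G)⁻¹) (S.syl : Set G) :=
        fun a _ b _ h => mul_left_cancel (mul_right_cancel h)
      have himg : (fun g => (n : G) * g * (n : G)⁻¹) '' (S.syl : Set G) = (S.syl : Set G) := by
        refine Set.eq_of_subset_of_ncard_le ?_ ?_ (Set.toFinite _)
        · rintro _ ⟨g, hg, rfl⟩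
          exact hnorm g hg
        · rw [Set.InjOn.ncard_image hfin]
      have hj' : S.f j ∈ (fun g => (n : G) * g * (n : G)⁻¹) '' (S.syl : Set G) :=
        himg.symm ▸ ⟨j, hj, rfl⟩
      obtain ⟨g, hg, e⟩ := hj'
      rw [← e]
      simpa [mul_assoc] using hg
    obtain ⟨l, -, hl⟩ := hinv
    rw [S.fmul, S.fmul, hke]
    have := S.comm_t l
    rw [hl] at this
    calc (n : G) * S.t * (n : G)⁻¹ * S.f j
        = (n : G) * (S.t * ((n : G)⁻¹ * S.f j * (n : G))) * (n : G)⁻¹ := by group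
      _ = (n : G) * ((n : G)⁻¹ * S.f j * (n : G) * S.t) * (n : G)⁻¹ := by rw [this]
      _ = S.f j * ((n : G) * S.t * (n : G)⁻¹) := by group)
  have hnt : (n : G) * S.t = S.t * (n : G) := by
    rcases inSyl_facts.2.2.2.2.2 k hk hcent with e | e
    · exfalso
      rw [e, S.fone] at hke
      exact S.t_ne_one (conj_eq_one_iff.1 hke.symm)
    · rw [e, S.f_t] at hke
      exact mul_inv_eq_iff_eq_mul.1 hke.symm
  have hlarge : S.syl < (P : Subgroup G) ⊓ Subgroup.centralizer ({S.t} : Set G) := by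
    refine lt_of_le_not_ge (le_inf hP ?_) fun h => hnK (Subgroup.mem_subgroupOf.2
      (h (Subgroup.mem_inf.2 ⟨n.2, Subgroup.mem_centralizer_singleton_iff.2 hnt⟩)))
    rintro _ ⟨i, -, rfl⟩
    exact Subgroup.mem_centralizer_singleton_iff.2 (S.comm_t i)
  have h1 := Subgroup.card_dvd_of_le
    (inf_le_right : (P : Subgroup G) ⊓ Subgroup.centralizer ({S.t} : Set G) ≤ _)
  rw [S.card_centralizer_t] at h1
  obtain ⟨m, hm⟩ := IsPGroup.iff_card.1 (P.isPGroup'.to_le
    (inf_le_left : (P : Subgroup G) ⊓ Subgroup.centralizer ({S.t} : Set G) ≤ _))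
  have h2 := Set.ncard_lt_ncard (show (S.syl : Set G) ⊂ _ from hlarge) (Set.toFinite _)
  rw [← Nat.card_coe_set_eq, ← Nat.card_coe_set_eq] at h2
  simp only [SetLike.coe_sort_coe, S.card_syl, hm] at h2
  rw [hm] at h1
  have hm6 : 7 ≤ m := by
    by_contra h
    have := Nat.pow_le_pow_right (show 1 ≤ 2 by norm_num) (show m ≤ 6 by omega)
    omega
  have : (2 : ℕ) ^ 7 ∣ 192 := (pow_dvd_pow 2 hm6).trans h1
  norm_num at this

/-- Every involution is conjugate to one of the centraliser. -/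
theorem exists_conj_f {x : G} (hx : orderOf x = 2) :
    ∃ g : G, ∃ i, cMul i i = 0 ∧ i ≠ 0 ∧ g * x * g⁻¹ = S.f i := by
  haveI : Fact (Nat.Prime 2) := ⟨Nat.prime_two⟩
  obtain ⟨P, hP⟩ := S.exists_sylow
  obtain ⟨Q, hQ⟩ := (IsPGroup.of_card (p := 2) (n := 1) (by rw [Nat.card_zpowers, hx, pow_one]) :
    IsPGroup 2 (Subgroup.zpowers x)).exists_le_sylow
  obtain ⟨g, hg⟩ := MulAction.exists_smul_eq G Q P
  have hm : g * x * g⁻¹ ∈ (P : Subgroup G) := by
    rw [← hg, Sylow.coe_subgroup_smul, Subgroup.mem_smul_pointwise_iff_exists]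
    exact ⟨x, hQ (Subgroup.mem_zpowers x), rfl⟩
  rw [hP] at hm
  obtain ⟨i, -, hi⟩ := hm
  have ho : orderOf (S.f i) = 2 := by
    rw [hi, show g * x * g⁻¹ = MulAut.conj g x from rfl, MulEquiv.orderOf_eq, hx]
  exact ⟨g, i, (S.sq_of_orderOf ho).1, (S.sq_of_orderOf ho).2, hi.symm⟩

/-- An involution commuting with `t`, seen from a conjugate centraliser. -/
theorem exists_back {g : G} {i : Fin 192} (hg : g * S.t * g⁻¹ = S.f i) :
    ∃ τ : Fin 192, S.f τ = g⁻¹ * S.t * g ∧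
      (∀ x : G, x * S.t = S.t * x → x * S.f i = S.f i * x →
        ∃ j, cCm τ j = true ∧ S.f j = g⁻¹ * x * g) ∧
      (∀ j : Fin 192, cCm τ j = true →
        g * S.f j * g⁻¹ * S.t = S.t * (g * S.f j * g⁻¹) ∧
          g * S.f j * g⁻¹ * S.f i = S.f i * (g * S.f j * g⁻¹)) := by
  obtain ⟨τ, hτ⟩ := (S.mem_iff (g⁻¹ * S.t * g)).1 (by
    have h := S.comm_t i
    rw [← hg] at h
    calc g⁻¹ * S.t * g * S.t = g⁻¹ * (S.t * (g * S.t * g⁻¹)) * g := by group
      _ = g⁻¹ * (g * S.t * g⁻¹ * S.t) * g := by rw [h]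
      _ = S.t * (g⁻¹ * S.t * g) := by group)
  refine ⟨τ, hτ, fun x hxt hxi => ?_, fun j hj => ⟨?_, ?_⟩⟩
  · obtain ⟨j, hj⟩ := (S.mem_iff (g⁻¹ * x * g)).1 (by
      rw [← hg] at hxi
      calc g⁻¹ * x * g * S.t = g⁻¹ * (x * (g * S.t * g⁻¹)) * g := by group
        _ = g⁻¹ * (g * S.t * g⁻¹ * x) * g := by rw [hxi]
        _ = S.t * (g⁻¹ * x * g) := by group)
    refine ⟨j, S.cCm_of_comm ?_, hj⟩
    rw [hτ, hj]
    calc g⁻¹ * S.t * g * (g⁻¹ * x * g) = g⁻¹ * (S.t * x) * g := by group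
      _ = g⁻¹ * (x * S.t) * g := by rw [hxt]
      _ = g⁻¹ * x * g * (g⁻¹ * S.t * g) := by group
  · have h := S.comm_of_cCm hj
    rw [hτ] at h
    calc g * S.f j * g⁻¹ * S.t = g * (S.f j * (g⁻¹ * S.t * g)) * g⁻¹ := by group
      _ = g * (g⁻¹ * S.t * g * S.f j) * g⁻¹ := by rw [h]
      _ = S.t * (g * S.f j * g⁻¹) := by group
  · rw [← hg]
    calc g * S.f j * g⁻¹ * (g * S.t * g⁻¹) = g * (S.f j * S.t) * g⁻¹ := by group
      _ = g * (S.t * S.f j) * g⁻¹ := by rw [S.comm_t j]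
      _ = g * S.t * g⁻¹ * (g * S.f j * g⁻¹) := by group

theorem card_back {g : G} {i τ : Fin 192} (hg : g * S.t * g⁻¹ = S.f i)
    (hτ : S.f τ = g⁻¹ * S.t * g) : cCard τ = cCard i := by
  rw [← S.card_centralizer_inf, ← S.card_centralizer_inf]
  refine Nat.card_congr
    { toFun := fun x => ⟨g * (x : G) * g⁻¹, ?_⟩
      invFun := fun x => ⟨g⁻¹ * (x : G) * g, ?_⟩
      left_inv := fun x => Subtype.ext (by simp [mul_assoc])
      right_inv := fun x => Subtype.ext (by simp [mul_assoc]) }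
  · obtain ⟨x, hx⟩ := x
    obtain ⟨h1, h2⟩ := Subgroup.mem_inf.1 hx
    rw [Subgroup.mem_centralizer_singleton_iff] at h1 h2
    rw [hτ] at h2
    refine Subgroup.mem_inf.2 ⟨Subgroup.mem_centralizer_singleton_iff.2 ?_,
      Subgroup.mem_centralizer_singleton_iff.2 ?_⟩
    · calc g * x * g⁻¹ * S.t = g * (x * (g⁻¹ * S.t * g)) * g⁻¹ := by group
        _ = g * (g⁻¹ * S.t * g * x) * g⁻¹ := by rw [h2]
        _ = S.t * (g * x * g⁻¹) := by group
    · rw [← hg]
      calc g * x * g⁻¹ * (g * S.t * g⁻¹) = g * (x * S.t) * g⁻¹ := by group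
        _ = g * (S.t * x) * g⁻¹ := by rw [h1]
        _ = g * S.t * g⁻¹ * (g * x * g⁻¹) := by group
  · obtain ⟨x, hx⟩ := x
    obtain ⟨h1, h2⟩ := Subgroup.mem_inf.1 hx
    rw [Subgroup.mem_centralizer_singleton_iff] at h1 h2
    rw [← hg] at h2
    refine Subgroup.mem_inf.2 ⟨Subgroup.mem_centralizer_singleton_iff.2 ?_,
      Subgroup.mem_centralizer_singleton_iff.2 ?_⟩
    · calc g⁻¹ * x * g * S.t = g⁻¹ * (x * (g * S.t * g⁻¹)) * g := by group
        _ = g⁻¹ * (g * S.t * g⁻¹ * x) * g := by rw [h2]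
        _ = S.t * (g⁻¹ * x * g) := by group
    · rw [hτ]
      calc g⁻¹ * x * g * (g⁻¹ * S.t * g) = g⁻¹ * (x * S.t) * g := by group
        _ = g⁻¹ * (S.t * x) * g := by rw [h1]
        _ = g⁻¹ * S.t * g * (g⁻¹ * x * g) := by group

theorem isConj_rep' (i : Fin 192) (h : cCls i = 4 ∨ cCls i = 9 ∨ cCls i = 12) :
    IsConj (S.f (if cCls i = 4 then 55 else if cCls i = 9 then 61 else 3)) (S.f i) := by
  have e := cls_rep_eq i
  rcases h with h | h | h
  · rw [if_pos h, ← e.1 h]; exact S.isConj_rep i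
  · rw [if_neg (by omega), if_pos h, ← e.2.1 h]; exact S.isConj_rep i
  · rw [if_neg (by omega), if_neg (by omega), ← e.2.2 h]; exact S.isConj_rep i

theorem isConj_cls4 {i : Fin 192} (h : cCls i = 4) : IsConj (S.f 55) (S.f i) := by
  rw [← (cls_rep_eq i).1 h]; exact S.isConj_rep i

theorem isConj_cls9 {i : Fin 192} (h : cCls i = 9) : IsConj (S.f 61) (S.f i) := by
  rw [← (cls_rep_eq i).2.1 h]; exact S.isConj_rep i

theorem isConj_cls12 {i : Fin 192} (h : cCls i = 12) : IsConj (S.f 3) (S.f i) := by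
  rw [← (cls_rep_eq i).2.2 h]; exact S.isConj_rep i

theorem cls_of_card {τ : Fin 192} (hsq : cMul τ τ = 0) (h0 : τ ≠ 0) (ht : τ ≠ cT) :
    (cCard τ = 16 → cCls τ = 4) ∧ (cCard τ = 8 → cCls τ = 9) ∧ (cCard τ = 32 → cCls τ = 12) := by
  rcases ((sq_cases τ hsq).resolve_left h0).resolve_left ht with h | h | h <;>
    [have := (cls_cCard τ).1 h; have := (cls_cCard τ).2.1 h; have := (cls_cCard τ).2.2 h] <;>
    refine ⟨fun e => ?_, fun e => ?_, fun e => ?_⟩ <;> omega

theorem back_facts {g : G} {i τ : Fin 192} (hg : g * S.t * g⁻¹ = S.f i) (hi : i ≠ cT)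
    (hτ : S.f τ = g⁻¹ * S.t * g) : cMul τ τ = 0 ∧ τ ≠ 0 ∧ τ ≠ cT := by
  refine ⟨S.inj ?_, fun e => ?_, fun e => ?_⟩
  · rw [S.fmul, S.fone, hτ]
    calc g⁻¹ * S.t * g * (g⁻¹ * S.t * g) = g⁻¹ * (S.t * S.t) * g := by group
      _ = 1 := by rw [S.t_sq, mul_one, inv_mul_cancel]
  · rw [e, S.fone] at hτ
    refine S.t_ne_one ?_
    calc S.t = g * (g⁻¹ * S.t * g) * g⁻¹ := by group
      _ = 1 := by rw [← hτ]; group
  · rw [e, S.f_t] at hτ
    refine hi (S.inj ?_)
    rw [← hg, S.f_t]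
    calc g * S.t * g⁻¹ = g * (g⁻¹ * S.t * g) * g⁻¹ := by rw [← hτ]
      _ = S.t := by group

/-- The involutions of the class of `55` are not conjugate to `t`. -/
theorem not_isConj_b : ¬ IsConj S.t (S.f 55) := by
  intro h
  obtain ⟨g, hg⟩ := isConj_iff.1 h
  obtain ⟨τ, hτ, -, hforth⟩ := S.exists_back hg
  obtain ⟨hsq, h0, ht⟩ := S.back_facts hg (by decide) hτ
  have hcls : cCls τ = 4 := (cls_of_card hsq h0 ht).1
    ((S.card_back hg hτ).trans ((cls_cCard 55).1 cls_reps.1))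
  obtain ⟨x, hx, y, hy, hxy⟩ := b_comm_ex τ hcls
  obtain ⟨hxt, hxb⟩ := hforth x hx
  obtain ⟨hyt, hyb⟩ := hforth y hy
  obtain ⟨x', hx'⟩ := (S.mem_iff _).1 hxt
  obtain ⟨y', hy'⟩ := (S.mem_iff _).1 hyt
  have hc := b_comm x' y' (S.cCm_of_comm (by rw [hx', hxb])) (S.cCm_of_comm (by rw [hy', hyb]))
  have hval : S.f (cComm x' y') = S.f 55 := by
    rw [S.fcomm, hx', hy', ← hg, ← S.f_t, ← hxy, S.fcomm]
    group
  rcases hc with e | e <;> rw [e] at hval
  · exact absurd (S.inj hval) (by decide)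
  · exact absurd (S.inj hval) (by decide)

/-- The fusion of the classes of `3` and `61` used for the order. -/
structure Fused : Prop where
  a : IsConj S.t (S.f 3)
  c : IsConj S.t (S.f 61) ∨ IsConj (S.f 55) (S.f 61)

/-- The class of `61` fuses as soon as that of `3` is the class of `t`. -/
theorem fused_of_conj (hA : IsConj S.t (S.f 3)) : S.Fused := by
  refine ⟨hA, ?_⟩
  obtain ⟨P, hP⟩ := S.exists_sylow
  have hle : S.maxSyl ≤ (P : Subgroup G) := by
    rw [hP]
    rintro _ ⟨i, hi, rfl⟩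
    exact ⟨i, (inMax_facts.2.2.1 i hi).2.1, rfl⟩
  have h61 := cls_sq 61 (Or.inr (Or.inl cls_reps.2.1))
  have hi61 : inSyl 61 = true ∧ inMax 61 = false := by decide +kernel
  have hrel : S.maxSyl.relIndex (P : Subgroup G) = 2 := by
    have h : S.maxSyl.relIndex (P : Subgroup G) * Nat.card S.maxSyl = Nat.card (P : Subgroup G) := by
      rw [Subgroup.relIndex, ← Nat.card_congr (Subgroup.subgroupOfEquivOfLe hle).toEquiv]
      exact Subgroup.index_mul_card _
    rw [hP, S.card_syl, S.card_maxSyl, ← hP] at h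
    omega
  rcases Cfsg.Agent.S0111.result P S.maxSyl hle hrel (S.f 61) (S.orderOf_f h61.1 h61.2.1)
      (by rw [hP]; exact ⟨61, hi61.1, rfl⟩)
      (fun ⟨i, hi, e⟩ => by rw [S.inj e] at hi; rw [hi61.2] at hi; exact Bool.false_ne_true hi) with
    ⟨M, hM, hM2, hMu⟩ | ⟨g, i, hi, hie⟩
  · exfalso
    obtain ⟨hsq, hexp, hout, hcom, ⟨x, y, hx, hy, hxy⟩⟩ := transfer_facts
    have hsqM : ∀ z : G, z * z ∈ M := fun z => Subgroup.mul_self_mem_of_index_two hM2 z
    have hQM : ∀ i, inMax i = true → S.f i ∈ M := fun i hi => by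
      obtain ⟨j, k, rfl⟩ := hsq i hi
      rw [S.fmul, S.fmul, S.fmul]
      exact mul_mem (hsqM _) (hsqM _)
    have hback : ∀ i, cPow i 4 = 0 → S.f i ∈ M → inMax i = true := fun i hi hm => by
      rcases hout i hi with h | ⟨j, k, rfl⟩
      · exact h
      · rw [S.fmul, S.fmul, S.fmul, S.fmul] at hm
        exact absurd ((mul_mem_cancel_right (mul_mem (hsqM _) (hsqM _))).1 hm) hMu
    obtain ⟨g, hgM, hg⟩ : ∃ g ∈ M, g * S.t * g⁻¹ = S.f 3 := by
      obtain ⟨g, hg⟩ := isConj_iff.1 hA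
      by_cases h : g ∈ M
      · exact ⟨g, h, hg⟩
      · refine ⟨g * S.f 61, (Subgroup.mul_mem_iff_of_index_two hM2).2 (iff_of_false h hMu), ?_⟩
        rw [show g * S.f 61 * S.t * (g * S.f 61)⁻¹ = g * (S.f 61 * S.t * (S.f 61)⁻¹) * g⁻¹ by group,
          S.comm_t 61, mul_inv_cancel_right, hg]
    have hmove : ∀ z : Fin 192, inMax z = true → cMul 3 z = cMul z 3 →
        ∃ i, inMax i = true ∧ S.f i = g⁻¹ * S.f z * g := fun z hz h3 => by
      obtain ⟨i, hi⟩ := (S.mem_iff (g⁻¹ * S.f z * g)).1 (by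
        calc g⁻¹ * S.f z * g * S.t = g⁻¹ * (S.f z * (g * S.t * g⁻¹)) * g := by group
          _ = g⁻¹ * (g * S.t * g⁻¹ * S.f z) * g := by rw [hg, ← S.fmul, ← S.fmul, h3]
          _ = S.t * (g⁻¹ * S.f z * g) := by group)
      refine ⟨i, hback i (S.inj ?_) (hi ▸ mul_mem (mul_mem (inv_mem hgM) (hQM z hz)) hgM), hi⟩
      have hpow : ∀ n, ∀ j, S.f (cPow j n) = S.f j ^ n := fun n => by
        induction n with
        | zero => intro j; simp [cPow, S.fone]
        | succ n ih => intro j; rw [cPow, S.fmul, ih, pow_succ']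
      rw [hpow, hi, show g⁻¹ * S.f z * g = g⁻¹ * S.f z * (g⁻¹)⁻¹ by rw [inv_inv], conj_pow, ← hpow,
        hexp z hz, S.fone]
      group
    obtain ⟨i, hi, hie⟩ := hmove x hx.1 hx.2
    obtain ⟨l, hl, hle'⟩ := hmove y hy.1 hy.2
    have ht : g * S.f (cComm i l) * g⁻¹ = S.t := by
      rw [S.fcomm, hie, hle', ← S.f_t, ← hxy, S.fcomm]
      group
    rcases hcom i l hi hl with e | e <;> rw [e] at ht
    · rw [S.fone] at ht
      exact S.t_ne_one (by rw [← ht]; group)
    · rw [S.f_t, hg, ← S.f_t] at ht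
      exact absurd (S.inj ht) (by decide)
  · have hc : IsConj (S.f 61) (S.f i) := isConj_iff.2 ⟨g, hie.symm⟩
    have ho : orderOf (S.f i) = 2 := by
      rw [hie, show g * S.f 61 * g⁻¹ = MulAut.conj g (S.f 61) from rfl, MulEquiv.orderOf_eq]
      exact S.orderOf_f h61.1 h61.2.1
    obtain ⟨hsq, h0⟩ := S.sq_of_orderOf ho
    rcases (sq_cases i hsq).resolve_left h0 with e | e | e | e
    · exact Or.inl ((S.f_t ▸ e ▸ hc).symm)
    · exact Or.inr ((S.isConj_cls4 e).trans hc.symm)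
    · exact absurd e (inMax_facts.2.2.1 i hi).2.2
    · exact Or.inl ((hA.trans (S.isConj_cls12 e)).trans hc.symm)

variable [IsSimpleGroup G] (hna : ¬ IsMulCommutative G)
include hna

theorem exists_conj_ne : ∃ g : G, ∃ i, (cCls i = 4 ∨ cCls i = 9 ∨ cCls i = 12) ∧
    g * S.t * g⁻¹ = S.f i := by
  obtain ⟨P, hP⟩ := S.exists_sylow
  by_contra hno
  have ht2 : orderOf S.t = 2 := by rw [← S.f_t]; exact S.orderOf_f (by decide +kernel) (by decide)
  obtain ⟨N, hN, hodd, hcom⟩ := Cfsg.Agent.S0215.result P S.t ht2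
    (show S.t ∈ (P : Subgroup G) by rw [hP]; exact ⟨cT, inSyl_facts.2.1, S.f_t⟩) fun g hg => by
    replace hg : g * S.t * g⁻¹ ∈ (P : Subgroup G) := hg
    rw [hP] at hg
    obtain ⟨i, -, hi⟩ := hg
    have ho : orderOf (S.f i) = 2 := by
      rw [hi, show g * S.t * g⁻¹ = MulAut.conj g S.t from rfl, MulEquiv.orderOf_eq, ht2]
    obtain ⟨hsq, h0⟩ := S.sq_of_orderOf ho
    rcases (sq_cases i hsq).resolve_left h0 with e | e
    · rw [← hi, e, S.f_t]
    · exact (hno ⟨g, i, e, hi.symm⟩).elim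
  rcases hN.eq_bot_or_eq_top with h | h
  · have hz : S.t ∈ Subgroup.center G := by
      rw [Subgroup.mem_center_iff]
      intro g
      have := hcom g
      rw [h, Subgroup.mem_bot] at this
      calc g * S.t = (S.t * g * S.t⁻¹ * g⁻¹) * (g * S.t) := by rw [this, one_mul]
        _ = S.t * g := by group
    rcases (inferInstance : (Subgroup.center G).Normal).eq_bot_or_eq_top with h' | h'
    · rw [h', Subgroup.mem_bot] at hz; exact S.t_ne_one hz
    · exact hna ⟨⟨fun a b => (Subgroup.mem_center_iff.1 (h' ▸ Subgroup.mem_top a) b).symm⟩⟩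
  · rw [h, Subgroup.card_top] at hodd
    exact Nat.not_even_iff_odd.2 hodd (even_iff_two_dvd.2 (ht2 ▸ orderOf_dvd_natCard S.t))

/-- The involutions of the class of `3` are conjugate to `t`. -/
theorem isConj_a : IsConj S.t (S.f 3) := by
  obtain ⟨g, i, hi, hg⟩ := S.exists_conj_ne hna
  by_contra hA
  have hti : IsConj S.t (S.f i) := isConj_iff.2 ⟨g, hg⟩
  have h9 : cCls i = 9 := by
    rcases hi with h | h | h
    · exact absurd (hti.trans (S.isConj_cls4 h).symm) S.not_isConj_b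
    · exact h
    · exact absurd (hti.trans (S.isConj_cls12 h).symm) hA
  have hC : IsConj S.t (S.f 61) := hti.trans (S.isConj_cls9 h9).symm
  obtain ⟨g, hg⟩ := isConj_iff.1 hC
  obtain ⟨τ, hτ, hback, -⟩ := S.exists_back hg
  obtain ⟨hsq, h0, ht⟩ := S.back_facts hg (by decide) hτ
  have hcls : cCls τ = 9 := (cls_of_card hsq h0 ht).2.1
    ((S.card_back hg hτ).trans ((cls_cCard 61).2.1 cls_reps.2.1))
  obtain ⟨hE, a, ha, ha12, ha', ha12', hprod⟩ := c_facts
  have key : ∀ x : Fin 192, cCm 61 x = true → cCls x = 12 →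
      ∃ j, cCm τ j = true ∧ S.f j = g⁻¹ * S.f x * g ∧ cCls j = 12 := by
    intro x hx hx12
    obtain ⟨j, hj, hje⟩ := hback (S.f x) (S.comm_t x) (S.comm_of_cCm hx).symm
    refine ⟨j, hj, hje, ?_⟩
    obtain ⟨hxsq, hx0, -⟩ := cls_sq x (Or.inr (Or.inr hx12))
    have hxj : IsConj (S.f j) (S.f x) := isConj_iff.2 ⟨g, by rw [hje]; group⟩
    have hA' : ¬ IsConj S.t (S.f x) := fun h => hA (h.trans (S.isConj_cls12 hx12).symm)
    have hjo : orderOf (S.f j) = 2 := by
      rw [hje, show g⁻¹ * S.f x * g = MulAut.conj g⁻¹ (S.f x) by simp, MulEquiv.orderOf_eq]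
      exact S.orderOf_f hxsq hx0
    obtain ⟨hjsq, hj0⟩ := S.sq_of_orderOf hjo
    rcases (sq_cases j hjsq).resolve_left hj0 with e | e | e | e
    · exact absurd (S.f_t ▸ e ▸ hxj) hA'
    · exfalso
      -- an element of the class of `55` in the centraliser of `τ`
      obtain ⟨hτ1, -⟩ := c_facts
      have hτc : cRep τ = 61 := (cls_rep_eq τ).2.1 hcls
      have hconj : cConj (cWit τ) 61 = τ := by rw [← hτc]; exact cConj_wit τ
      have e' : cCls (cConj (cInv (cWit τ)) j) = 4 ∧ cMul (cConj (cInv (cWit τ)) j) (cConj (cInv (cWit τ)) j) = 0 ∧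
          cCm 61 (cConj (cInv (cWit τ)) j) = true := by
        refine ⟨?_, S.inj ?_, S.cCm_of_comm ?_⟩
        · exact (cls_conj _ _).trans e
        · rw [S.fmul, S.fone, S.fconj, S.finv, inv_inv]
          calc (S.f (cWit τ))⁻¹ * S.f j * S.f (cWit τ) * ((S.f (cWit τ))⁻¹ * S.f j * S.f (cWit τ))
              = (S.f (cWit τ))⁻¹ * (S.f j * S.f j) * S.f (cWit τ) := by group
            _ = 1 := by rw [← S.fmul, hjsq, S.fone, mul_one, inv_mul_cancel]
        · have h61 : S.f 61 = (S.f (cWit τ))⁻¹ * S.f τ * S.f (cWit τ) := by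
            have hw := congrArg S.f hconj
            rw [S.fconj] at hw
            rw [← hw]; group
          rw [S.fconj, S.finv, inv_inv, h61]
          have hcm := S.comm_of_cCm hj
          calc (S.f (cWit τ))⁻¹ * S.f τ * S.f (cWit τ) * ((S.f (cWit τ))⁻¹ * S.f j * S.f (cWit τ))
              = (S.f (cWit τ))⁻¹ * (S.f τ * S.f j) * S.f (cWit τ) := by group
            _ = (S.f (cWit τ))⁻¹ * (S.f j * S.f τ) * S.f (cWit τ) := by rw [hcm]
            _ = (S.f (cWit τ))⁻¹ * S.f j * S.f (cWit τ) *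
                ((S.f (cWit τ))⁻¹ * S.f τ * S.f (cWit τ)) := by group
      exact hτ1 _ e'.2.2 e'.2.1 e'.1
    · exact absurd ((hC.trans (S.isConj_cls9 e)).trans hxj) hA'
    · exact e
  obtain ⟨j, hj, hje, hj12⟩ := key a ha ha12
  obtain ⟨k, hk, hke, hk12⟩ := key _ ha' ha12'
  have hne : j ≠ k := fun e => by
    rw [e, hke] at hje
    have h := S.inj (mul_left_cancel (mul_right_cancel hje))
    have h' := congrArg S.f h
    rw [S.fmul, S.f_t] at h'
    exact S.t_ne_one (mul_eq_left.1 h')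
  have hp := congrArg S.f (c_pairs τ hcls j hj hj12 k hk hk12 hne)
  rw [S.fmul, hje, hke, S.f_t] at hp
  have hat : S.f a * S.f (cMul a cT) = S.t := by rw [← S.fmul, hprod, S.f_t]
  have : S.f τ = S.t := by
    calc S.f τ = g⁻¹ * (S.f a * S.f (cMul a cT)) * g := by rw [hat, hτ]
      _ = g⁻¹ * S.f a * g * (g⁻¹ * S.f (cMul a cT) * g) := by group
      _ = S.t := hp
  exact ht (S.inj (this.trans S.f_t.symm))

/-- The involutions of the class of `61` are conjugate to `t` or to those of the class of `55`. -/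
theorem isConj_c : IsConj S.t (S.f 61) ∨ IsConj (S.f 55) (S.f 61) := by
  haveI : Fintype G := Fintype.ofFinite G
  obtain ⟨P, hP⟩ := S.exists_sylow
  have hG : 2 < Nat.card G := by
    have h := Subgroup.card_le_card_group S.syl
    rw [S.card_syl] at h
    omega
  have hle : S.maxSyl ≤ (P : Subgroup G) := by
    rw [hP]
    rintro _ ⟨i, hi, rfl⟩
    exact ⟨i, (inMax_facts.2.2.1 i hi).2.1, rfl⟩
  obtain ⟨g, i, hi, hie⟩ := Cfsg.Lib.MEleven.exists_conj_mem_index_two hG P S.maxSyl hle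
    (by rw [hP, S.card_syl, S.card_maxSyl]) (S.orderOf_f (cls_sq 61 (Or.inr (Or.inl cls_reps.2.1))).1 (by decide))
  have h61 : IsConj (S.f 61) (S.f i) := isConj_iff.2 ⟨g, hie.symm⟩
  have ho : orderOf (S.f i) = 2 := by
    rw [hie, show g * S.f 61 * g⁻¹ = MulAut.conj g (S.f 61) from rfl, MulEquiv.orderOf_eq]
    exact S.orderOf_f (cls_sq 61 (Or.inr (Or.inl cls_reps.2.1))).1 (by decide)
  obtain ⟨hsq, h0⟩ := S.sq_of_orderOf ho
  rcases (sq_cases i hsq).resolve_left h0 with e | e | e | e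
  · exact Or.inl ((S.f_t ▸ e ▸ h61).symm)
  · exact Or.inr ((S.isConj_cls4 e).trans h61.symm)
  · exact absurd e (inMax_facts.2.2.1 i hi).2.2
  · exact Or.inl (((S.isConj_a hna).trans (S.isConj_cls12 e)).trans h61.symm)

/-- A simple group is fused. -/
theorem fused : S.Fused := ⟨S.isConj_a hna, S.isConj_c hna⟩

end Setup

end Cfsg.Lib.MTwelveRecog
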