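import Cfsg.Agent.Lib.MTwelveRecog.Three
import Cfsg.Agent.Lib.J2Type.Involution

/-!
An elementary abelian subgroup of order 9 inverted by `t`, all of whose nontrivial elements are
conjugate to `f 6`: its normaliser has order 432 and is transitive on the eight nontrivial elements.
-/

set_option autoImplicit false
set_option linter.style.haveILetI false
set_option linter.unusedSectionVars false
set_option maxRecDepth 100000

namespace Cfsg.Lib.MTwelveRecog

open Cfsg Subgroup

universe u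

theorem rgrp_klein : ∃ v w : Fin 192, cCm 55 v = true ∧ cCm 55 w = true ∧ cCm v w = true ∧
    cMul v v = 0 ∧ cMul w w = 0 ∧ v ≠ 0 ∧ w ≠ 0 ∧ v ≠ 55 ∧ w ≠ 55 ∧ v ≠ w ∧ w ≠ cMul v 55 := by
  decide +kernel

variable {G : Type u} [Group G] [Finite G]

/-- An inverted subgroup of order 9 of conjugates of `f 6`. -/
structure Line (S : Setup G) where
  E : Subgroup G
  card_E : Nat.card E = 9
  comm : ∀ a ∈ E, ∀ c ∈ E, a * c = c * a
  isX : ∀ e ∈ E, e ≠ 1 → IsConj (S.f 6) e
  card_N : Nat.card (normalizer (E : Set G)) = 432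
  cent_E : ∀ g : G, (∀ e ∈ E, g * e = e * g) → g ∈ E
  inv_t : ∀ e ∈ E, S.t * e * S.t⁻¹ = e⁻¹
  cent_le : ∀ e ∈ E, e ≠ 1 → ∀ g : G, g * e = e * g → g ∈ normalizer (E : Set G)

/-- An element of order two in a group with a normal subgroup of odd order and index two. -/
theorem invol_eq_of_index_two {C : Subgroup G} {T : Subgroup C} (hT : T.index = 2)
    (hodd : Odd (Nat.card T)) {v w : C} (hv : orderOf v = 2) (hw : orderOf w = 2) (hc : v * w = w * v) :
    v = w := by
  have hsq : ∀ x : C, orderOf x = 2 → x * x = 1 := fun x hx => by rw [← sq, ← hx, pow_orderOf_eq_one]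
  have hnot : ∀ x : C, orderOf x = 2 → x ∉ T := fun x hx hm => by
    have h := Subgroup.orderOf_dvd_natCard _ hm
    rw [hx] at h
    exact Nat.not_even_iff_odd.2 hodd (even_iff_two_dvd.2 h)
  have hm : v * w ∈ T := (mul_mem_iff_of_index_two hT).2 (iff_of_false (hnot v hv) (hnot w hw))
  have h2 : (v * w) ^ 2 = 1 := by
    rw [sq]
    calc v * w * (v * w) = v * (w * v) * w := by group
      _ = v * (v * w) * w := by rw [hc]
      _ = v * v * (w * w) := by group
      _ = 1 := by rw [hsq v hv, hsq w hw, one_mul]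
  have h1 : v * w = 1 := by
    rcases (Nat.dvd_prime Nat.prime_two).1 (orderOf_dvd_of_pow_eq_one h2) with e | e
    · exact orderOf_eq_one_iff.1 e
    · exact absurd hm (hnot _ e)
  calc v = v * (w * w) := by rw [hsq w hw, mul_one]
    _ = w := by rw [← mul_assoc, h1, one_mul]

namespace Facts

variable [IsSimpleGroup G] {S : Setup G} (F : Facts S)
include F

/-- A Klein group centralises no conjugate of `f 6`. -/
theorem invol_eq_of_comm {e v w : G} (he : IsConj (S.f 6) e) (hv : orderOf v = 2) (hw : orderOf w = 2)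
    (hvw : v * w = w * v) (hve : v * e = e * v) (hwe : w * e = e * w) : v = w := by
  obtain ⟨z, hz3, hz1⟩ := three_ex
  letI := Fintype.ofFinite G
  set C := centralizer ({e} : Set G) with hC
  have h54 : Nat.card C = 54 := by
    rw [hC, card_centralizer_conj he]
    classical exact (F.odd_facts hz3 hz1).2.2.2.2.1
  haveI : Fact (Nat.Prime 3) := ⟨Nat.prime_three⟩
  obtain ⟨T, hT⟩ := Sylow.exists_subgroup_card_pow_prime 3 (show 3 ^ 3 ∣ Nat.card C by rw [h54]; norm_num)
  have hidx : T.index = 2 := by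
    have h := T.index_mul_card
    rw [h54, hT] at h
    omega
  have := invol_eq_of_index_two hidx (by rw [hT]; decide)
    (v := ⟨v, mem_centralizer_singleton_iff.2 hve⟩) (w := ⟨w, mem_centralizer_singleton_iff.2 hwe⟩)
    (by rw [orderOf_mk, hv]) (by rw [orderOf_mk, hw]) (Subtype.ext hvw)
  exact congrArg Subtype.val this

theorem exists_line_normalizer : ∃ E : Subgroup G, Nat.card E = 9 ∧ (∀ a ∈ E, ∀ c ∈ E, a * c = c * a) ∧
    (∀ e ∈ E, e ≠ 1 → IsConj (S.f 6) e) ∧ Nat.card (normalizer (E : Set G)) = 432 ∧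
    (∀ g : G, (∀ e ∈ E, g * e = e * g) → g ∈ E) ∧
    (∀ e ∈ E, e ≠ 1 → ∀ g : G, g * e = e * g → g ∈ normalizer (E : Set G)) := by
  classical
  haveI : Fact (Nat.Prime 3) := ⟨Nat.prime_three⟩
  haveI : Fact (Nat.Prime 2) := ⟨Nat.prime_two⟩
  letI := Fintype.ofFinite G
  obtain ⟨z, hz3, hz1⟩ := three_ex
  obtain ⟨T, g₁, g₂, hT, h6T, hTc, -, h1T, h2T, h1X, h2X, h1Z, hK1, hK2, hmeet, hX⟩ := F.three_lines hz3 hz1
  obtain ⟨hA, -, -, -, hC54, -, -⟩ := F.odd_facts hz3 hz1
  have h6 := F.orderOf_six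
  set Z := zpowers (S.f 6) with hZ
  set C := centralizer ({S.f 6} : Set G) with hC
  have hTC : T ≤ C := fun v hv => mem_centralizer_singleton_iff.2 (hTc v hv).symm
  have hTidx : (T.subgroupOf C).index = 2 := by
    have h := (T.subgroupOf C).index_mul_card
    rw [Nat.card_congr (subgroupOfEquivOfLe hTC).toEquiv, hC54, hT] at h
    omega
  have hC3 : ∀ v : G, v ∈ C → orderOf v = 3 → v ∈ T := fun v hv hv3 => by
    have h := Subgroup.sq_mem_of_index_two hTidx ((⟨v, hv⟩ : C) ^ 2)
    rw [← pow_mul, mem_subgroupOf, coe_pow, show 2 * 2 = 3 + 1 from rfl, pow_succ] at h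
    change v ^ 3 * v ∈ T at h
    rwa [← hv3, pow_orderOf_eq_one, one_mul] at h
  set K1 := T ⊓ centralizer ({g₁} : Set G) with hK1d
  set K2 := T ⊓ centralizer ({g₂} : Set G) with hK2d
  have hZK : ∀ g ∈ T, S.f 6 ∈ T ⊓ centralizer ({g} : Set G) := fun g hg =>
    mem_inf.2 ⟨h6T, mem_centralizer_singleton_iff.2 (hTc g hg)⟩
  have habel : ∀ L : Subgroup G, Nat.card L = 9 → ∀ a ∈ L, ∀ c ∈ L, a * c = c * a := fun L hL a ha c hc =>
    congrArg Subtype.val ((IsPGroup.isMulCommutative_of_card_eq_prime_sq (p := 3) (G := L)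
      (by rw [hL]; norm_num)).is_comm.comm ⟨a, ha⟩ ⟨c, hc⟩)
  -- the lines through `f 6`
  have hlines : ∀ L : Subgroup G, Nat.card L = 9 → (∀ v ∈ L, v ≠ 1 → IsConj (S.f 6) v) → S.f 6 ∈ L →
      L = K1 ∨ L = K2 := by
    intro L hL hLX h6L
    have hLT : L ≤ T := by
      intro v hv
      by_cases hv1 : v = 1
      · rw [hv1]; exact one_mem T
      exact hC3 v (mem_centralizer_singleton_iff.2 (habel L hL v hv _ h6L))
        ((orderOf_eq_of_isConj (hLX v hv hv1)).trans h6)
    obtain ⟨v, hvL, hvZ⟩ : ∃ v ∈ L, v ∉ Z := by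
      by_contra hall
      push_neg at hall
      have := card_dvd_of_le (show L ≤ Z from hall)
      rw [hL, hZ, Nat.card_zpowers, h6] at this
      norm_num at this
    have hcase := (hX v (hLT hvL) fun e => hvZ (e ▸ one_mem _)).1 (hLX v hvL fun e => hvZ (e ▸ one_mem _))
    have key : ∀ g ∈ T, Nat.card ↥(T ⊓ centralizer ({g} : Set G)) = 9 →
        v ∈ T ⊓ centralizer ({g} : Set G) → L = T ⊓ centralizer ({g} : Set G) := by
      intro g hg hgc hvg
      have h9 := Nat.le_of_dvd Nat.card_pos (nine_le (inf_le_left.trans hLT : L ⊓ (T ⊓ centralizer ({g} : Set G)) ≤ T)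
        hT (mem_inf.2 ⟨h6L, hZK g hg⟩) h6 (mem_inf.2 ⟨hvL, hvg⟩) hvZ)
      rw [← eq_of_le_of_card_ge (inf_le_left : L ⊓ (T ⊓ centralizer ({g} : Set G)) ≤ L) (by rw [hL]; exact h9)]
      exact eq_of_le_of_card_ge inf_le_right (by rw [hgc]; exact h9)
    rcases hcase with h | h
    · exact Or.inl (key g₁ h1T hK1 h)
    · exact Or.inr (key g₂ h2T hK2 h)
  have h1K : g₁ ∈ K1 := mem_inf.2 ⟨h1T, mem_centralizer_singleton_iff.2 rfl⟩
  have hEX : ∀ e ∈ K1, e ≠ 1 → IsConj (S.f 6) e := fun e he he1 =>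
    (hX e (mem_inf.1 he).1 he1).2 (Or.inl he)
  have hEc := habel K1 hK1
  -- centralisers
  have hcv : ∀ v ∈ K1, v ∉ Z → centralizer ({v} : Set G) ⊓ C = K1 := by
    intro v hv hvZ
    have hle : K1 ≤ centralizer ({v} : Set G) ⊓ C := fun a ha =>
      mem_inf.2 ⟨mem_centralizer_singleton_iff.2 (hEc a ha v hv), hTC (mem_inf.1 ha).1⟩
    refine (eq_of_le_of_card_ge hle ?_).symm
    rw [hK1]
    by_contra hlt
    obtain ⟨c, hc⟩ : 9 ∣ Nat.card ↥(centralizer ({v} : Set G) ⊓ C) := hK1 ▸ card_dvd_of_le hle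
    have hd := card_dvd_of_le (inf_le_right : centralizer ({v} : Set G) ⊓ C ≤ C)
    rw [hc, hC54] at hd
    have hc6 : c ∣ 6 := Nat.dvd_of_mul_dvd_mul_left (by norm_num : 0 < 9) (show 9 * c ∣ 9 * 6 from hd)
    have hcc : c ∈ Nat.divisors 6 := Nat.mem_divisors.2 ⟨hc6, by norm_num⟩
    rw [show Nat.divisors 6 = {1, 2, 3, 6} by decide +kernel] at hcc
    simp only [Finset.mem_insert, Finset.mem_singleton] at hcc
    have hcase : 2 ∣ c ∨ c = 3 := by omega
    rcases hcase with h | h
    · obtain ⟨⟨w, hwm⟩, hw⟩ := exists_prime_orderOf_dvd_card' (G := ↥(centralizer ({v} : Set G) ⊓ C)) 2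
        (hc ▸ Dvd.dvd.mul_left h 9)
      rw [orderOf_mk] at hw
      obtain ⟨hwv, hw6⟩ := mem_inf.1 hwm
      have hw6' := mem_centralizer_singleton_iff.1 hw6
      rcases F.inf_cases (x := S.f 6) (by rw [h6]; decide) (fun e => by rw [e, orderOf_one] at h6; omega) hw
        hw6'.symm with ⟨-, -, h6c⟩ | ⟨p, hp, hpc, -⟩
      · have hle2 : K1 ≤ centralizer ({w} : Set G) ⊓ centralizer ({S.f 6} : Set G) := by
          intro a ha
          refine mem_inf.2 ⟨mem_centralizer_singleton_iff.2 ?_, hTC (mem_inf.1 ha).1⟩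
          -- `a` is a product of powers of `f 6` and `v`
          have hcent : K1 ≤ centralizer ({w} : Set G) := by
            have h9 := nine_le (inf_le_left.trans inf_le_left :
              K1 ⊓ centralizer ({w} : Set G) ≤ T) hT
              (mem_inf.2 ⟨hZK g₁ h1T, mem_centralizer_singleton_iff.2 hw6'.symm⟩) h6
              (mem_inf.2 ⟨hv, mem_centralizer_singleton_iff.2 (mem_centralizer_singleton_iff.1 hwv).symm⟩) hvZ
            exact inf_eq_left.1 (eq_of_le_of_card_ge inf_le_left (by rw [hK1]; exact Nat.le_of_dvd Nat.card_pos h9))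
          exact mem_centralizer_singleton_iff.1 (hcent ha)
        have := card_dvd_of_le hle2
        rw [hK1, h6c] at this
        norm_num at this
      · rw [h6] at hp
        exact F.not_isConj_six (by rw [← hp, pow_orderOf_eq_one])
          (fun e => by rw [e, orderOf_one] at hp; omega) hpc.symm
    · -- the centraliser would contain `T`
      have hTle : T ≤ centralizer ({v} : Set G) := by
        have hsub : centralizer ({v} : Set G) ⊓ C ≤ T := by
          intro a ha
          have hd27 : orderOf a ∣ 27 := by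
            have := Subgroup.orderOf_dvd_natCard _ ha
            rwa [hc, h] at this
          have h2 := Subgroup.sq_mem_of_index_two hTidx ((⟨a, (mem_inf.1 ha).2⟩ : C) ^ 14)
          rw [← pow_mul, mem_subgroupOf, coe_pow] at h2
          change a ^ (14 * 2) ∈ T at h2
          rwa [show 14 * 2 = 27 + 1 from rfl, pow_succ, orderOf_dvd_iff_pow_eq_one.1 hd27, one_mul] at h2
        have e := eq_of_le_of_card_ge hsub (by rw [hT, hc, h])
        exact e ▸ inf_le_left
      have hv1 := hTle h1T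
      have hv2 := hTle h2T
      exact hvZ (hmeet v (mem_inf.2 ⟨(mem_inf.1 hv).1, mem_centralizer_singleton_iff.2
        (mem_centralizer_singleton_iff.1 hv1).symm⟩) (mem_inf.2 ⟨(mem_inf.1 hv).1,
        mem_centralizer_singleton_iff.2 (mem_centralizer_singleton_iff.1 hv2).symm⟩))
  have hCE : ∀ g : G, (∀ e ∈ K1, g * e = e * g) → g ∈ K1 := by
    intro g hg
    rw [← hcv g₁ h1K h1Z]
    exact mem_inf.2 ⟨mem_centralizer_singleton_iff.2 (hg _ h1K),
      mem_centralizer_singleton_iff.2 (hg _ (hZK g₁ h1T))⟩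
  -- conjugates of the line through `f 6`
  have himg : ∀ g : G, g * S.f 6 * g⁻¹ = S.f 6 →
      K1.map (MulAut.conj g).toMonoidHom = K1 ∨ K1.map (MulAut.conj g).toMonoidHom = K2 := by
    intro g hg
    refine hlines _ (by rw [Subgroup.card_map_of_injective (MulAut.conj g).injective, hK1]) ?_ ⟨_, hZK g₁ h1T, hg⟩
    rintro _ ⟨a, ha, rfl⟩ ha1
    exact (hEX a ha fun e => ha1 (by rw [e, map_one])).trans (isConj_iff.2 ⟨g, rfl⟩)
  set N := normalizer (K1 : Set G) with hN
  have hnorm_of : ∀ g : G, K1.map (MulAut.conj g).toMonoidHom = K1 → g ∈ N := fun g hg =>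
    mem_normalizer_fintype fun a ha => hg.le ⟨a, ha, rfl⟩
  have hK12 : K1 ≠ K2 := fun e => h1Z (hmeet g₁ h1K (e ▸ h1K))
  have hTN : T ≤ N := by
    intro g hg
    have hfix : ∀ k : ℕ, g ^ k * S.f 6 * (g ^ k)⁻¹ = S.f 6 := fun k => by
      rw [← (show Commute (S.f 6) g from hTc g hg).pow_right k, mul_inv_cancel_right]
    rcases himg g (by simpa using hfix 1) with e | e
    · exact hnorm_of g e
    rcases himg (g ^ 2) (hfix 2) with e2 | e2
    · have h2 := hnorm_of _ e2
      by_cases hg1 : g = 1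
      · rw [hg1]; exact one_mem _
      have hd : orderOf g ∣ 27 := hT ▸ Subgroup.orderOf_dvd_natCard T hg
      have e28 : g = (g ^ 2) ^ 14 := by
        rw [← pow_mul, show 2 * 14 = 27 + 1 from rfl, pow_succ, orderOf_dvd_iff_pow_eq_one.1 hd, one_mul]
      rw [e28]; exact pow_mem h2 14
    · exfalso
      have hcomp : (K1.map (MulAut.conj g).toMonoidHom).map (MulAut.conj g).toMonoidHom =
          K1.map (MulAut.conj (g ^ 2)).toMonoidHom := by
        rw [Subgroup.map_map]
        congr 1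
        ext a
        simp [sq, mul_assoc]
      rw [e, e2] at hcomp
      apply hK12
      apply Subgroup.map_injective (f := (MulAut.conj g).toMonoidHom) (MulAut.conj g).injective
      rw [hcomp]; exact e
  have hC6N : C ≤ N := by
    have htC : S.t ∈ C := mem_centralizer_singleton_iff.2 (S.comm_t 6).symm
    have htT : S.t ∉ T := fun h => by
      have := Subgroup.orderOf_dvd_natCard T h
      rw [S.orderOf_t, hT] at this
      norm_num at this
    have htN : S.t ∈ N := by
      rcases himg S.t (by rw [← S.comm_t 6, mul_inv_cancel_right]) with e | e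
      · exact hnorm_of _ e
      exfalso
      have hu : S.t * g₁ * S.t⁻¹ ∈ K2 := e.le ⟨g₁, h1K, rfl⟩
      set u := S.t * g₁ * S.t⁻¹ with hud
      have htu : S.t * u * S.t⁻¹ = g₁ := by
        rw [hud]
        calc S.t * (S.t * g₁ * S.t⁻¹) * S.t⁻¹ = (S.t * S.t) * g₁ * (S.t * S.t)⁻¹ := by group
          _ = g₁ := by rw [S.t_sq]; group
      have huZ : u ∉ Z := fun h => by
        apply h1Z
        obtain ⟨k, hk⟩ := mem_zpowers_iff.1 h
        refine mem_zpowers_iff.2 ⟨k, ?_⟩
        rw [← htu, ← hk, ← conj_zpow, ← S.comm_t 6, mul_inv_cancel_right]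
      -- the commutator of the two lines
      set w := g₁ * u with hw
      set c := w⁻¹ * (u * g₁) with hc
      have hwT : w ∈ T := mul_mem h1T (mem_inf.1 hu).1
      have hcZ : c ∈ Z := by
        have hnorm : ∀ a ∈ T, ∀ K : Subgroup G, (K = K1 ∨ K = K2) → ∀ b ∈ K, a * b * a⁻¹ ∈ K := by
          intro a ha K hK b hb
          have haN := hTN ha
          rcases hK with rfl | rfl
          · exact (mem_normalizer_iff.1 haN b).1 hb
          · have h6a : a * S.f 6 * a⁻¹ = S.f 6 := by rw [← hTc a ha, mul_inv_cancel_right]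
            have hL : K2.map (MulAut.conj a).toMonoidHom = K1 ∨ K2.map (MulAut.conj a).toMonoidHom = K2 := by
              refine hlines _ (by rw [Subgroup.card_map_of_injective (MulAut.conj a).injective, hK2]) ?_
                ⟨_, hZK g₂ h2T, h6a⟩
              rintro _ ⟨x, hx, rfl⟩ hx1
              exact ((hX x (mem_inf.1 hx).1 fun e => hx1 (by rw [e, map_one])).2 (Or.inr hx)).trans
                (isConj_iff.2 ⟨a, rfl⟩)
            rcases hL with eL | eL
            · exfalso
              have eK : K1.map (MulAut.conj a).toMonoidHom = K1 := by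
                refine eq_of_le_of_card_ge ?_ (by rw [Subgroup.card_map_of_injective (MulAut.conj a).injective])
                rintro _ ⟨x, hx, rfl⟩
                exact (mem_normalizer_iff.1 haN x).1 hx
              exact hK12 (Subgroup.map_injective (MulAut.conj a).injective (eK.trans eL.symm))
            · exact eL.le ⟨b, hb, rfl⟩
        have huT := (mem_inf.1 hu).1
        refine hmeet c ?_ ?_
        · rw [hc, hw, show (g₁ * u)⁻¹ * (u * g₁) = u⁻¹ * g₁⁻¹ * u⁻¹⁻¹ * g₁ by group]
          exact mul_mem (hnorm _ (inv_mem huT) K1 (Or.inl rfl) _ (inv_mem h1K)) h1K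
        · rw [hc, hw, show (g₁ * u)⁻¹ * (u * g₁) = u⁻¹ * (g₁⁻¹ * u * g₁⁻¹⁻¹) by group]
          exact mul_mem (inv_mem hu) (hnorm _ (inv_mem h1T) K2 (Or.inr rfl) _ hu)
      have htw : S.t * w * S.t⁻¹ = w * c := by
        rw [hc, mul_inv_cancel_left, hw,
          show S.t * (g₁ * u) * S.t⁻¹ = (S.t * g₁ * S.t⁻¹) * (S.t * u * S.t⁻¹) by group, htu]
      obtain ⟨k, hk⟩ := mem_zpowers_iff.1 hcZ
      have htc : S.t * c * S.t⁻¹ = c := by
        rw [← hk, ← conj_zpow, ← S.comm_t 6, mul_inv_cancel_right]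
      have hcc : c * c = 1 := by
        have h := congrArg (fun a => S.t * a * S.t⁻¹) htw
        rw [show S.t * (S.t * w * S.t⁻¹) * S.t⁻¹ = (S.t * S.t) * w * (S.t * S.t)⁻¹ by group, S.t_sq,
          one_mul, inv_one, mul_one,
          show S.t * (w * c) * S.t⁻¹ = (S.t * w * S.t⁻¹) * (S.t * c * S.t⁻¹) by group, htw, htc,
          mul_assoc] at h
        exact mul_eq_left.1 h.symm
      have hc1 : c = 1 := by
        have h3 : c ^ 3 = 1 := by
          rw [← hk, ← zpow_natCast, ← zpow_mul, mul_comm, zpow_mul, zpow_natCast,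
            show (3 : ℕ) = orderOf (S.f 6) from h6.symm, pow_orderOf_eq_one, one_zpow]
        calc c = c * (c * c) := by rw [hcc, mul_one]
          _ = c ^ 3 := by simp [pow_succ, mul_assoc]
          _ = 1 := h3
      rw [hc1, mul_one] at htw
      -- `w` lies in the centralisers of `t` and of `f 6`
      have hwZ : w ∈ Z := by
        have hm : w ∈ centralizer ({S.t} : Set G) ⊓ C :=
          mem_inf.2 ⟨mem_centralizer_singleton_iff.2 (mul_inv_eq_iff_eq_mul.1 htw).symm, hTC hwT⟩
        have h6t : S.f 6 ∈ centralizer ({S.t} : Set G) ⊓ C ⊓ T :=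
          mem_inf.2 ⟨mem_inf.2 ⟨mem_centralizer_singleton_iff.2 (S.comm_t 6),
            mem_centralizer_singleton_iff.2 rfl⟩, h6T⟩
        by_contra hwZ
        have h9 := nine_le (inf_le_right : centralizer ({S.t} : Set G) ⊓ C ⊓ T ≤ T) hT h6t h6
          (mem_inf.2 ⟨hm, hwT⟩) hwZ
        have h := h9.trans (card_dvd_of_le (inf_le_left : centralizer ({S.t} : Set G) ⊓ C ⊓ T ≤ _))
        rw [hC, S.card_centralizer_inf, seven_facts.1 6 cls_of_rep.2.2.2.2.1] at h
        norm_num at h
      refine huZ (hmeet u ?_ hu)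
      rw [show u = g₁⁻¹ * w by rw [hw, inv_mul_cancel_left]]
      exact mul_mem (inv_mem h1K) (zpowers_le.2 (hZK g₁ h1T) hwZ)
    intro g hg
    by_cases hgT : g ∈ T
    · exact hTN hgT
    have hm : S.t * g ∈ T := by
      have h := (mul_mem_iff_of_index_two hTidx (a := ⟨S.t, htC⟩) (b := ⟨g, hg⟩)).2
        (iff_of_false (fun h => htT (mem_subgroupOf.1 h)) fun h => hgT (mem_subgroupOf.1 h))
      exact mem_subgroupOf.1 h
    rw [show g = S.t⁻¹ * (S.t * g) by group]
    exact mul_mem (inv_mem htN) (hTN hm)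
  have h6N : S.f 6 ∈ N := hC6N (mem_centralizer_singleton_iff.2 rfl)
  have hNC : N ⊓ C = C := inf_eq_right.2 hC6N
  have horb := Cfsg.Lib.J2Type.card_class_mul (z := S.f 6) N h6N
  rw [← hC, hNC, hC54] at horb
  set O := (fun k => k * S.f 6 * k⁻¹) '' (N : Set G) with hO
  have hOsub : O ⊆ (K1 : Set G) \ {1} := by
    rintro _ ⟨k, hk, rfl⟩
    refine ⟨(mem_normalizer_iff.1 hk _).1 (hZK g₁ h1T), fun e => ?_⟩
    rw [Set.mem_singleton_iff] at e
    have h := h6
    rw [conj_eq_one_iff.1 e, orderOf_one] at h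
    omega
  have hE8 : ((K1 : Set G) \ {1}).ncard = 8 := by
    rw [Set.ncard_diff_singleton_of_mem (one_mem K1), ← Nat.card_coe_set_eq]
    change Nat.card K1 - 1 = 8
    rw [hK1]
  -- incidences
  have hgX : ∀ (g : G) (e : G), e ∈ K1 → e ≠ 1 → IsConj (S.f 6) (g * e * g⁻¹) := fun g e he he1 =>
    (hEX e he he1).trans (isConj_iff.2 ⟨g, rfl⟩)
  choose σ hσ using fun v : {v : G // IsConj (S.f 6) v} => isConj_iff.1 v.2
  let J := (G ⧸ N) × {e : K1 // e ≠ 1}
  let val : J → {v : G // IsConj (S.f 6) v} := fun p =>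
    ⟨p.1.out * p.2.1 * p.1.out⁻¹, hgX _ _ p.2.1.2 fun e => p.2.2 (Subtype.ext e)⟩
  have hpull : ∀ p : J, K1.map (MulAut.conj ((σ (val p))⁻¹ * p.1.out)).toMonoidHom = K1 ∨
      K1.map (MulAut.conj ((σ (val p))⁻¹ * p.1.out)).toMonoidHom = K2 := by
    intro p
    refine hlines _ (by rw [Subgroup.card_map_of_injective (MulAut.conj _).injective, hK1]) ?_ ?_
    · rintro _ ⟨a, ha, rfl⟩ ha1
      exact hgX _ a ha fun e => ha1 (by rw [e, map_one])
    · refine ⟨p.2.1, p.2.1.2, ?_⟩
      show (σ (val p))⁻¹ * p.1.out * (p.2.1 : G) * ((σ (val p))⁻¹ * p.1.out)⁻¹ = S.f 6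
      calc _ = (σ (val p))⁻¹ * ((val p : G)) * σ (val p) := by simp [val, mul_assoc]
        _ = S.f 6 := by rw [← hσ (val p)]; group
  have hsame : ∀ p q : J, val p = val q →
      K1.map (MulAut.conj ((σ (val p))⁻¹ * p.1.out)).toMonoidHom =
        K1.map (MulAut.conj ((σ (val q))⁻¹ * q.1.out)).toMonoidHom → p = q := by
    intro p q hv hm
    rw [hv] at hm
    have hmem : (p.1.out)⁻¹ * q.1.out ∈ N := by
      refine hnorm_of _ (Subgroup.map_injective (f := (MulAut.conj ((σ (val q))⁻¹ * p.1.out)).toMonoidHom)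
        (MulAut.conj ((σ (val q))⁻¹ * p.1.out)).injective ?_)
      rw [Subgroup.map_map, hm]
      congr 1
      ext a
      simp [mul_assoc]
    have hp1 : p.1 = q.1 := by
      rw [← QuotientGroup.out_eq' p.1, ← QuotientGroup.out_eq' q.1]
      exact QuotientGroup.eq.2 hmem
    refine Prod.ext hp1 (Subtype.ext (Subtype.ext ?_))
    have h : p.1.out * (p.2.1 : G) * p.1.out⁻¹ = q.1.out * (q.2.1 : G) * q.1.out⁻¹ := congrArg Subtype.val hv
    rw [hp1] at h
    exact mul_left_cancel (mul_right_cancel h)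
  have hJ : Nat.card J = N.index * 8 := by
    rw [Nat.card_prod, show Nat.card (G ⧸ N) = N.index from rfl]
    congr 1
    haveI := Fintype.ofFinite K1
    rw [Nat.card_eq_fintype_card, Fintype.card_subtype_compl, Fintype.card_subtype_eq,
      ← Nat.card_eq_fintype_card, hK1]
  have hXc : Nat.card {v : G // IsConj (S.f 6) v} = 1760 := by
    rw [Nat.card_eq_fintype_card, Fintype.card_subtype]; exact hA
  have hbound : N.index * 8 ≤ 1760 * 2 := by
    rw [← hJ, ← hXc, show (2 : ℕ) = Nat.card Bool by simp, ← Nat.card_prod]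
    refine Nat.card_le_card_of_injective (fun p : J => (val p,
      decide (K1.map (MulAut.conj ((σ (val p))⁻¹ * p.1.out)).toMonoidHom = K1))) fun p q e => ?_
    simp only [Prod.mk.injEq] at e
    refine hsame p q e.1 ?_
    rcases hpull p with hp | hp
    · have hq := of_decide_eq_true (e.2.symm.trans (decide_eq_true hp))
      rw [hp, hq]
    · rcases hpull q with hq | hq
      · exact absurd (hp.symm.trans (of_decide_eq_true (e.2.trans (decide_eq_true hq)))).symm hK12
      · rw [hp, hq]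
  have hN216 : 216 ≤ Nat.card N := by
    have h := N.index_mul_card
    rw [F.card] at h
    have hb : N.index ≤ 440 := by omega
    nlinarith
  have hNcard : Nat.card N = 432 := by
    have hle : O.ncard ≤ 8 := hE8 ▸ Set.ncard_le_ncard hOsub (Set.toFinite _)
    have h4 : 4 ≤ O.ncard := by omega
    obtain ⟨v, hvO, hvZ⟩ : ∃ v ∈ O, v ∉ Z := by
      by_contra hall
      push_neg at hall
      have h := Set.ncard_le_ncard (show O ⊆ (Z : Set G) from hall) (Set.toFinite _)
      rw [← Nat.card_coe_set_eq (Z : Set G)] at h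
      change O.ncard ≤ Nat.card Z at h
      rw [hZ, Nat.card_zpowers, h6] at h
      omega
    obtain ⟨k, hkN, hkv⟩ := hvO
    have hvK : v ∈ K1 := hkv ▸ (mem_normalizer_iff.1 hkN _).1 (hZK g₁ h1T)
    have h2 := Cfsg.Lib.J2Type.card_class_mul (z := v) (C ⊔ K1) ((le_sup_right : K1 ≤ C ⊔ K1) hvK)
    -- the orbit of `v` under the centraliser of `f 6`
    have hK1C : K1 ≤ C := inf_le_left.trans hTC
    rw [sup_eq_left.2 hK1C, inf_comm, hcv v hvK hvZ, hK1, hC54] at h2
    set O' := (fun c => c * v * c⁻¹) '' (C : Set G) with hO'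
    have hO'sub : O' ∪ {S.f 6} ⊆ O := by
      rintro a (⟨c, hc, rfl⟩ | rfl)
      · refine ⟨c * k, mul_mem (hC6N hc) hkN, ?_⟩
        show c * k * S.f 6 * (c * k)⁻¹ = c * v * c⁻¹
        rw [← hkv]; group
      · exact ⟨1, one_mem _, by simp⟩
    have hnot : S.f 6 ∉ O' := by
      rintro ⟨c, hc, hcv'⟩
      refine hvZ ?_
      have hcv'' : c * v * c⁻¹ = S.f 6 := hcv'
      have hc' := mem_centralizer_singleton_iff.1 hc
      have e : v = S.f 6 := by
        calc v = c⁻¹ * (c * v * c⁻¹) * c := by group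
          _ = c⁻¹ * (S.f 6 * c) := by rw [hcv'', mul_assoc]
          _ = S.f 6 := by rw [← hc', inv_mul_cancel_left]
      rw [e]; exact mem_zpowers _
    have h7 := Set.ncard_le_ncard hO'sub (Set.toFinite _)
    rw [Set.union_singleton, Set.ncard_insert_of_notMem hnot (Set.toFinite _)] at h7
    have hd : O.ncard * 54 ∣ 95040 := by rw [horb, ← F.card]; exact card_subgroup_dvd_card N
    have hO8 : O.ncard = 8 := by
      have : O.ncard = 7 ∨ O.ncard = 8 := by omega
      rcases this with e | e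
      · rw [e] at hd; norm_num at hd
      · exact e
    rw [← horb, hO8]
  have hidx : N.index = 220 := by
    have h := N.index_mul_card
    rw [F.card, hNcard] at h
    omega
  have hsurj : Function.Surjective val := by
    intro v
    refine ⟨((↑(σ v) : G ⧸ N), ⟨⟨(((σ v : G) : G ⧸ N).out)⁻¹ * (v : G) * ((σ v : G) : G ⧸ N).out, ?_⟩, ?_⟩), ?_⟩
    · obtain ⟨n, hn⟩ : ∃ n : N, ((σ v : G) : G ⧸ N).out = σ v * n := QuotientGroup.mk_out_eq_mul N (σ v)
      rw [hn, show (σ v * (n : G))⁻¹ * (v : G) * (σ v * (n : G)) =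
        (n : G)⁻¹ * ((σ v)⁻¹ * (v : G) * σ v) * (n : G)⁻¹⁻¹ by group,
        show (σ v)⁻¹ * (v : G) * σ v = S.f 6 by rw [← hσ v]; group]
      exact (mem_normalizer_iff.1 (inv_mem n.2) _).1 (hZK g₁ h1T)
    · intro e
      have e' : (((σ v : G) : G ⧸ N).out)⁻¹ * (v : G) * ((σ v : G) : G ⧸ N).out = 1 := congrArg Subtype.val e
      have hv1 : (v : G) = 1 := by
        calc (v : G) = ((σ v : G) : G ⧸ N).out * ((((σ v : G) : G ⧸ N).out)⁻¹ * (v : G) *
              ((σ v : G) : G ⧸ N).out) * (((σ v : G) : G ⧸ N).out)⁻¹ := by group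
          _ = 1 := by rw [e']; group
      have := orderOf_eq_of_isConj v.2
      rw [hv1, orderOf_one, h6] at this
      omega
    · exact Subtype.ext (by simp only [val]; group)
  have hbij : Function.Bijective val :=
    (Nat.bijective_iff_surjective_and_card val).2 ⟨hsurj, by rw [hJ, hidx, hXc]⟩
  refine ⟨K1, hK1, hEc, hEX, hNcard, hCE, fun e he he1 g hge => ?_⟩
  -- only one conjugate of the line contains `e`
  obtain ⟨n1, hn1⟩ := QuotientGroup.mk_out_eq_mul N g
  obtain ⟨n0, hn0⟩ := QuotientGroup.mk_out_eq_mul N (1 : G)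
  have hmem : ∀ (g' : G) (n : N), g' * e = e * g' → (n : G)⁻¹ * e * (n : G) ∈ K1 := fun g' n _ =>
    (mem_normalizer_iff''.1 n.2 e).1 he
  let p : J := ((g : G ⧸ N), ⟨⟨(n1 : G)⁻¹ * e * n1, hmem g n1 hge⟩, fun h => he1 (by
    have h' : (n1 : G)⁻¹ * e * n1 = 1 := congrArg Subtype.val h
    calc e = (n1 : G) * ((n1 : G)⁻¹ * e * n1) * (n1 : G)⁻¹ := by group
      _ = 1 := by rw [h']; group)⟩)
  let q : J := (((1 : G) : G ⧸ N), ⟨⟨(n0 : G)⁻¹ * e * n0, hmem 1 n0 (by rw [one_mul, mul_one])⟩, fun h => he1 (by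
    have h' : (n0 : G)⁻¹ * e * n0 = 1 := congrArg Subtype.val h
    calc e = (n0 : G) * ((n0 : G)⁻¹ * e * n0) * (n0 : G)⁻¹ := by group
      _ = 1 := by rw [h']; group)⟩)
  have hpq : val p = val q := by
    refine Subtype.ext ?_
    simp only [val, p, q, hn1, hn0]
    calc g * n1 * ((n1 : G)⁻¹ * e * n1) * (g * (n1 : G))⁻¹ = g * e * g⁻¹ := by group
      _ = e := by rw [hge, mul_inv_cancel_right]
      _ = 1 * n0 * ((n0 : G)⁻¹ * e * n0) * (1 * (n0 : G))⁻¹ := by group
  have h := (QuotientGroup.eq (s := N)).1 (congrArg Prod.fst (hbij.1 hpq))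
  rw [mul_one] at h
  exact inv_mem_iff.1 h

/-- An inverted line. -/
theorem exists_line : Nonempty (Line S) := by
  classical
  haveI : Fact (Nat.Prime 2) := ⟨Nat.prime_two⟩
  obtain ⟨E, hE, hc, hX, hN, hCE, hle⟩ := F.exists_line_normalizer
  set N := normalizer (E : Set G) with hNd
  obtain ⟨Q⟩ : Nonempty (Sylow 2 N) := inferInstance
  have hQ : Nat.card (Q : Subgroup N) = 16 := by
    rw [Cfsg.Lib.Small.card_sylow 4 27 (by rw [hN]; norm_num) (by norm_num) Q]; norm_num
  haveI : Nontrivial Q := Finite.one_lt_card_iff_nontrivial.1 (by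
    show 1 < Nat.card (Q : Subgroup N)
    rw [hQ]; norm_num)
  haveI := Q.isPGroup'.center_nontrivial
  obtain ⟨⟨⟨⟨i, hiN⟩, hiQ⟩, hic⟩, hio⟩ := exists_prime_orderOf_dvd_card' (G := center Q) 2 (by
    obtain ⟨j, hj⟩ := IsPGroup.iff_card.1 (Q.isPGroup'.to_subgroup (center Q))
    rw [hj]
    refine dvd_pow_self 2 fun e => ?_
    rw [e, pow_zero] at hj
    exact absurd hj (Finite.one_lt_card (α := center Q)).ne')
  simp only [orderOf_mk] at hio
  have hii : i * i = 1 := by rw [← sq, ← hio, pow_orderOf_eq_one]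
  have hQi : ∀ x : N, x ∈ (Q : Subgroup N) → (x : G) * i = i * x := fun x hx =>
    congrArg (fun a : N => (a : G)) (congrArg Subtype.val (mem_center_iff.1 hic ⟨x, hx⟩))
  -- `i` fixes no point
  have hfree : ∀ e ∈ E, e ≠ 1 → i * e ≠ e * i := by
    intro e he he1 hie
    -- the centraliser of `i` in `E`
    set L := E ⊓ centralizer ({i} : Set G) with hL
    have hLd : Nat.card L ∣ 9 := hE ▸ card_dvd_of_le inf_le_left
    have hLm : Nat.card L ∈ Nat.divisors 9 := Nat.mem_divisors.2 ⟨hLd, by norm_num⟩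
    rw [show Nat.divisors 9 = {1, 3, 9} by decide +kernel] at hLm
    simp only [Finset.mem_insert, Finset.mem_singleton] at hLm
    have heL : e ∈ L := mem_inf.2 ⟨he, mem_centralizer_singleton_iff.2 hie.symm⟩
    rcases hLm with h | h | h
    · have := Subgroup.orderOf_dvd_natCard L heL
      rw [h, Nat.dvd_one, orderOf_eq_one_iff] at this
      exact he1 this
    swap
    · have hEle : E ≤ centralizer ({i} : Set G) := inf_eq_left.1 (eq_of_le_of_card_ge inf_le_left (by rw [h, hE]))
      have hiE : i ∈ E := hCE i fun a ha => (mem_centralizer_singleton_iff.1 (hEle ha)).symm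
      have := Subgroup.orderOf_dvd_natCard E hiE
      rw [hio, hE] at this
      norm_num at this
    haveI : Fact (Nat.Prime 3) := ⟨Nat.prime_three⟩
    have hzL := Cfsg.Lib.Small.zpowers_eq_of_prime_card h heL he1
    -- each element of `Q` fixes or inverts `e`
    have hact : ∀ x : N, x ∈ (Q : Subgroup N) → (x : G) * e * (x : G)⁻¹ = e ∨ (x : G) * e * (x : G)⁻¹ = e⁻¹ := by
      intro x hx
      have hm : (x : G) * e * (x : G)⁻¹ ∈ L := by
        refine mem_inf.2 ⟨(mem_normalizer_iff.1 x.2 e).1 he, mem_centralizer_singleton_iff.2 ?_⟩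
        calc (x : G) * e * (x : G)⁻¹ * i = (x : G) * e * ((x : G)⁻¹ * (i * (x : G))) * (x : G)⁻¹ := by group
          _ = (x : G) * e * ((x : G)⁻¹ * ((x : G) * i)) * (x : G)⁻¹ := by rw [hQi x hx]
          _ = (x : G) * (e * i) * (x : G)⁻¹ := by group
          _ = (x : G) * (i * e) * (x : G)⁻¹ := by rw [hie]
          _ = (x : G) * i * e * (x : G)⁻¹ := by group
          _ = i * (x : G) * e * (x : G)⁻¹ := by rw [hQi x hx]
          _ = i * ((x : G) * e * (x : G)⁻¹) := by group
      have he3 : orderOf e = 3 := (orderOf_eq_of_isConj (hX e he he1)).trans F.orderOf_six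
      rw [← hzL, mem_zpowers_iff_mem_range_orderOf, he3, Finset.mem_image] at hm
      obtain ⟨k, hk, hke⟩ := hm
      rw [Finset.mem_range] at hk
      interval_cases k
      · exfalso
        rw [pow_zero] at hke
        exact he1 (conj_eq_one_iff.1 hke.symm)
      · exact Or.inl (by rw [← hke, pow_one])
      · refine Or.inr ?_
        rw [← hke]
        exact (inv_eq_of_mul_eq_one_right (by rw [← pow_succ', show 2 + 1 = 3 from rfl, ← he3, pow_orderOf_eq_one])).symm
    let Q0 : Subgroup N := (Q : Subgroup N) ⊓ (centralizer ({e} : Set G)).subgroupOf N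
    have hQ0 : 8 ≤ Nat.card Q0 := by
      by_cases hall : (Q : Subgroup N) ≤ (centralizer ({e} : Set G)).subgroupOf N
      · rw [show Q0 = (Q : Subgroup N) from inf_eq_left.2 hall, hQ]; norm_num
      obtain ⟨x₀, hx₀, hx₀e⟩ := SetLike.not_le_iff_exists.1 hall
      have key : ∀ x : (Q : Subgroup N), (x : N) ∈ Q0 ∨ x₀⁻¹ * (x : N) ∈ Q0 := by
        intro x
        rcases hact x x.2 with h1 | h1
        · exact Or.inl (mem_inf.2 ⟨x.2, mem_subgroupOf.2
            (mem_centralizer_singleton_iff.2 (mul_inv_eq_iff_eq_mul.1 h1))⟩)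
        · refine Or.inr (mem_inf.2 ⟨mul_mem (inv_mem hx₀) x.2, mem_subgroupOf.2
            (mem_centralizer_singleton_iff.2 (mul_inv_eq_iff_eq_mul.1 ?_))⟩)
          have h2 : (x₀ : G) * e * (x₀ : G)⁻¹ = e⁻¹ := (hact x₀ hx₀).resolve_left fun h =>
            hx₀e (mem_subgroupOf.2 (mem_centralizer_singleton_iff.2 (mul_inv_eq_iff_eq_mul.1 h)))
          push_cast
          calc (x₀ : G)⁻¹ * (x : N) * e * ((x₀ : G)⁻¹ * (x : N))⁻¹ =
              (x₀ : G)⁻¹ * (((x : N) : G) * e * ((x : N) : G)⁻¹) * x₀ := by group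
            _ = (x₀ : G)⁻¹ * ((x₀ : G) * e * (x₀ : G)⁻¹) * x₀ := by rw [h1, h2]
            _ = e := by group
      let Ψ : ↥(Q : Subgroup N) → Bool × Q0 := fun x =>
        if hx : (x : N) ∈ Q0 then (true, ⟨x, hx⟩) else (false, ⟨_, (key x).resolve_left hx⟩)
      have hΨ : Function.Injective Ψ := by
        intro x y hxy
        simp only [Ψ] at hxy
        split_ifs at hxy with h1 h2 h2 <;> simp only [Prod.mk.injEq, Subtype.mk.injEq] at hxy
        · exact Subtype.ext hxy.2
        · exact absurd hxy.1 (by decide)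
        · exact absurd hxy.1 (by decide)
        · exact Subtype.ext (mul_left_cancel hxy.2)
      have := Nat.card_le_card_of_injective Ψ hΨ
      rw [hQ, Nat.card_prod, Nat.card_eq_fintype_card (α := Bool), Fintype.card_bool] at this
      omega
    -- a group of order at least 8 inside a group of order 54
    have hd : Nat.card Q0 ∣ 54 := by
      have h1 : Nat.card Q0 ∣ Nat.card (centralizer ({e} : Set G)) := by
        rw [← Subgroup.card_map_of_injective (K := Q0) N.subtype_injective]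
        refine card_dvd_of_le ?_
        rintro _ ⟨x, hx, rfl⟩
        exact mem_subgroupOf.1 (mem_inf.1 hx).2
      rw [card_centralizer_conj (hX e he he1)] at h1
      obtain ⟨z, hz3, hz1⟩ := three_ex
      letI := Fintype.ofFinite G
      rwa [(F.odd_facts hz3 hz1).2.2.2.2.1] at h1
    have hd2 : Nat.card Q0 ∣ 2 ^ 4 := by
      rw [show (2 : ℕ) ^ 4 = Nat.card (Q : Subgroup N) by rw [hQ]; norm_num]
      exact card_dvd_of_le inf_le_left
    have := Nat.le_of_dvd (by norm_num) (Nat.dvd_gcd hd hd2)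
    norm_num at this
    omega
  have hinv : ∀ e ∈ E, i * e * i⁻¹ = e⁻¹ := by
    intro e he
    have hm := (mem_normalizer_iff.1 hiN e).1 he
    have hy : e * (i * e * i⁻¹) ∈ E := mul_mem he hm
    refine eq_inv_of_mul_eq_one_right ?_
    by_contra hne
    refine hfree _ hy hne ?_
    rw [← mul_inv_eq_iff_eq_mul]
    calc i * (e * (i * e * i⁻¹)) * i⁻¹ = (i * e * i⁻¹) * ((i * i) * e * (i * i)⁻¹) := by group
      _ = (i * e * i⁻¹) * e := by rw [hii, one_mul, inv_one, mul_one]
      _ = e * (i * e * i⁻¹) := hc _ hm _ he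
  -- `i` is conjugate to `t`
  have hit : IsConj S.t i := by
    refine (F.classes hio).resolve_right fun hb => ?_
    obtain ⟨g, hg⟩ := isConj_iff.1 hb.symm
    let M : Subgroup G := ((Q : Subgroup N).map N.subtype).map (MulAut.conj g).toMonoidHom
    have hM16 : Nat.card M = 16 := by
      rw [Subgroup.card_map_of_injective (MulAut.conj g).injective,
        Subgroup.card_map_of_injective N.subtype_injective, hQ]
    have hMb : M ≤ centralizer ({S.b} : Set G) := by
      rintro _ ⟨_, ⟨x, hx, rfl⟩, rfl⟩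
      refine mem_centralizer_singleton_iff.2 ?_
      show g * (x : G) * g⁻¹ * S.b = S.b * (g * (x : G) * g⁻¹)
      rw [← hg, conj_mul, conj_mul, hQi x hx]
    set Cb := centralizer ({S.b} : Set G) with hCb
    have hCb240 : Nat.card Cb = 2 ^ 4 * 15 := by
      rw [hCb, S.card_centralizer_b_big F.fused F.cb]; rfl
    have hc1 : Nat.card (M.subgroupOf Cb) = 2 ^ (Nat.card Cb).factorization 2 := by
      obtain ⟨R⟩ : Nonempty (Sylow 2 Cb) := inferInstance
      rw [← R.card_eq_multiplicity, Cfsg.Lib.Small.card_sylow 4 15 hCb240 (by norm_num) R,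
        Nat.card_congr (subgroupOfEquivOfLe hMb).toEquiv, hM16]
      norm_num
    have hc2 : Nat.card (S.rgrp.subgroupOf Cb) = 2 ^ (Nat.card Cb).factorization 2 := by
      rw [← hc1, Nat.card_congr (subgroupOfEquivOfLe S.rgrp_le).toEquiv, S.card_rgrp,
        Nat.card_congr (subgroupOfEquivOfLe hMb).toEquiv, hM16]
    obtain ⟨c, hcc⟩ := MulAction.exists_smul_eq Cb (Sylow.ofCard _ hc2 : Sylow 2 Cb) (Sylow.ofCard _ hc1)
    set d : G := g⁻¹ * (c : G) with hd
    have hmove : ∀ x : G, x ∈ S.rgrp → ∃ y : N, y ∈ (Q : Subgroup N) ∧ (y : G) = d * x * d⁻¹ := by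
      intro x hx
      have h1 : c * ⟨x, S.rgrp_le hx⟩ * c⁻¹ ∈ (((c • (Sylow.ofCard _ hc2 : Sylow 2 Cb)) : Sylow 2 Cb) : Subgroup Cb) := by
        rw [Sylow.coe_subgroup_smul, mem_smul_pointwise_iff_exists]
        exact ⟨⟨x, S.rgrp_le hx⟩, mem_subgroupOf.2 hx, rfl⟩
      rw [hcc] at h1
      obtain ⟨_, ⟨y, hy, rfl⟩, hye⟩ := mem_subgroupOf.1 h1
      refine ⟨y, hy, ?_⟩
      have hye' : g * (y : G) * g⁻¹ = (c : G) * x * (c : G)⁻¹ := hye
      calc (y : G) = g⁻¹ * (g * (y : G) * g⁻¹) * g := by group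
        _ = d * x * d⁻¹ := by rw [hye', hd]; group
    have hdb : d * S.b * d⁻¹ = i := by
      have hcb : (c : G) * S.b = S.b * (c : G) := mem_centralizer_singleton_iff.1 c.2
      rw [hd, show g⁻¹ * (c : G) * S.b * (g⁻¹ * (c : G))⁻¹ = g⁻¹ * ((c : G) * S.b * (c : G)⁻¹) * g by group,
        hcb, mul_inv_cancel_right, ← hg]
      group
    obtain ⟨v, w, hv, hw, hvw, hv2, hw2, hv0, hw0, hv55, hw55, hne, hne2⟩ := rgrp_klein
    obtain ⟨yv, hyvQ, hyv⟩ := hmove (S.f v) ⟨v, hv, rfl⟩
    obtain ⟨yw, hywQ, hyw⟩ := hmove (S.f w) ⟨w, hw, rfl⟩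
    have hinj : ∀ {a a' : G}, d * a * d⁻¹ = d * a' * d⁻¹ → a = a' := fun h => mul_left_cancel (mul_right_cancel h)
    have hov : orderOf (yv : G) = 2 := by
      rw [hyv, show d * S.f v * d⁻¹ = MulAut.conj d (S.f v) from rfl, MulEquiv.orderOf_eq]
      exact S.orderOf_f hv2 hv0
    have how : orderOf (yw : G) = 2 := by
      rw [hyw, show d * S.f w * d⁻¹ = MulAut.conj d (S.f w) from rfl, MulEquiv.orderOf_eq]
      exact S.orderOf_f hw2 hw0
    have hcvw : (yv : G) * yw = yw * yv := by rw [hyv, hyw, conj_mul, conj_mul, S.comm_of_cCm hvw]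
    have hvi : (yv : G) ≠ i := fun h => hv55 (S.inj (hinj (by rw [← hyv, h, ← hdb]; rfl)))
    -- `yv` fixes a nontrivial element
    have hfix : ∃ e ∈ E, e ≠ 1 ∧ (yv : G) * e = e * yv := by
      have hvv : (yv : G) * yv = 1 := by rw [← sq, ← hov, pow_orderOf_eq_one]
      by_contra hno
      push_neg at hno
      have hyinv : ∀ e ∈ E, (yv : G) * e * (yv : G)⁻¹ = e⁻¹ := by
        intro e he
        have hm := (mem_normalizer_iff.1 yv.2 e).1 he
        refine eq_inv_of_mul_eq_one_right ?_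
        by_contra hne'
        refine hno _ (mul_mem he hm) hne' ?_
        rw [← mul_inv_eq_iff_eq_mul]
        calc (yv : G) * (e * ((yv : G) * e * (yv : G)⁻¹)) * (yv : G)⁻¹ =
            ((yv : G) * e * (yv : G)⁻¹) * (((yv : G) * yv) * e * ((yv : G) * yv)⁻¹) := by group
          _ = ((yv : G) * e * (yv : G)⁻¹) * e := by rw [hvv, one_mul, inv_one, mul_one]
          _ = e * ((yv : G) * e * (yv : G)⁻¹) := hc _ hm _ he
      have hprodE : (yv : G) * i ∈ E := hCE _ fun e he => by
        refine mul_inv_eq_iff_eq_mul.1 ?_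
        calc (yv : G) * i * e * ((yv : G) * i)⁻¹ = (yv : G) * (i * e * i⁻¹) * (yv : G)⁻¹ := by group
          _ = e := by rw [hinv e he, hyinv _ (inv_mem he), inv_inv]
      have h2 : ((yv : G) * i) ^ 2 = 1 := by
        rw [(show Commute (yv : G) i from hQi yv hyvQ).mul_pow, sq, sq, hvv, hii, one_mul]
      rcases (Nat.dvd_prime Nat.prime_two).1 (orderOf_dvd_of_pow_eq_one h2) with e | e
      · refine hvi ?_
        calc (yv : G) = (yv : G) * i * i := by rw [mul_assoc, hii, mul_one]
          _ = i := by rw [orderOf_eq_one_iff.1 e, one_mul]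
      · have := Subgroup.orderOf_dvd_natCard E hprodE
        rw [e, hE] at this
        norm_num at this
    obtain ⟨e, he, he1, hve⟩ := hfix
    -- `yw` sends `e` into the fixed line of `yv`
    have hwe : (yw : G) * e * (yw : G)⁻¹ = e ∨ (yw : G) * e * (yw : G)⁻¹ = e⁻¹ := by
      set L := E ⊓ centralizer ({(yv : G)} : Set G) with hL
      have heL : e ∈ L := mem_inf.2 ⟨he, mem_centralizer_singleton_iff.2 hve.symm⟩
      have hm : (yw : G) * e * (yw : G)⁻¹ ∈ L := by
        refine mem_inf.2 ⟨(mem_normalizer_iff.1 yw.2 e).1 he, mem_centralizer_singleton_iff.2 ?_⟩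
        calc (yw : G) * e * (yw : G)⁻¹ * yv = (yw : G) * e * ((yw : G)⁻¹ * ((yv : G) * yw)) * (yw : G)⁻¹ := by group
          _ = (yw : G) * (e * yv) * (yw : G)⁻¹ := by rw [hcvw]; group
          _ = (yw : G) * ((yv : G) * e) * (yw : G)⁻¹ := by rw [hve]
          _ = (yw : G) * yv * e * (yw : G)⁻¹ := by group
          _ = (yv : G) * yw * e * (yw : G)⁻¹ := by rw [hcvw]
          _ = (yv : G) * ((yw : G) * e * (yw : G)⁻¹) := by group
      have hLd : Nat.card L ∣ 3 ^ 2 := by
        rw [show (3 : ℕ) ^ 2 = Nat.card E by rw [hE]; rfl]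
        exact card_dvd_of_le inf_le_left
      obtain ⟨j, hj, hjL⟩ := (Nat.dvd_prime_pow Nat.prime_three).1 hLd
      interval_cases j
      · have := Subgroup.orderOf_dvd_natCard L heL
        rw [hjL, pow_zero, Nat.dvd_one, orderOf_eq_one_iff] at this
        exact absurd this he1
      · haveI : Fact (Nat.Prime 3) := ⟨Nat.prime_three⟩
        have he3 : orderOf e = 3 := (orderOf_eq_of_isConj (hX e he he1)).trans F.orderOf_six
        rw [← Cfsg.Lib.Small.zpowers_eq_of_prime_card (show Nat.card L = 3 by rw [hjL, pow_one]) heL he1,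
          mem_zpowers_iff_mem_range_orderOf, he3, Finset.mem_image] at hm
        obtain ⟨k, hk, hke⟩ := hm
        rw [Finset.mem_range] at hk
        interval_cases k
        · rw [pow_zero] at hke
          exact absurd (conj_eq_one_iff.1 hke.symm) he1
        · exact Or.inl (by rw [← hke, pow_one])
        · refine Or.inr ?_
          rw [← hke]
          exact (inv_eq_of_mul_eq_one_right (by
            rw [← pow_succ', show 2 + 1 = 3 from rfl, ← he3, pow_orderOf_eq_one])).symm
      · exfalso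
        have hEle : E ≤ centralizer ({(yv : G)} : Set G) :=
          inf_eq_left.1 (eq_of_le_of_card_ge inf_le_left (by rw [hE, hjL]; norm_num))
        have := Subgroup.orderOf_dvd_natCard E
          (hCE _ fun a ha => (mem_centralizer_singleton_iff.1 (hEle ha)).symm)
        rw [hov, hE] at this
        norm_num at this
    rcases hwe with h | h
    · refine hne (S.inj (hinj ?_))
      rw [← hyv, ← hyw]
      exact F.invol_eq_of_comm (hX e he he1) hov how hcvw hve (mul_inv_eq_iff_eq_mul.1 h)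
    · have hwi : orderOf ((yw : G) * i) = 2 := by
        refine orderOf_eq_prime ?_ fun h1 => ?_
        · rw [(show Commute (yw : G) i from hQi yw hywQ).mul_pow, sq i, hii, mul_one, ← how, pow_orderOf_eq_one]
        · refine hw55 (S.inj (hinj ?_))
          rw [← hyw]
          calc (yw : G) = (yw : G) * i * i := by rw [mul_assoc, hii, mul_one]
            _ = d * S.b * d⁻¹ := by rw [h1, one_mul, hdb]
      have hce : (yw : G) * i * e = e * ((yw : G) * i) := by
        refine mul_inv_eq_iff_eq_mul.1 ?_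
        calc (yw : G) * i * e * ((yw : G) * i)⁻¹ = (yw : G) * (i * e * i⁻¹) * (yw : G)⁻¹ := by group
          _ = ((yw : G) * e * (yw : G)⁻¹)⁻¹ := by rw [hinv e he, conj_inv]
          _ = e := by rw [h, inv_inv]
      have hvwi : (yv : G) * ((yw : G) * i) = (yw : G) * i * yv := by
        rw [← mul_assoc, hcvw, mul_assoc, hQi yv hyvQ, ← mul_assoc]
      have heq := F.invol_eq_of_comm (hX e he he1) hov hwi hvwi hve hce
      refine hne2 (S.inj ?_)
      rw [S.fmul, show S.f 55 = S.b from rfl]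
      refine hinj ?_
      rw [← hyw, show d * (S.f v * S.b) * d⁻¹ = (d * S.f v * d⁻¹) * (d * S.b * d⁻¹) by group, ← hyv, hdb,
        heq, mul_assoc, hii, mul_one]
  -- move `i` to `t`
  obtain ⟨g, hg⟩ := isConj_iff.1 hit.symm
  refine ⟨{
    E := E.map (MulAut.conj g).toMonoidHom
    card_E := by rw [Subgroup.card_map_of_injective (MulAut.conj g).injective, hE]
    comm := ?_, isX := ?_, card_N := ?_, cent_E := ?_, inv_t := ?_, cent_le := ?_ }⟩
  · rintro _ ⟨a, ha, rfl⟩ _ ⟨c, hc', rfl⟩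
    rw [← map_mul, ← map_mul, hc a ha c hc']
  · rintro _ ⟨a, ha, rfl⟩ h1
    exact (hX a ha fun e => h1 (by rw [e, map_one])).trans (isConj_iff.2 ⟨g, rfl⟩)
  all_goals
    have hmemN : ∀ x : G, x ∈ normalizer (((E.map (MulAut.conj g).toMonoidHom : Subgroup G)) : Set G) ↔
        g⁻¹ * x * g ∈ N := by
      intro x
      rw [mem_normalizer_iff, hNd, mem_normalizer_iff]
      constructor
      · intro h a
        have h' := h (g * a * g⁻¹)
        rw [Subgroup.mem_map_equiv, Subgroup.mem_map_equiv] at h'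
        simpa [mul_assoc] using h'
      · intro h a
        have h' := h (g⁻¹ * a * g)
        rw [Subgroup.mem_map_equiv, Subgroup.mem_map_equiv]
        simpa [mul_assoc] using h'
  · rw [← hN]
    exact Nat.card_congr ((MulAut.conj g⁻¹).toEquiv.subtypeEquiv fun x => by
      rw [hmemN]; simp [MulAut.conj_apply])
  · intro x hx
    refine ⟨g⁻¹ * x * g, hCE _ fun e he => ?_, by simp [mul_assoc]⟩
    have h := hx (g * e * g⁻¹) ⟨e, he, rfl⟩
    calc g⁻¹ * x * g * e = g⁻¹ * (x * (g * e * g⁻¹)) * g := by group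
      _ = g⁻¹ * (g * e * g⁻¹ * x) * g := by rw [h]
      _ = e * (g⁻¹ * x * g) := by group
  · rintro _ ⟨a, ha, rfl⟩
    show S.t * (g * a * g⁻¹) * S.t⁻¹ = (g * a * g⁻¹)⁻¹
    rw [← hg, show (g * a * g⁻¹)⁻¹ = g * a⁻¹ * g⁻¹ by group, ← hinv a ha]
    group
  · rintro _ ⟨a, ha, rfl⟩ h1 x hx
    rw [hmemN]
    refine hle a ha (fun e => h1 (by rw [e, map_one])) _ ?_
    have hx' : x * (g * a * g⁻¹) = g * a * g⁻¹ * x := hx
    calc g⁻¹ * x * g * a = g⁻¹ * (x * (g * a * g⁻¹)) * g := by group
      _ = g⁻¹ * (g * a * g⁻¹ * x) * g := by rw [hx']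
      _ = a * (g⁻¹ * x * g) := by group

end Facts

end Cfsg.Lib.MTwelveRecog
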