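import Cfsg.Agent.Lib.MTwelveRecog.Order

/-!
Classes of the elements of the two centralisers of involutions.
-/

set_option autoImplicit false
set_option linter.style.haveILetI false
set_option linter.unusedSectionVars false
set_option maxRecDepth 100000

namespace Cfsg.Lib.MTwelveRecog

open Cfsg Subgroup

universe u

/-! ### Facts about the table -/

/-- The order of the elements of a class. -/
def clsOrd (c : ℕ) : ℕ := [1, 4, 2, 4, 2, 6, 8, 3, 4, 2, 8, 4, 2].getD c 0

/-- The number of fixed points of the elements of a class. -/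
def clsFix (c : ℕ) : ℕ := [12, 4, 4, 0, 0, 1, 0, 3, 4, 4, 2, 0, 4].getD c 0

/-- The representative of a class. -/
def clsRep (c : ℕ) : Fin 192 :=
  ([0, 19, 14, 74, 55, 2, 10, 6, 1, 61, 4, 21, 3] : List (Fin 192)).getD c 0

theorem cls_lt : ∀ i : Fin 192, cCls i < 13 ∧ cRep i = clsRep (cCls i) := by decide +kernel

theorem cFix_cls : ∀ i : Fin 192, cFix i = clsFix (cCls i) := by decide +kernel

theorem cls_ord : ∀ i : Fin 192, cPow i (clsOrd (cCls i)) = 0 ∧
    0 < clsOrd (cCls i) ∧ ∀ m : Fin 9, (m : ℕ) < clsOrd (cCls i) → (m : ℕ) ≠ 0 → cPow i m ≠ 0 := by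
  decide +kernel

theorem clsOrd_le : ∀ i : Fin 192, clsOrd (cCls i) ≤ 8 := by decide +kernel

theorem cls_of_rep : cCls 19 = 1 ∧ cCls 74 = 3 ∧ cCls 2 = 5 ∧ cCls 10 = 6 ∧ cCls 6 = 7 ∧ cCls 1 = 8 ∧
    cCls 4 = 10 ∧ cCls 21 = 11 := by
  decide +kernel

theorem back_cls : ∀ τ : Fin 192, cCls τ = 12 →
    (∃ j, cCm τ j = true ∧ cCls j = 1) ∧ ∃ j, cCm τ j = true ∧ cCls j = 3 := by
  decide +kernel

theorem sq_a : ∀ i : Fin 192, cMul i i = 3 → cCls i = 8 ∨ cCls i = 11 := by decide +kernel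

theorem sq_t : ∀ i : Fin 192, (cCls i = 1 ∨ cCls i = 3) → cMul i i = cT ∧ cPow i 2 = cT := by
  decide +kernel

theorem autOne_facts : cAutOne cT = cT ∧ cCls (cAutOne 1) = 11 ∧ cCls (cAutOne 19) = 1 := by
  decide +kernel

theorem cyc_facts : cCm 55 24 = true ∧ cCls 24 = 1 ∧ cCls (cMul 55 24) = 3 := by decide +kernel

/-- The permutations with square of order 2. -/
def isFour {n : ℕ} (p : Equiv.Perm (Fin n)) : Prop := p * p ≠ 1 ∧ p * p * (p * p) = 1

instance {n : ℕ} (p : Equiv.Perm (Fin n)) : Decidable (isFour p) :=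
  inferInstanceAs (Decidable (p * p ≠ 1 ∧ p * p * (p * p) = 1))

theorem four_conj : ∀ p q : Equiv.Perm (Fin 5), isFour p → isFour q → ∃ c, c * p * c⁻¹ = q := by
  decide +kernel

variable {G : Type u} [Group G]

theorem isConj_pow {x y : G} (h : IsConj x y) (k : ℕ) : IsConj (x ^ k) (y ^ k) := by
  obtain ⟨g, rfl⟩ := isConj_iff.1 h
  exact isConj_iff.2 ⟨g, conj_pow.symm⟩

namespace Setup

variable [Finite G] (S : Setup G)

theorem orderOf_f_cls (i : Fin 192) : orderOf (S.f i) = clsOrd (cCls i) := by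
  obtain ⟨h1, h0, h2⟩ := cls_ord i
  rw [orderOf_eq_iff h0]
  refine ⟨by rw [← S.f_pow, h1, S.fone], fun m hm hm0 e => ?_⟩
  rw [← S.f_pow, ← S.fone] at e
  exact h2 ⟨m, lt_of_lt_of_le hm ((clsOrd_le i).trans (by norm_num))⟩ hm hm0.ne' (S.inj e)

theorem isConj_clsRep (i : Fin 192) : IsConj (S.f (clsRep (cCls i))) (S.f i) := by
  rw [← (cls_lt i).2]; exact S.isConj_rep i

theorem isConj_of_cls {i j : Fin 192} (h : cCls i = cCls j) : IsConj (S.f i) (S.f j) :=
  ((S.isConj_clsRep i).symm.trans (h ▸ S.isConj_clsRep j))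

/-- Conjugate elements with the power `t` lie in the same class of the table. -/
theorem cls_eq_of_isConj {i j : Fin 192} (h : IsConj (S.f i) (S.f j)) {k : ℕ} (hi : cPow i k = cT)
    (hj : cPow j k = cT) : cCls i = cCls j := by
  obtain ⟨g, hg⟩ := isConj_iff.1 h
  have hgt : g * S.t = S.t * g := by
    have h1 : (g * S.f i * g⁻¹) ^ k = S.f j ^ k := by rw [hg]
    rw [conj_pow, ← S.f_pow, ← S.f_pow, hi, hj, S.f_t] at h1
    exact mul_inv_eq_iff_eq_mul.1 h1
  obtain ⟨l, rfl⟩ := (S.mem_iff g).1 hgt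
  rw [← S.fconj] at hg
  rw [← S.inj hg, cls_conj]

theorem not_isConj_19_74 : ¬ IsConj (S.f 19) (S.f 74) := fun h => by
  have := S.cls_eq_of_isConj h (sq_t 19 (Or.inl cls_of_rep.1)).2 (sq_t 74 (Or.inr cls_of_rep.2.1)).2
  rw [cls_of_rep.1, cls_of_rep.2.1] at this
  norm_num at this

variable (hna : S.Fused)
include hna

/-- A conjugator from `t` to `f 3` carries elements with square `t` to those with square `f 3`. -/
theorem exists_sq_a {c : ℕ} (hc : c = 1 ∨ c = 3) :
    ∃ i, (cCls i = 8 ∨ cCls i = 11) ∧ IsConj (S.f (clsRep c)) (S.f i) := by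
  obtain ⟨g, hg⟩ := isConj_iff.1 hna.a
  obtain ⟨τ, hτ, -, hforth⟩ := S.exists_back hg
  obtain ⟨hsq, h0, ht⟩ := S.back_facts hg (by decide) hτ
  have hcls : cCls τ = 12 := (cls_of_card hsq h0 ht).2.2
    ((S.card_back hg hτ).trans ((cls_cCard 3).2.2 cls_reps.2.2.1))
  obtain ⟨j, hj, hjc⟩ : ∃ j, cCm τ j = true ∧ cCls j = c := by
    rcases hc with rfl | rfl
    exacts [(back_cls τ hcls).1, (back_cls τ hcls).2]
  obtain ⟨h1, -⟩ := hforth j hj
  obtain ⟨i, hi⟩ := (S.mem_iff _).1 h1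
  refine ⟨i, sq_a i (S.inj ?_), ?_⟩
  · rw [S.fmul, hi, ← hg]
    calc g * S.f j * g⁻¹ * (g * S.f j * g⁻¹) = g * (S.f j * S.f j) * g⁻¹ := by group
      _ = g * S.t * g⁻¹ := by
        rw [← S.fmul, (sq_t j (by rcases hc with rfl | rfl <;> simp [hjc])).1, S.f_t]
  · have := S.isConj_clsRep j
    rw [hjc] at this
    exact this.trans (isConj_iff.2 ⟨g, hi.symm⟩)

include S in
/-- The two classes of elements of order 4 with square in the class of `f 3` can be told apart. -/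
theorem exists_normalised : ∃ S' : Setup G, IsConj (S'.f 19) (S'.f 1) := by
  obtain ⟨i, hi, hc⟩ := S.exists_sq_a hna (Or.inl rfl)
  rcases hi with h | h
  · exact ⟨S, hc.trans (S.isConj_of_cls (h.trans cls_of_rep.2.2.2.2.2.1.symm))⟩
  · refine ⟨S.precomp cAutOne cAut_bij.1 (fun a b => (cAut_hom a b).1) autOne_facts.1, ?_⟩
    show IsConj (S.f (cAutOne 19)) (S.f (cAutOne 1))
    exact ((S.isConj_of_cls (autOne_facts.2.2.trans cls_of_rep.1.symm)).trans hc).trans
      (S.isConj_of_cls (h.trans autOne_facts.2.1.symm))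

variable (hA : IsConj (S.f 19) (S.f 1))
include hA

theorem isConj_21_74 : IsConj (S.f 74) (S.f 21) := by
  obtain ⟨i, hi, hc⟩ := S.exists_sq_a hna (Or.inr rfl)
  have hc' : IsConj (S.f 74) (S.f i) := hc
  rcases hi with h | h
  · exact absurd ((hA.trans (S.isConj_of_cls (cls_of_rep.2.2.2.2.2.1.trans h.symm))).trans hc'.symm)
      S.not_isConj_19_74
  · exact hc'.trans (S.isConj_of_cls (h.trans cls_of_rep.2.2.2.2.2.2.2.symm))

end Setup

namespace CentB

variable [Finite G] {S : Setup G} (cb : CentB S 5)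

theorem comm_b (p : Equiv.Perm (Fin 5)) : Commute S.b (cb.ι p) := (cb.comm p).symm

/-- Powers of the elements outside the symmetric group. -/
theorem bmul_pow (p : Equiv.Perm (Fin 5)) (k : ℕ) :
    (S.b * cb.ι p) ^ k = S.b ^ k * cb.ι (p ^ k) := by
  rw [(cb.comm_b p).mul_pow, map_pow]

theorem bmul_sq (p : Equiv.Perm (Fin 5)) : (S.b * cb.ι p) ^ 2 = cb.ι (p ^ 2) := by
  rw [cb.bmul_pow, sq S.b, S.b_sq, one_mul]

/-- The common centraliser of `b` and an element of the symmetric group. -/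
theorem card_inf (p : Equiv.Perm (Fin 5)) :
    Nat.card ↥(centralizer ({S.b} : Set G) ⊓ centralizer ({cb.ι p} : Set G)) =
      2 * (Finset.univ.filter fun q => q * p = p * q).card := by
  classical
  let F : Bool × {q : Equiv.Perm (Fin 5) // q * p = p * q} →
      ↥(centralizer ({S.b} : Set G) ⊓ centralizer ({cb.ι p} : Set G)) := fun s =>
    ⟨bif s.1 then S.b * cb.ι s.2.1 else cb.ι s.2.1, mem_inf.2 ⟨mem_centralizer_singleton_iff.2 (by
      cases s.1 <;> simp [mul_assoc, cb.comm s.2.1]), mem_centralizer_singleton_iff.2 (by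
      cases s.1
      · simp only [cond_false, ← map_mul, s.2.2]
      · simp only [cond_true]
        rw [mul_assoc, ← map_mul, s.2.2, map_mul, ← mul_assoc, (cb.comm_b p).eq, mul_assoc])⟩⟩
  have hF : Function.Bijective F := by
    constructor
    · rintro ⟨e, q, hq⟩ ⟨e', q', hq'⟩ h
      have h' := congrArg Subtype.val h
      cases e <;> cases e' <;> simp only [F, cond_true, cond_false] at h'
      · obtain rfl := cb.inj h'; rfl
      · exact absurd (show cb.ι (q * q'⁻¹) = S.b by rw [map_mul, map_inv, h', mul_inv_cancel_right])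
          (cb.b_notMem _)
      · exact absurd (show cb.ι (q' * q⁻¹) = S.b by rw [map_mul, map_inv, ← h', mul_inv_cancel_right])
          (cb.b_notMem _)
      · obtain rfl := cb.inj (mul_left_cancel h'); rfl
    · rintro ⟨h, hh⟩
      obtain ⟨h1, h2⟩ := mem_inf.1 hh
      rw [mem_centralizer_singleton_iff] at h1 h2
      obtain ⟨q, rfl | rfl⟩ := cb.cover h h1
      · exact ⟨(false, ⟨q, cb.inj (by rw [map_mul, map_mul, h2])⟩), rfl⟩
      · refine ⟨(true, ⟨q, cb.inj (mul_left_cancel (a := S.b) ?_)⟩), rfl⟩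
        rw [map_mul, map_mul, ← mul_assoc, h2, ← mul_assoc, ← mul_assoc, (cb.comm_b p).eq]
  rw [← Nat.card_eq_of_bijective F hF, Nat.card_prod, Nat.card_eq_fintype_card (α := Bool),
    Fintype.card_bool, Nat.card_eq_fintype_card, Fintype.card_subtype]

theorem isConj_ι {p q c : Equiv.Perm (Fin 5)} (h : c * p * c⁻¹ = q) :
    IsConj (cb.ι p) (cb.ι q) ∧ IsConj (S.b * cb.ι p) (S.b * cb.ι q) := by
  refine ⟨isConj_iff.2 ⟨cb.ι c, by rw [← map_inv, ← map_mul, ← map_mul, h]⟩,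
    isConj_iff.2 ⟨cb.ι c, ?_⟩⟩
  rw [← mul_assoc (cb.ι c), cb.comm c, mul_assoc S.b, mul_assoc S.b, ← map_inv, ← map_mul, ← map_mul, h]

/-- Exactly one of the two elements over a 4-cycle lies in the class of `f 19`. -/
theorem exists_twist : ∃ ε : Bool, ∀ p : Equiv.Perm (Fin 5), isFour p →
    IsConj (S.f 19) (bif ε then S.b * cb.ι p else cb.ι p) ∧
      ¬ IsConj (S.f 19) (bif ε then cb.ι p else S.b * cb.ι p) := by
  obtain ⟨hC, h24, h55⟩ := cyc_facts
  have hc1 : IsConj (S.f 19) (S.f 24) := S.isConj_of_cls (cls_of_rep.1.trans h24.symm)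
  have hc3 : ¬ IsConj (S.f 19) (S.b * S.f 24) := fun h => by
    have e : S.b * S.f 24 = S.f (cMul 55 24) := (S.fmul _ _).symm
    rw [e] at h
    exact S.not_isConj_19_74 (h.trans (S.isConj_of_cls (h55.trans cls_of_rep.2.1.symm)))
  have hsq : S.f 24 ^ 2 = S.t := by
    rw [← S.f_pow, (sq_t 24 (Or.inl h24)).2, S.f_t]
  obtain ⟨p₀, hp⟩ := cb.cover (S.f 24) (S.comm_of_cCm hC).symm
  have hfour : isFour p₀ := by
    have h2 : cb.ι (p₀ ^ 2) = S.t := by
      rcases hp with e | e <;> rw [e] at hsq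
      · rw [map_pow]; exact hsq
      · rw [← cb.bmul_sq]; exact hsq
    rw [isFour, ← sq p₀]
    exact ⟨fun e => S.t_ne_one (by rw [← h2, e, map_one]),
      cb.inj (by rw [map_mul, h2, S.t_sq, map_one])⟩
  rcases hp with e | e
  · refine ⟨false, fun p hp' => ?_⟩
    obtain ⟨c, hc⟩ := four_conj p₀ p hfour hp'
    obtain ⟨h1, h2⟩ := cb.isConj_ι hc
    rw [e] at hc1 hc3
    exact ⟨hc1.trans h1, fun h => hc3 (h.trans h2.symm)⟩
  · refine ⟨true, fun p hp' => ?_⟩
    obtain ⟨c, hc⟩ := four_conj p₀ p hfour hp'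
    obtain ⟨h1, h2⟩ := cb.isConj_ι hc
    rw [e, ← mul_assoc, S.b_sq, one_mul] at hc3
    rw [e] at hc1
    exact ⟨hc1.trans h2, fun h => hc3 (h.trans h1.symm)⟩

end CentB

end Cfsg.Lib.MTwelveRecog
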