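import Cfsg.Agent.Lib.MTwelveRecog.CentB
import Cfsg.Agent.Lib.Small.SimpleOrder
import Cfsg.Agent.Lib.Invol.BrauerFowler
import Cfsg.Agent.S0213

/-!
The order formula: the group has order 95040, one further class of involutions beside that of `t`,
and the centraliser of `b` is the product of its centre with a symmetric group of degree 5.
-/

set_option autoImplicit false
set_option linter.style.haveILetI false
set_option linter.unusedSectionVars false
set_option maxRecDepth 100000

namespace Cfsg.Lib.MTwelveRecog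

open Cfsg Subgroup

universe u

/-! ### Facts about the table -/

/-- The indices of the involutions conjugate to `t`. -/
def tP (φ : Bool) (i : Fin 192) : Bool := cCls i == 2 || cCls i == 12 || (φ && cCls i == 9)

/-- The indices of the involutions conjugate to `b`. -/
def bP (φ : Bool) (i : Fin 192) : Bool := cCls i == 4 || (!φ && cCls i == 9)

/-- Whether `x` is a power of `g`. -/
def hasP (x g : Fin 192) : Bool := (List.range 24).any fun k => cPow g k == x

/-- The number of pairs of indices with the two properties whose product has `x` as a power. -/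
def cnt (x : Fin 192) (P Q : Fin 192 → Bool) : ℕ :=
  ((List.finRange 192).map fun i =>
    ((List.finRange 192).filter fun j => P i && (Q j && hasP x (cMul i j))).length).sum

theorem cnt_t : cnt cT (tP true) (bP true) = 240 ∧ cnt cT (tP false) (bP false) = 48 ∧
    cnt cT (tP true) (tP true) = 318 ∧ cnt cT (bP false) (bP false) = 756 := by
  decide +kernel

theorem cnt_b : cnt 55 (fun i => tP true i && cCm 55 i) (fun i => bP true i && cCm 55 i) = 3 ∧
    cnt 55 (fun i => tP false i && cCm 55 i) (fun i => bP false i && cCm 55 i) = 3 := by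
  decide +kernel

theorem tP_sq : ∀ i : Fin 192, cCls i = 2 ∨ cCls i = 4 ∨ cCls i = 9 ∨ cCls i = 12 →
    cMul i i = 0 ∧ i ≠ 0 ∧ (cCls i = 2 → i = cT) := by
  decide +kernel

theorem cPow_period : ∀ g : Fin 192, cPow g 24 = 0 := by decide +kernel

theorem cls_cT : cCls cT = 2 := by decide +kernel

/-- The pairs of a symmetric group giving the centre. -/
def symPairs (n : ℕ) : ℕ :=
  ((Finset.univ : Finset (Equiv.Perm (Fin n) × Equiv.Perm (Fin n))).filter fun p =>
    isDT p.1 ∧ p.2 * p.2 = 1 ∧ (p.1 * p.2) ^ 15 = 1).card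

theorem symPairs_four : symPairs 4 = 3 := by decide +kernel

theorem symPairs_five : symPairs 5 = 195 := by decide +kernel

variable {G : Type u} [Group G]

/-- The pairs of conjugates of `A` and `B` whose product has `x` as a power. -/
abbrev Pairs (x A B : G) : Type u :=
  {p : G × G // IsConj A p.1 ∧ IsConj B p.2 ∧ x ∈ zpowers (p.1 * p.2)}

variable [Finite G]

theorem orderOf_eq_of_isConj {x y : G} (h : IsConj x y) : orderOf y = orderOf x := by
  obtain ⟨g, rfl⟩ := isConj_iff.1 h
  exact MulEquiv.orderOf_eq (MulAut.conj g) x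

theorem unique_invol {g x y : G} (hx : orderOf x = 2) (hy : orderOf y = 2) (hxg : x ∈ zpowers g)
    (hyg : y ∈ zpowers g) : x = y := by
  have key : ∀ z : G, orderOf z = 2 → z ∈ zpowers g → z = g ^ (orderOf g / 2) := by
    intro z hz hzg
    classical
    obtain ⟨k, hk, rfl⟩ := Finset.mem_image.1 ((mem_zpowers_iff_mem_range_orderOf).1 hzg)
    rw [Finset.mem_range] at hk
    have h2 : orderOf g ∣ k * 2 := orderOf_dvd_of_pow_eq_one (by
      rw [pow_mul, ← hz, pow_orderOf_eq_one])
    have hk0 : k ≠ 0 := fun e => by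
      rw [e, pow_zero, orderOf_one] at hz
      norm_num at hz
    obtain ⟨c, hc⟩ := h2
    have hc1 : c = 1 := by
      rcases c with _ | _ | c
      · omega
      · rfl
      · exfalso
        have : orderOf g * 2 ≤ orderOf g * (c + 1 + 1) := Nat.mul_le_mul_left _ (by omega)
        omega
    rw [hc1, mul_one] at hc
    congr 1
    omega
  rw [key x hx hxg, key y hy hyg]

theorem card_pairs_conj {x x' A B : G} (h : IsConj x x') :
    Nat.card (Pairs x' A B) = Nat.card (Pairs x A B) := by
  obtain ⟨g, rfl⟩ := isConj_iff.1 h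
  have key : ∀ h z a b : G, z ∈ zpowers (a * b) →
      h * z * h⁻¹ ∈ zpowers (h * a * h⁻¹ * (h * b * h⁻¹)) := by
    intro h z a b hz
    obtain ⟨k, rfl⟩ := mem_zpowers_iff.1 hz
    exact mem_zpowers_iff.2 ⟨k, by
      rw [show h * a * h⁻¹ * (h * b * h⁻¹) = h * (a * b) * h⁻¹ by group, conj_zpow]⟩
  have hc : ∀ h C u : G, IsConj C u → IsConj C (h * u * h⁻¹) := fun h C u hu =>
    hu.trans (isConj_iff.2 ⟨h, rfl⟩)
  let F : Pairs x A B → Pairs (g * x * g⁻¹) A B := fun p =>
    ⟨(g * p.1.1 * g⁻¹, g * p.1.2 * g⁻¹), hc g A _ p.2.1, hc g B _ p.2.2.1, key g x _ _ p.2.2.2⟩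
  have hF : Function.Bijective F := by
    constructor
    · intro p q e
      have e' := congrArg Subtype.val e
      simp only [F, Prod.mk.injEq, mul_left_inj, mul_right_inj] at e'
      exact Subtype.ext (Prod.ext e'.1 e'.2)
    · rintro ⟨⟨u, v⟩, hu, hv, hm⟩
      refine ⟨⟨(g⁻¹ * u * g⁻¹⁻¹, g⁻¹ * v * g⁻¹⁻¹), hc g⁻¹ A u hu, hc g⁻¹ B v hv, ?_⟩, ?_⟩
      · have h := key g⁻¹ _ _ _ hm
        rw [show g⁻¹ * (g * x * g⁻¹) * g⁻¹⁻¹ = x by group] at h
        exact h
      · refine Subtype.ext (Prod.ext ?_ ?_) <;> simp only [F] <;> group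
  exact (Nat.card_eq_of_bijective F hF).symm

/-- The pairs attached to the conjugates of an involution are disjoint. -/
theorem card_mul_pairs_le {x A B : G} (hx : orderOf x = 2) :
    Nat.card {y : G // IsConj x y} * Nat.card (Pairs x A B) ≤
      Nat.card {y : G // IsConj A y} * Nat.card {y : G // IsConj B y} := by
  classical
  haveI : Fintype {y : G // IsConj x y} := Fintype.ofFinite _
  let F : (Σ y : {y : G // IsConj x y}, Pairs y.1 A B) →
      {y : G // IsConj A y} × {y : G // IsConj B y} := fun s =>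
    (⟨s.2.1.1, s.2.2.1⟩, ⟨s.2.1.2, s.2.2.2.1⟩)
  have hF : Function.Injective F := by
    rintro ⟨⟨y, hy⟩, ⟨⟨u, v⟩, hu⟩⟩ ⟨⟨y', hy'⟩, ⟨⟨u', v'⟩, hu'⟩⟩ e
    simp only [F, Prod.mk.injEq, Subtype.mk.injEq] at e
    obtain ⟨rfl, rfl⟩ := e
    obtain rfl := unique_invol ((orderOf_eq_of_isConj hy).trans hx)
      ((orderOf_eq_of_isConj hy').trans hx) hu.2.2 hu'.2.2
    rfl
  have h := Nat.card_le_card_of_injective F hF
  rw [Nat.card_prod, Nat.card_sigma, Finset.sum_congr rfl fun y _ => card_pairs_conj y.2,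
    Finset.sum_const, Finset.card_univ, ← Nat.card_eq_fintype_card, smul_eq_mul] at h
  exact h

namespace Setup

variable (S : Setup G)

theorem f_pow (g : Fin 192) (k : ℕ) : S.f (cPow g k) = S.f g ^ k := by
  induction k with
  | zero => rw [cPow, S.fone, pow_zero]
  | succ k ih => rw [cPow, S.fmul, ih, pow_succ']

theorem mem_zpowers_f (x g : Fin 192) : S.f x ∈ zpowers (S.f g) ↔ hasP x g = true := by
  constructor
  · intro h
    rw [← mem_powers_iff_mem_zpowers] at h
    obtain ⟨k, hk⟩ := h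
    replace hk : S.f g ^ k = S.f x := hk
    rw [hasP, List.any_eq_true]
    refine ⟨k % 24, List.mem_range.2 (Nat.mod_lt _ (by norm_num)), ?_⟩
    have h24 : S.f g ^ 24 = 1 := by rw [← S.f_pow, cPow_period, S.fone]
    rw [beq_iff_eq]
    refine S.inj ?_
    rw [S.f_pow, ← hk]
    conv_rhs => rw [← Nat.mod_add_div k 24, pow_add, pow_mul, h24, one_pow, mul_one]
  · intro h
    rw [hasP, List.any_eq_true] at h
    obtain ⟨k, -, hk⟩ := h
    rw [beq_iff_eq] at hk
    rw [← hk, S.f_pow]
    exact npow_mem_zpowers _ _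

theorem card_pairs_idx (x : Fin 192) (A B : G) (P Q : Fin 192 → Bool)
    (hP : ∀ i, P i = true → IsConj A (S.f i)) (hQ : ∀ j, Q j = true → IsConj B (S.f j))
    (hcov : ∀ u v : G, IsConj A u → IsConj B v → S.f x ∈ zpowers (u * v) →
      ∃ i j, P i = true ∧ Q j = true ∧ S.f i = u ∧ S.f j = v) :
    Nat.card (Pairs (S.f x) A B) = cnt x P Q := by
  classical
  let R : Fin 192 → Fin 192 → Bool := fun i j => P i && (Q j && hasP x (cMul i j))
  have hR : ∀ i j, R i j = true → P i = true ∧ Q j = true ∧ hasP x (cMul i j) = true := by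
    intro i j h
    simpa [R, Bool.and_eq_true] using h
  let F : (Σ i : Fin 192, {j : Fin 192 // R i j = true}) → Pairs (S.f x) A B := fun s =>
    ⟨(S.f s.1, S.f s.2.1), hP _ (hR _ _ s.2.2).1, hQ _ (hR _ _ s.2.2).2.1, by
      rw [← S.fmul]; exact (S.mem_zpowers_f _ _).2 (hR _ _ s.2.2).2.2⟩
  have hF : Function.Bijective F := by
    constructor
    · rintro ⟨i, j, hj⟩ ⟨i', j', hj'⟩ e
      simp only [F, Subtype.mk.injEq, Prod.mk.injEq] at e
      obtain rfl := S.inj e.1
      obtain rfl := S.inj e.2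
      rfl
    · rintro ⟨⟨u, v⟩, hu, hv, hmem⟩
      obtain ⟨i, j, hi, hj, rfl, rfl⟩ := hcov u v hu hv hmem
      refine ⟨⟨i, j, ?_⟩, rfl⟩
      rw [← S.fmul] at hmem
      simp [R, hi, hj, (S.mem_zpowers_f _ _).1 hmem]
  rw [← Nat.card_eq_of_bijective F hF, Nat.card_sigma, cnt, Fin.sum_univ_def]
  refine congrArg List.sum (List.map_congr_left fun i _ => ?_)
  rw [Nat.card_eq_fintype_card, Fintype.card_subtype,
    ← List.toFinset_card_of_nodup ((List.nodup_finRange 192).filter _)]
  congr 1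
  ext j
  simp [R]

/-- An involution which is a power of a product of two involutions commutes with both. -/
theorem comm_of_mem_zpowers {w u v : G} (hw : orderOf w = 2) (hu : orderOf u = 2) (hv : orderOf v = 2)
    (hmem : w ∈ zpowers (u * v)) : u * w = w * u ∧ v * w = w * v := by
  obtain ⟨i, rfl⟩ := mem_zpowers_iff.1 hmem
  have hsq : ∀ z : G, orderOf z = 2 → z * z = 1 := fun z hz => by rw [← sq, ← hz, pow_orderOf_eq_one]
  have hinv : u * (u * v) * u⁻¹ = (u * v)⁻¹ := by
    rw [_root_.mul_inv_rev, inv_eq_of_mul_eq_one_right (hsq v hv), inv_eq_of_mul_eq_one_right (hsq u hu),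
      ← mul_assoc, hsq u hu, one_mul]
  have h1 : u * (u * v) ^ i * u⁻¹ = (u * v) ^ i := by
    rw [← conj_zpow, hinv, inv_zpow]
    exact inv_eq_of_mul_eq_one_right (hsq _ hw)
  have h2 : Commute u ((u * v) ^ i) := mul_inv_eq_iff_eq_mul.1 h1
  refine ⟨h2.eq, ?_⟩
  have h3 := h2.inv_left.mul_left ((Commute.refl (u * v)).zpow_right i)
  rw [inv_mul_cancel_left] at h3
  exact h3.eq

theorem orderOf_t : orderOf S.t = 2 := orderOf_eq_prime (by rw [sq, S.t_sq]) S.t_ne_one

variable (hna : S.Fused) {φ : Bool} (hφ : φ = true ↔ IsConj S.t (S.f 61))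
include hna hφ

theorem isConj_tP {i : Fin 192} (h : tP φ i = true) : IsConj S.t (S.f i) := by
  simp only [tP, Bool.or_eq_true, Bool.and_eq_true, beq_iff_eq] at h
  rcases h with (h | h) | ⟨h, h'⟩
  · rw [(tP_sq i (Or.inl h)).2.2 h, S.f_t]
  · exact hna.a.trans (S.isConj_cls12 h)
  · exact (hφ.1 h).trans (S.isConj_cls9 h')

theorem isConj_bP {i : Fin 192} (h : bP φ i = true) : IsConj S.b (S.f i) := by
  simp only [bP, Bool.or_eq_true, Bool.and_eq_true, beq_iff_eq, Bool.not_eq_true'] at h
  rcases h with h | ⟨h, h'⟩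
  · exact S.isConj_cls4 h
  · exact ((hna.c).resolve_left fun hc => by simp [hφ.2 hc] at h).trans (S.isConj_cls9 h')

theorem pred_of_invol {i : Fin 192} (h : orderOf (S.f i) = 2) : tP φ i = true ∨ bP φ i = true := by
  obtain ⟨hsq, h0⟩ := S.sq_of_orderOf h
  rcases (sq_cases i hsq).resolve_left h0 with e | e | e | e
  · left; simp [tP, e, cls_cT]
  · right; simp [bP, e]
  · cases φ
    · right; simp [bP, e]
    · left; simp [tP, e]
  · left; simp [tP, e]

/-- Every involution is conjugate to `t` or to `b`. -/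
theorem classes {x : G} (hx : orderOf x = 2) : IsConj S.t x ∨ IsConj S.b x := by
  obtain ⟨g, i, hsq, h0, hi⟩ := S.exists_conj_f hx
  have hxi : IsConj x (S.f i) := isConj_iff.2 ⟨g, hi⟩
  rcases S.pred_of_invol hna hφ (S.orderOf_f hsq h0) with h | h
  · exact Or.inl ((S.isConj_tP hna hφ h).trans hxi.symm)
  · exact Or.inr ((S.isConj_bP hna hφ h).trans hxi.symm)

theorem tP_of_isConj {i : Fin 192} (h : IsConj S.t (S.f i)) : tP φ i = true :=
  (S.pred_of_invol hna hφ ((orderOf_eq_of_isConj h).trans S.orderOf_t)).resolve_right fun hb =>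
    S.not_isConj_b (h.trans (S.isConj_bP hna hφ hb).symm)

theorem bP_of_isConj {i : Fin 192} (h : IsConj S.b (S.f i)) : bP φ i = true :=
  (S.pred_of_invol hna hφ ((orderOf_eq_of_isConj h).trans S.orderOf_b)).resolve_left fun ht =>
    S.not_isConj_b ((S.isConj_tP hna hφ ht).trans h.symm)

theorem cover_t (A B : G) (P Q : Fin 192 → Bool) (hA : orderOf A = 2) (hB : orderOf B = 2)
    (hP : ∀ i, IsConj A (S.f i) → P i = true) (hQ : ∀ j, IsConj B (S.f j) → Q j = true) :
    ∀ u v : G, IsConj A u → IsConj B v → S.f cT ∈ zpowers (u * v) →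
      ∃ i j, P i = true ∧ Q j = true ∧ S.f i = u ∧ S.f j = v := by
  intro u v hu hv hm
  rw [S.f_t] at hm
  obtain ⟨h1, h2⟩ := comm_of_mem_zpowers S.orderOf_t ((orderOf_eq_of_isConj hu).trans hA)
    ((orderOf_eq_of_isConj hv).trans hB) hm
  obtain ⟨i, rfl⟩ := (S.mem_iff u).1 h1
  obtain ⟨j, rfl⟩ := (S.mem_iff v).1 h2
  exact ⟨i, j, hP i hu, hQ j hv, rfl, rfl⟩

theorem pairs_tb : Nat.card (Pairs S.t S.t S.b) = cnt cT (tP φ) (bP φ) := by
  conv_lhs => arg 1; arg 1; rw [← S.f_t]
  exact S.card_pairs_idx cT S.t S.b _ _ (fun i => S.isConj_tP hna hφ) (fun i => S.isConj_bP hna hφ)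
    (S.cover_t hna hφ S.t S.b _ _ S.orderOf_t S.orderOf_b (fun i => S.tP_of_isConj hna hφ)
      fun i => S.bP_of_isConj hna hφ)

theorem pairs_tt : Nat.card (Pairs S.t S.t S.t) = cnt cT (tP φ) (tP φ) := by
  conv_lhs => arg 1; arg 1; rw [← S.f_t]
  exact S.card_pairs_idx cT S.t S.t _ _ (fun i => S.isConj_tP hna hφ) (fun i => S.isConj_tP hna hφ)
    (S.cover_t hna hφ S.t S.t _ _ S.orderOf_t S.orderOf_t (fun i => S.tP_of_isConj hna hφ)
      fun i => S.tP_of_isConj hna hφ)

theorem pairs_bb : Nat.card (Pairs S.t S.b S.b) = cnt cT (bP φ) (bP φ) := by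
  conv_lhs => arg 1; arg 1; rw [← S.f_t]
  exact S.card_pairs_idx cT S.b S.b _ _ (fun i => S.isConj_bP hna hφ) (fun i => S.isConj_bP hna hφ)
    (S.cover_t hna hφ S.b S.b _ _ S.orderOf_b S.orderOf_b (fun i => S.bP_of_isConj hna hφ)
      fun i => S.bP_of_isConj hna hφ)

theorem pairs_b_small (hR : ∀ h : G, h * S.b = S.b * h → h ∈ S.rgrp) :
    Nat.card (Pairs S.b S.t S.b) =
      cnt 55 (fun i => tP φ i && cCm 55 i) (fun i => bP φ i && cCm 55 i) := by
  refine S.card_pairs_idx 55 S.t S.b _ _ (fun i h => ?_) (fun i h => ?_) ?_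
  · rw [Bool.and_eq_true] at h; exact S.isConj_tP hna hφ h.1
  · rw [Bool.and_eq_true] at h; exact S.isConj_bP hna hφ h.1
  intro u v hu hv hm
  obtain ⟨h1, h2⟩ := comm_of_mem_zpowers S.orderOf_b ((orderOf_eq_of_isConj hu).trans S.orderOf_t)
    ((orderOf_eq_of_isConj hv).trans S.orderOf_b) hm
  obtain ⟨i, hi, rfl⟩ := hR u h1
  obtain ⟨j, hj, rfl⟩ := hR v h2
  exact ⟨i, j, by rw [Bool.and_eq_true]; exact ⟨S.tP_of_isConj hna hφ hu, hi⟩,
    by rw [Bool.and_eq_true]; exact ⟨S.bP_of_isConj hna hφ hv, hj⟩, rfl, rfl⟩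

omit hφ in
theorem card_centralizer_b_big {n : ℕ} (cb : CentB S n) :
    Nat.card (centralizer ({S.b} : Set G)) = 2 * n.factorial := by
  let F : Bool × Equiv.Perm (Fin n) → centralizer ({S.b} : Set G) := fun p =>
    ⟨bif p.1 then S.b * cb.ι p.2 else cb.ι p.2, mem_centralizer_singleton_iff.2 (by
      cases p.1 <;> simp [mul_assoc, cb.comm p.2])⟩
  have hF : Function.Bijective F := by
    constructor
    · rintro ⟨e, p⟩ ⟨e', q⟩ h
      have h' := congrArg Subtype.val h
      cases e <;> cases e' <;> simp only [F, cond_true, cond_false] at h'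
      · rw [cb.inj h']
      · exact absurd (show cb.ι (p * q⁻¹) = S.b by rw [map_mul, map_inv, h', mul_inv_cancel_right])
          (cb.b_notMem _)
      · exact absurd (show cb.ι (q * p⁻¹) = S.b by rw [map_mul, map_inv, ← h', mul_inv_cancel_right])
          (cb.b_notMem _)
      · rw [cb.inj (mul_left_cancel h')]
    · rintro ⟨h, hh⟩
      obtain ⟨p, e | e⟩ := cb.cover h (mem_centralizer_singleton_iff.1 hh)
      · exact ⟨(false, p), Subtype.ext e.symm⟩
      · exact ⟨(true, p), Subtype.ext e.symm⟩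
  rw [← Nat.card_eq_of_bijective F hF, Nat.card_prod, Nat.card_eq_fintype_card (α := Equiv.Perm _),
    Fintype.card_perm, Fintype.card_fin]
  simp

theorem pairs_b_big {n : ℕ} (cb : CentB S n) :
    Nat.card (Pairs S.b S.t S.b) = symPairs n := by
  classical
  have hsq : ∀ q : Equiv.Perm (Fin n), (S.b * cb.ι q) * (S.b * cb.ι q) = cb.ι (q * q) := fun q => by
    calc S.b * cb.ι q * (S.b * cb.ι q) = S.b * (cb.ι q * S.b) * cb.ι q := by simp only [mul_assoc]
      _ = cb.ι (q * q) := by rw [cb.comm, ← mul_assoc S.b, S.b_sq, one_mul, map_mul]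
  have hv : ∀ q : Equiv.Perm (Fin n), q * q = 1 → IsConj S.b (S.b * cb.ι q) := by
    intro q hq
    refine (S.classes hna hφ (orderOf_eq_prime ?_ fun e => ?_)).resolve_left (cb.not_isConj_t q)
    · rw [sq, hsq, hq, map_one]
    · refine cb.b_notMem q ?_
      calc cb.ι q = S.b * (S.b * cb.ι q) := by rw [← mul_assoc, S.b_sq, one_mul]
        _ = S.b := by rw [e, mul_one]
  have hmul : ∀ p q : Equiv.Perm (Fin n), cb.ι p * (S.b * cb.ι q) = S.b * cb.ι (p * q) := fun p q => by
    rw [← mul_assoc, cb.comm, mul_assoc, map_mul]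
  let F : {p : Equiv.Perm (Fin n) × Equiv.Perm (Fin n) //
      isDT p.1 ∧ p.2 * p.2 = 1 ∧ (p.1 * p.2) ^ 15 = 1} → Pairs S.b S.t S.b := fun s =>
    ⟨(cb.ι s.1.1, S.b * cb.ι s.1.2), (cb.isConj_t _).2 s.2.1, hv _ s.2.2.1, by
      show S.b ∈ zpowers (cb.ι s.1.1 * (S.b * cb.ι s.1.2))
      refine mem_zpowers_iff.2 ⟨(15 : ℕ), ?_⟩
      rw [zpow_natCast, hmul, (show Commute S.b (cb.ι _) from (cb.comm _).symm).mul_pow,
        ← map_pow, s.2.2.2, map_one, mul_one, pow_succ, show (14 : ℕ) = 2 * 7 from rfl, pow_mul, sq,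
        S.b_sq, one_pow, one_mul]⟩
  have hF : Function.Bijective F := by
    constructor
    · rintro ⟨⟨p, q⟩, h⟩ ⟨⟨p', q'⟩, h'⟩ e
      simp only [F, Subtype.mk.injEq, Prod.mk.injEq] at e
      obtain rfl := cb.inj e.1
      obtain rfl := cb.inj (mul_left_cancel e.2)
      rfl
    · rintro ⟨⟨u, v⟩, hu, hv', hm⟩
      replace hm : S.b ∈ zpowers (u * v) := hm
      obtain ⟨h1, h2⟩ := comm_of_mem_zpowers S.orderOf_b ((orderOf_eq_of_isConj hu).trans S.orderOf_t)
        ((orderOf_eq_of_isConj hv').trans S.orderOf_b) hm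
      have hpu : ∃ p, isDT p ∧ u = cb.ι p := by
        obtain ⟨p, rfl | rfl⟩ := cb.cover u h1
        · exact ⟨p, (cb.isConj_t p).1 hu, rfl⟩
        · exact absurd hu (cb.not_isConj_t p)
      obtain ⟨p, hp, rfl⟩ := hpu
      rw [← mem_powers_iff_mem_zpowers] at hm
      obtain ⟨k, hk⟩ := hm
      replace hk : (cb.ι p * v) ^ k = S.b := hk
      obtain ⟨q, rfl | rfl⟩ := cb.cover v h2
      · exact absurd (show cb.ι ((p * q) ^ k) = S.b by rw [map_pow, map_mul, hk]) (cb.b_notMem _)
      have hq : q * q = 1 := cb.inj (by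
        rw [map_one, ← hsq, ← sq, ← (orderOf_eq_of_isConj hv').trans S.orderOf_b, pow_orderOf_eq_one])
      rw [hmul, (show Commute S.b (cb.ι _) from (cb.comm _).symm).mul_pow, ← map_pow] at hk
      rcases Nat.even_or_odd' k with ⟨j, rfl | rfl⟩
      · rw [pow_mul, sq, S.b_sq, one_pow, one_mul] at hk
        exact absurd hk (cb.b_notMem _)
      rw [pow_succ (a := S.b), pow_mul, sq, S.b_sq, one_pow, one_mul, mul_eq_left] at hk
      have hone : (p * q) ^ (2 * j + 1) = 1 := cb.inj (hk.trans (map_one _).symm)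
      refine ⟨⟨(p, q), hp, hq, ?_⟩, rfl⟩
      have hd : orderOf (p * q) ∣ 120 := by
        refine (_root_.orderOf_dvd_natCard _).trans ?_
        rw [Nat.card_eq_fintype_card, Fintype.card_perm, Fintype.card_fin]
        rcases cb.deg with e | e <;> subst e <;> decide
      have ho : orderOf (p * q) ∣ 2 * j + 1 := orderOf_dvd_of_pow_eq_one hone
      refine orderOf_dvd_iff_pow_eq_one.1 ?_
      have hc : Nat.Coprime (orderOf (p * q)) (2 ^ 3) :=
        (((Nat.coprime_two_right).2 (Odd.of_dvd_nat ⟨j, rfl⟩ ho))).pow_right 3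
      exact hc.dvd_of_dvd_mul_right (show orderOf (p * q) ∣ 15 * 2 ^ 3 from hd)
  rw [← Nat.card_eq_of_bijective F hF, Nat.card_eq_fintype_card, Fintype.card_subtype, symPairs]

theorem card_formula : Nat.card G = Nat.card (centralizer ({S.b} : Set G)) *
    cnt cT (tP φ) (bP φ) + 192 * Nat.card (Pairs S.b S.t S.b) := by
  have h := Cfsg.Agent.S0213.result S.t S.b S.orderOf_t S.orderOf_b S.not_isConj_b
    fun x hx => S.classes hna hφ hx
  rw [S.card_centralizer_t] at h
  rw [← S.pairs_tb hna hφ]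
  exact h

/-- The order and the structure of the centraliser of `b`. -/
theorem order_facts : (Nat.card G = 1344 ∧ φ = false) ∨
    (Nat.card G = 95040 ∧ φ = true ∧ Nonempty (CentB S 5)) := by
  have hG := S.card_formula hna hφ
  have hT : Nat.card {y : G // IsConj S.t y} * 192 = Nat.card G := by
    rw [← S.card_centralizer_t]
    exact Cfsg.Lib.Invol.card_conj_mul_centralizer S.t
  have hB := Cfsg.Lib.Invol.card_conj_mul_centralizer S.b
  have hTT := card_mul_pairs_le (A := S.t) (B := S.t) S.orderOf_t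
  have hBB := card_mul_pairs_le (A := S.b) (B := S.b) S.orderOf_t
  rw [S.pairs_tt hna hφ] at hTT
  rw [S.pairs_bb hna hφ] at hBB
  rcases S.centB_cases hna with hR | ⟨n, ⟨cb⟩⟩
  · have hC : Nat.card (centralizer ({S.b} : Set G)) = 16 := by
      rw [← S.card_rgrp]
      exact congrArg (fun K : Subgroup G => Nat.card K)
        (le_antisymm (fun h hh => hR h (mem_centralizer_singleton_iff.1 hh)) S.rgrp_le)
    rw [S.pairs_b_small hna hφ hR, hC] at hG
    rw [hC] at hB
    cases φ
    · rw [cnt_t.2.1, cnt_b.2] at hG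
      exact Or.inl ⟨by omega, rfl⟩
    · exfalso
      rw [cnt_t.1, cnt_b.1] at hG
      rw [cnt_t.2.2.1] at hTT
      have : Nat.card {y : G // IsConj S.t y} = 23 := by omega
      rw [this] at hTT
      omega
  · have hC := S.card_centralizer_b_big hna cb
    rw [S.pairs_b_big hna hφ cb, hC] at hG
    rw [hC] at hB
    rcases cb.deg with e | e
    · subst e
      exfalso
      rw [symPairs_four, show Nat.factorial 4 = 24 from rfl] at hG
      rw [show Nat.factorial 4 = 24 from rfl] at hB
      cases φ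
      · rw [cnt_t.2.1] at hG
        rw [cnt_t.2.2.2] at hBB
        have h1 : Nat.card {y : G // IsConj S.t y} = 15 := by
          omega
        have h2 : Nat.card {y : G // IsConj S.b y} = 60 := by
          omega
        rw [h1, h2] at hBB
        omega
      · rw [cnt_t.1] at hG
        rw [cnt_t.2.2.1] at hTT
        have h1 : Nat.card {y : G // IsConj S.t y} = 63 := by
          omega
        rw [h1] at hTT
        omega
    · subst e
      rw [symPairs_five, show Nat.factorial 5 = 120 from rfl] at hG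
      rw [show Nat.factorial 5 = 120 from rfl] at hB
      cases φ
      · exfalso
        rw [cnt_t.2.1] at hG
        rw [cnt_t.2.2.2] at hBB
        have h1 : Nat.card {y : G // IsConj S.t y} = 255 := by
          omega
        have h2 : Nat.card {y : G // IsConj S.b y} = 204 := by
          omega
        rw [h1, h2] at hBB
        omega
      · rw [cnt_t.1] at hG
        refine Or.inr ⟨?_, rfl, ⟨cb⟩⟩
        rw [hG]

omit hφ

/-- The two possible orders. -/
theorem order_cases : (Nat.card G = 1344 ∧ ¬ IsConj S.t (S.f 61)) ∨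
    (Nat.card G = 95040 ∧ IsConj S.t (S.f 61) ∧ Nonempty (CentB S 5)) := by
  classical
  rcases S.order_facts hna (φ := decide (IsConj S.t (S.f 61))) decide_eq_true_iff with ⟨h1, h2⟩ | ⟨h1, h2, h3⟩
  · exact Or.inl ⟨h1, decide_eq_false_iff_not.1 h2⟩
  · exact Or.inr ⟨h1, decide_eq_true_iff.1 h2, h3⟩

/-- The classes, the order and the centraliser of `b` in a simple group. -/
theorem main_facts [IsSimpleGroup G] : Nat.card G = 95040 ∧ IsConj S.t (S.f 61) ∧ Nonempty (CentB S 5) := by
  refine (S.order_cases hna).resolve_left fun h => ?_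
  have hi : (centralizer ({S.t} : Set G)).index = 7 := by
    have := (centralizer ({S.t} : Set G)).index_mul_card
    rw [S.card_centralizer_t, h.1] at this
    omega
  have hne : centralizer ({S.t} : Set G) ≠ ⊤ := fun e => by
    rw [e, index_top] at hi
    norm_num at hi
  have hd := Cfsg.Lib.Small.card_dvd_factorial hne
  rw [hi, h.1] at hd
  revert hd
  decide

end Setup

end Cfsg.Lib.MTwelveRecog
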