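import Cfsg.Agent.Lib.MEleven.Model
import Mathlib.Logic.Equiv.Fin.Basic
import Mathlib.Logic.Equiv.Option
import Mathlib.Algebra.Group.End

/-!
A permutation group of degree 12 extending the standard group of order 7920 on the residues modulo 11
(the point 11 is the new point), and the certificate that the extending element is unique.
-/

set_option autoImplicit false

namespace Cfsg.Lib.MTwelveRecog

open Cfsg.Lib.MEleven

/-- The map underlying the extension. -/
def extFun (p : ZMod 11 → ZMod 11) (i : Fin 12) : Fin 12 :=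
  if h : i.val < 11 then Fin.castSucc (n := 11) (p ⟨i.val, h⟩) else Fin.last 11

theorem extFun_castSucc (p : ZMod 11 → ZMod 11) (i : ZMod 11) :
    extFun p (Fin.castSucc (n := 11) i) = Fin.castSucc (n := 11) (p i) := by
  rw [extFun, dif_pos (show (Fin.castSucc (n := 11) i).val < 11 from Fin.isLt (n := 11) i)]
  rfl

theorem extFun_last (p : ZMod 11 → ZMod 11) : extFun p (Fin.last 11) = Fin.last 11 := by
  rw [extFun, dif_neg (show ¬ (Fin.last 11).val < 11 from lt_irrefl 11)]

theorem exists_or_last (i : Fin 12) : (∃ j : ZMod 11, i = Fin.castSucc (n := 11) j) ∨ i = Fin.last 11 := by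
  by_cases h : i.val < 11
  · exact Or.inl ⟨⟨i.val, h⟩, rfl⟩
  · exact Or.inr (Fin.ext (by have := i.2; show i.val = 11; omega))

theorem extFun_comp (p q : ZMod 11 → ZMod 11) (i : Fin 12) :
    extFun p (extFun q i) = extFun (p ∘ q) i := by
  rcases exists_or_last i with ⟨j, rfl⟩ | rfl
  · rw [extFun_castSucc, extFun_castSucc, extFun_castSucc]; rfl
  · rw [extFun_last, extFun_last, extFun_last]

theorem extFun_id (i : Fin 12) : extFun id i = i := by
  rcases exists_or_last i with ⟨j, rfl⟩ | rfl
  · rw [extFun_castSucc]; rfl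
  · rw [extFun_last]

/-- Extension of a permutation of the residues by the new point. -/
def extPerm : Equiv.Perm (ZMod 11) →* Equiv.Perm (Fin 12) where
  toFun p :=
    { toFun := extFun p
      invFun := extFun p.symm
      left_inv := fun i => by rw [extFun_comp, Equiv.symm_comp_self, extFun_id]
      right_inv := fun i => by rw [extFun_comp, Equiv.self_comp_symm, extFun_id] }
  map_one' := Equiv.ext fun i => extFun_id i
  map_mul' p q := Equiv.ext fun i => (extFun_comp p q i).symm

theorem extPerm_castSucc (p : Equiv.Perm (ZMod 11)) (i : ZMod 11) :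
    extPerm p (Fin.castSucc (n := 11) i) = Fin.castSucc (n := 11) (p i) := by
  show extFun p (Fin.castSucc (n := 11) i) = _
  exact extFun_castSucc _ _

theorem extPerm_last (p : Equiv.Perm (ZMod 11)) : extPerm p (Fin.last 11) = Fin.last 11 := by
  show extFun p (Fin.last 11) = _
  exact extFun_last _

/-- The translation. -/
def shE : Equiv.Perm (Fin 12) := extPerm stdShift

/-- Multiplication by 3. -/
def muE : Equiv.Perm (Fin 12) := extPerm stdMult

/-- The twist. -/
def twE : Equiv.Perm (Fin 12) := extPerm stdTwist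

/-- The element exchanging the new point and zero. -/
def sw0 : Equiv.Perm (Fin 12) where
  toFun i := ![11, 2, 9, 6, 8, 10, 5, 4, 3, 7, 1, 0] i
  invFun i := ![11, 10, 1, 8, 7, 6, 3, 9, 4, 2, 5, 0] i
  left_inv i := by revert i; decide +kernel
  right_inv i := by revert i; decide +kernel

/-- The standard group of degree 12. -/
def stdTwelve : Subgroup (Equiv.Perm (Fin 12)) := Subgroup.closure {shE, muE, twE, sw0}

theorem extPerm_mem {p : Equiv.Perm (ZMod 11)} (hp : p ∈ stdGroup) : extPerm p ∈ stdTwelve := by
  have h : Subgroup.map extPerm stdGroup ≤ stdTwelve := by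
    rw [stdGroup, MonoidHom.map_closure, Subgroup.closure_le]
    rintro _ ⟨q, hq, rfl⟩
    refine Subgroup.subset_closure ?_
    rcases hq with rfl | rfl | rfl
    · exact Or.inl rfl
    · exact Or.inr (Or.inl rfl)
    · exact Or.inr (Or.inr (Or.inl rfl))
  exact h ⟨p, hp, rfl⟩

theorem sw0_mem : sw0 ∈ stdTwelve := Subgroup.subset_closure (Or.inr (Or.inr (Or.inr rfl)))

theorem shE_mem : shE ∈ stdTwelve := Subgroup.subset_closure (Or.inl rfl)

/-- The standard group is transitive. -/
theorem exists_mem_last (s : Fin 12) : ∃ q ∈ stdTwelve, q (Fin.last 11) = s := by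
  have key : ∀ s : Fin 12, s = Fin.last 11 ∨ ∃ j : Fin 11, (shE ^ (j : ℕ) * sw0) (Fin.last 11) = s := by
    decide +kernel
  rcases key s with rfl | ⟨j, hj⟩
  · exact ⟨1, one_mem _, rfl⟩
  · exact ⟨_, mul_mem (pow_mem shE_mem _) sw0_mem, hj⟩

/-- The exponent `k` with `i = 3 ^ k` or `i = 10 * 3 ^ k`. -/
def logThree (i : Fin 12) : ℕ := ![0, 0, 2, 1, 4, 3, 3, 4, 1, 2, 0, 0] i

/-- Whether `i` is a square residue. -/
def isPow (i : Fin 12) : Bool := ![false, true, false, true, true, true, false, false, false, true, false, false] i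

/-- The only map exchanging `0` and the new point, with the values `a`, `b` at `1`, `10`, turning
multiplication by 3 into its `e`-th power. -/
def swFun (e : ℕ) (a b : Fin 12) (i : Fin 12) : Fin 12 :=
  if i = 0 then 11 else if i = 11 then 0 else muE^[e * logThree i] (if isPow i then a else b)

theorem logThree_spec : ∀ i : Fin 12, i ≠ 0 → i ≠ 11 →
    muE^[logThree i] (if isPow i then 1 else 10) = i := by decide +kernel

theorem swFun_eq {f : Fin 12 → Fin 12} {e : ℕ} (h0 : f 0 = 11) (h11 : f 11 = 0)
    (hf : ∀ i, f (muE i) = muE^[e] (f i)) : ∀ i, f i = swFun e (f 1) (f 10) i := by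
  intro i
  unfold swFun
  by_cases i0 : i = 0
  · rw [if_pos i0, i0, h0]
  by_cases i11 : i = 11
  · rw [if_neg i0, if_pos i11, i11, h11]
  rw [if_neg i0, if_neg i11, Function.iterate_mul]
  conv_lhs => rw [← logThree_spec i i0 i11]
  have hs : Function.Semiconj f muE (muE^[e]) := hf
  rw [(hs.iterate_right (logThree i)).eq]
  split_ifs <;> rfl

/-- The packed images of a map. -/
def packFun (f : Fin 12 → Fin 12) : ℕ :=
  (List.finRange 12).foldr (fun i acc => (f i).val + 16 * acc) 0

/-- The image of a point under a packed map. -/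
def pk (p i : ℕ) : ℕ := (p >>> (4 * i)) % 16

theorem fold_digit : ∀ (n : ℕ) (f : Fin n → Fin 12) (i : Fin n),
    (List.finRange n).foldr (fun j acc => (f j).val + 16 * acc) 0 / 16 ^ (i : ℕ) % 16 = f i := by
  intro n
  induction n with
  | zero => intro f i; exact i.elim0
  | succ n ih =>
    intro f i
    rw [List.finRange_succ, List.foldr_cons, List.foldr_map]
    cases i using Fin.cases with
    | zero => simp only [Fin.val_zero, pow_zero, Nat.div_one]; have := (f 0).2; omega
    | succ j =>
      rw [Fin.val_succ, pow_succ', ← Nat.div_div_eq_div_mul]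
      refine (congrArg (fun m => m / 16 ^ (j : ℕ) % 16) ?_).trans (ih (fun k => f k.succ) j)
      have := (f 0).2
      omega

theorem pk_packFun (f : Fin 12 → Fin 12) (i : Fin 12) : pk (packFun f) i = f i := by
  rw [pk, Nat.shiftRight_eq_div_pow, pow_mul]
  exact fold_digit 12 f i

/-- One letter: the translation, the candidate, or the twist. -/
def letter (s : ℕ) : Fin 3 → ℕ → ℕ
  | 0, p => if p = 11 then 11 else (p + 1) % 11
  | 1, p => pk s p
  | 2, p => [0, 1, 6, 9, 5, 3, 10, 2, 8, 4, 7, 11].getD p 0

/-- A word applied from the left. -/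
def runW (s : ℕ) (w : List (Fin 3)) (p : ℕ) : ℕ := w.foldl (fun q c => letter s c q) p

/-- The words used to discard the wrong candidates. -/
def badW : List (List (Fin 3)) :=
  [[0, 0, 1, 2, 2, 1, 1], [0, 0, 2, 1, 0, 1, 2], [0, 1, 0, 2, 1, 1], [0, 1, 0, 1, 2, 2, 1],
    [0, 2, 1, 0, 2, 1, 1], [0, 0, 1, 0, 0, 2], [0, 0, 2, 2, 0, 1, 2], [0, 0, 1, 2, 2, 0, 1],
    [0, 0, 1, 2, 0, 1, 1], [0, 0, 0, 2, 1, 2], [0, 0, 1, 2, 0, 2, 2], [0, 1, 2, 2, 0, 2]]

/-- The twenty packed candidates that lie in the standard group. -/
def goodS : List ℕ :=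
  [10597101371691, 5923188220971, 4963126900011, 1594601531691, 4918629532011, 6087070131051,
    1277005702251, 4024728450411, 3733561966971, 1810671084411, 10467659916411, 4557288139131,
    4816159515531, 3786372457611, 10038473553291, 6189922871691, 5654649995691, 10394181968811,
    1529967310251, 3866837019051]

/-- Whether a packed map is not injective. -/
def notInj (s : ℕ) : Bool :=
  (List.range 12).any fun i => (List.range i).any fun j => Nat.beq (pk s i) (pk s j)

/-- Some word has a cycle of length 7. -/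
def hasSeven (s : ℕ) : Bool :=
  badW.any fun w => (List.range 12).any fun p =>
    Nat.beq ((runW s w)^[7] p) p && !Nat.beq (runW s w p) p

/-- A candidate is no permutation, or lies in the standard group, or has a cycle of length 7. -/
theorem candidates : ∀ e : Fin 4, ∀ a b : Fin 12,
    (notInj (packFun (swFun (e.val + 1) a b)) || goodS.contains (packFun (swFun (e.val + 1) a b)) ||
      hasSeven (packFun (swFun (e.val + 1) a b))) = true := by
  decide +kernel

theorem goodS_spec : ∀ n ∈ goodS, ∃ j : Fin 5, ∃ k : Fin 4, ∀ i : Fin 12,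
    pk n i = (muE ^ (j : ℕ) * twE ^ (k : ℕ) * sw0) i := by
  decide +kernel

theorem letter_shift (s : ℕ) (a : Fin 12) : letter s 0 a.val = (shE a).val := by
  have h : ∀ a : Fin 12, (if a.val = 11 then 11 else (a.val + 1) % 11) = (shE a).val := by decide +kernel
  exact h a

theorem letter_twist (s : ℕ) (a : Fin 12) : letter s 2 a.val = (twE a).val := by
  have h : ∀ a : Fin 12, [0, 1, 6, 9, 5, 3, 10, 2, 8, 4, 7, 11].getD a.val 0 = (twE a).val := by
    decide +kernel
  exact h a

theorem letter_cand (f : Fin 12 → Fin 12) (a : Fin 12) : letter (packFun f) 1 a.val = (f a).val :=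
  pk_packFun f a

theorem notInj_false {f : Fin 12 → Fin 12} (hf : Function.Injective f) : notInj (packFun f) = false := by
  rw [notInj, Bool.eq_false_iff]
  intro h
  simp only [List.any_eq_true, List.mem_range] at h
  obtain ⟨i, hi, j, hj, e⟩ := h
  have e' := Nat.eq_of_beq_eq_true e
  rw [show i = ((⟨i, hi⟩ : Fin 12) : ℕ) from rfl, pk_packFun,
    show j = ((⟨j, hj.trans hi⟩ : Fin 12) : ℕ) from rfl, pk_packFun] at e'
  have := congrArg Fin.val (hf (Fin.ext e'))
  simp only at this
  omega

end Cfsg.Lib.MTwelveRecog
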