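import Cfsg.Agent.Lib.MTwelveRecog.Local

/-!
The Sylow subgroups for 5 and 11 and the 2-parts of the centralisers of elements of order 3.
-/

set_option autoImplicit false
set_option linter.style.haveILetI false
set_option linter.unusedSectionVars false
set_option maxRecDepth 100000

namespace Cfsg.Lib.MTwelveRecog

open Cfsg Subgroup

universe u

/-- The known facts about a normalised setup. -/
structure Facts {G : Type u} [Group G] (S : Setup G) where
  na : ¬ IsMulCommutative G
  card : Nat.card G = 95040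
  isConj_c : IsConj S.t (S.f 61)
  norm : IsConj (S.f 19) (S.f 1)
  cb : CentB S 5

theorem odd_cls : ∀ i : Fin 192, clsOrd (cCls i) % 2 = 1 → cCls i = 0 ∨ cCls i = 7 := by decide +kernel

theorem seven_facts : (∀ i : Fin 192, cCls i = 7 → cCard i = 6) ∧
    (∀ i : Fin 192, cCm i 6 = true → cMul i i = 0 → i = 0 ∨ i = cT) := by
  decide +kernel

theorem five_count : ∀ p : Equiv.Perm (Fin 5), p ^ 5 = 1 → p ≠ 1 →
    (Finset.univ.filter fun q => q * p = p * q).card = 5 := by decide +kernel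

theorem three_count : ∀ p : Equiv.Perm (Fin 5), p ^ 3 = 1 → p ≠ 1 →
    (Finset.univ.filter fun q => q * p = p * q).card = 6 := by decide +kernel

theorem five_normal : ∃ z c : Equiv.Perm (Fin 5), z ^ 5 = 1 ∧ z ≠ 1 ∧ c * z * c⁻¹ = z ^ 2 ∧
    z ^ 4 ≠ z := by
  decide +kernel

theorem three_ex : ∃ z : Equiv.Perm (Fin 5), z ^ 3 = 1 ∧ z ≠ 1 := by decide +kernel

variable {G : Type u} [Group G] [Finite G]

theorem card_centralizer_conj {x y : G} (h : IsConj x y) :
    Nat.card (centralizer ({y} : Set G)) = Nat.card (centralizer ({x} : Set G)) := by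
  obtain ⟨g, rfl⟩ := isConj_iff.1 h
  have key : ∀ a : G, a ∈ centralizer ({x} : Set G) ↔
      g * a * g⁻¹ ∈ centralizer ({g * x * g⁻¹} : Set G) := fun a => by
    rw [mem_centralizer_singleton_iff, mem_centralizer_singleton_iff, conj_mul, conj_mul]
    exact ⟨fun h => by rw [h], fun h => mul_left_cancel (mul_right_cancel h)⟩
  exact (Nat.card_congr
    ((MulAut.conj g).toEquiv.subtypeEquiv key : centralizer ({x} : Set G) ≃ _)).symm

theorem card_inf_conj (g w x : G) :
    Nat.card ↥(centralizer ({g * w * g⁻¹} : Set G) ⊓ centralizer ({g * x * g⁻¹} : Set G)) =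
      Nat.card ↥(centralizer ({w} : Set G) ⊓ centralizer ({x} : Set G)) := by
  have key : ∀ a : G, a ∈ centralizer ({w} : Set G) ⊓ centralizer ({x} : Set G) ↔
      g * a * g⁻¹ ∈ centralizer ({g * w * g⁻¹} : Set G) ⊓ centralizer ({g * x * g⁻¹} : Set G) :=
    fun a => by
    simp only [mem_inf, mem_centralizer_singleton_iff, conj_mul]
    exact ⟨fun h => by rw [h.1, h.2]; exact ⟨rfl, rfl⟩,
      fun h => ⟨mul_left_cancel (mul_right_cancel h.1), mul_left_cancel (mul_right_cancel h.2)⟩⟩
  exact (Nat.card_congr ((MulAut.conj g).toEquiv.subtypeEquiv key :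
    ↥(centralizer ({w} : Set G) ⊓ centralizer ({x} : Set G)) ≃ _)).symm

/-- Elements of the same prime order generate conjugate Sylow subgroups. -/
theorem card_centralizer_prime {p : ℕ} [Fact p.Prime] (hP : ∀ P : Sylow p G, Nat.card (P : Subgroup G) = p)
    {x y : G} (hx : orderOf x = p) (hy : orderOf y = p) :
    Nat.card (centralizer ({y} : Set G)) = Nat.card (centralizer ({x} : Set G)) := by
  obtain ⟨P, hPx⟩ := Cfsg.Lib.Small.exists_sylow_eq_zpowers hP hx
  obtain ⟨Q, hQy⟩ := Cfsg.Lib.Small.exists_sylow_eq_zpowers hP hy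
  obtain ⟨g, hg⟩ := MulAction.exists_smul_eq G Q P
  have hm : g * y * g⁻¹ ∈ (P : Subgroup G) := by
    rw [← hg, Sylow.coe_subgroup_smul, mem_smul_pointwise_iff_exists]
    exact ⟨y, hQy ▸ mem_zpowers y, rfl⟩
  have hz : zpowers (g * y * g⁻¹) = zpowers x := by
    rw [← hPx]
    refine Cfsg.Lib.Small.zpowers_eq_of_prime_card (hP P) hm fun e => ?_
    rw [conj_eq_one_iff.1 e, orderOf_one] at hy
    exact (Fact.out : p.Prime).ne_one hy.symm
  rw [← Cfsg.Lib.Small.centralizer_zpowers x, ← hz, Cfsg.Lib.Small.centralizer_zpowers,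
    card_centralizer_conj (isConj_iff.2 ⟨g, rfl⟩)]

/-- A bound for the 2-part of a centraliser. -/
theorem not_two_pow_dvd {x : G} {k : ℕ} (hk : 0 < k)
    (h : ∀ w : G, orderOf w = 2 → x * w = w * x →
      ¬ 2 ^ k ∣ Nat.card ↥(centralizer ({w} : Set G) ⊓ centralizer ({x} : Set G))) :
    ¬ 2 ^ k ∣ Nat.card (centralizer ({x} : Set G)) := by
  haveI : Fact (Nat.Prime 2) := ⟨Nat.prime_two⟩
  intro hd
  obtain ⟨Q, hQ⟩ := Sylow.exists_subgroup_card_pow_prime 2 hd
  haveI : Nontrivial Q := Finite.one_lt_card_iff_nontrivial.1 (by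
    rw [hQ]; exact Nat.one_lt_two_pow hk.ne')
  have hQp : IsPGroup 2 Q := IsPGroup.of_card hQ
  haveI := hQp.center_nontrivial
  obtain ⟨⟨⟨⟨z, hzx⟩, hzQ⟩, hzc⟩, hz2⟩ := exists_prime_orderOf_dvd_card' (G := center Q) 2 (by
    obtain ⟨j, hj⟩ := IsPGroup.iff_card.1 (hQp.to_subgroup (center Q))
    rw [hj]
    refine dvd_pow_self 2 fun e => ?_
    rw [e, pow_zero] at hj
    exact absurd hj (Finite.one_lt_card (α := center Q)).ne')
  simp only [orderOf_mk] at hz2
  refine h z hz2 (mem_centralizer_singleton_iff.1 hzx).symm ?_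
  rw [← hQ, ← Subgroup.card_map_of_injective (K := Q) (Subgroup.subtype_injective _)]
  refine card_dvd_of_le ?_
  rintro _ ⟨q, hq, rfl⟩
  refine mem_inf.2 ⟨mem_centralizer_singleton_iff.2 ?_, q.2⟩
  exact congrArg (fun a => ((a : centralizer ({x} : Set G)) : G))
    (congrArg Subtype.val (mem_center_iff.1 hzc ⟨q, hq⟩))

theorem card_normalizer_split (H : Subgroup G) :
    Nat.card (normalizer (H : Set G)) = (centralizer (H : Set G)).relIndex (normalizer (H : Set G)) *
      Nat.card (centralizer (H : Set G)) := by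
  have h := ((centralizer (H : Set G)).subgroupOf (normalizer (H : Set G))).index_mul_card
  rw [Nat.card_congr (subgroupOfEquivOfLe (centralizer_le_normalizer _)).toEquiv] at h
  exact h.symm

theorem sylow_count {p : ℕ} [Fact p.Prime] (P : Sylow p G) :
    Nat.card (Sylow p G) * ((centralizer ((P : Subgroup G) : Set G)).relIndex
      (normalizer ((P : Subgroup G) : Set G)) * Nat.card (centralizer ((P : Subgroup G) : Set G))) =
      Nat.card G := by
  rw [← card_normalizer_split]
  exact Cfsg.Lib.Small.card_normalizer_mul P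

namespace Facts

variable [IsSimpleGroup G] {S : Setup G} (F : Facts S)

include F in
theorem fused : S.Fused := S.fused F.na
include F

theorem classes {x : G} (hx : orderOf x = 2) : IsConj S.t x ∨ IsConj S.b x :=
  S.classes F.fused (φ := true) ⟨fun _ => F.isConj_c, fun _ => rfl⟩ hx

theorem not_isCyclic : ¬ IsCyclic G := Cfsg.Lib.Small.not_isCyclic_of_card (by
  rw [F.card]; norm_num)

/-- The elements of odd order centralised by an involution. -/
theorem inf_cases {x w : G} (hx : Odd (orderOf x)) (hx1 : x ≠ 1) (hw : orderOf w = 2)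
    (hxw : x * w = w * x) :
    (IsConj (S.f 6) x ∧ IsConj S.t w ∧
      Nat.card ↥(centralizer ({w} : Set G) ⊓ centralizer ({x} : Set G)) = 6) ∨
    ∃ p : Equiv.Perm (Fin 5), orderOf p = orderOf x ∧ IsConj (F.cb.ι p) x ∧
      Nat.card ↥(centralizer ({w} : Set G) ⊓ centralizer ({x} : Set G)) =
        2 * (Finset.univ.filter fun q => q * p = p * q).card := by
  rcases F.classes hw with h | h
  · left
    obtain ⟨g, hg⟩ := isConj_iff.1 h.symm
    obtain ⟨i, hi⟩ := (S.mem_iff (g * x * g⁻¹)).1 (by rw [← hg, conj_mul, conj_mul, hxw])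
    have hord : orderOf (S.f i) = orderOf x := by
      rw [hi]; exact MulEquiv.orderOf_eq (MulAut.conj g) x
    rw [S.orderOf_f_cls] at hord
    have h7 : cCls i = 7 := (odd_cls i (by rw [hord]; exact Nat.odd_iff.1 hx)).resolve_left fun e => by
      rw [e] at hord
      exact hx1 (orderOf_eq_one_iff.1 hord.symm)
    refine ⟨(S.isConj_of_cls (cls_of_rep.2.2.2.2.1.trans h7.symm)).trans
      (isConj_iff.2 ⟨g, hi.symm⟩).symm, h, ?_⟩
    rw [← card_inf_conj g w x, hg, ← hi, S.card_centralizer_inf, seven_facts.1 i h7]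
  · right
    obtain ⟨g, hg⟩ := isConj_iff.1 h.symm
    obtain ⟨p, hp⟩ := F.cb.cover (g * x * g⁻¹) (by rw [← hg, conj_mul, conj_mul, hxw])
    have hord : orderOf (g * x * g⁻¹) = orderOf x := MulEquiv.orderOf_eq (MulAut.conj g) x
    have hp' : g * x * g⁻¹ = F.cb.ι p := by
      refine hp.resolve_right fun e => F.cb.b_notMem ((p ^ orderOf x)⁻¹) ?_
      obtain ⟨k, hk⟩ := hx
      have h1 : (g * x * g⁻¹) ^ orderOf x = 1 := by rw [← hord, pow_orderOf_eq_one]
      rw [e, F.cb.bmul_pow, hk, pow_succ, pow_mul, sq, S.b_sq, one_pow, one_mul, ← hk] at h1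
      rw [map_inv]
      exact (eq_inv_of_mul_eq_one_left h1).symm
    refine ⟨p, ?_, (isConj_iff.2 ⟨g, hp'⟩).symm, ?_⟩
    · rw [← orderOf_injective F.cb.ι F.cb.inj p, ← hp', hord]
    · rw [← card_inf_conj g w x, hg, hp', F.cb.card_inf]

theorem count_of_five {p : Equiv.Perm (Fin 5)} {q : ℕ} (hp : orderOf p = q) :
    (q = 5 → (Finset.univ.filter fun c => c * p = p * c).card = 5) ∧
    (q = 3 → (Finset.univ.filter fun c => c * p = p * c).card = 6) ∧
    (q = 11 → False) := by
  refine ⟨fun e => five_count p (by have := pow_orderOf_eq_one p; rwa [hp, e] at this) fun h => ?_,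
    fun e => three_count p (by have := pow_orderOf_eq_one p; rwa [hp, e] at this) fun h => ?_, fun e => ?_⟩
  · rw [h, orderOf_one] at hp; omega
  · rw [h, orderOf_one] at hp; omega
  · have := orderOf_dvd_card (x := p)
    rw [hp, e, Fintype.card_perm, Fintype.card_fin] at this
    revert this
    decide +kernel

theorem sylow_five_card (P : Sylow 5 G) : Nat.card (P : Subgroup G) = 5 :=
  haveI : Fact (Nat.Prime 5) := ⟨by norm_num⟩
  (Cfsg.Lib.Small.card_sylow 1 19008 (by rw [F.card]; norm_num) (by norm_num) P).trans (pow_one 5)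

theorem sylow_eleven_card (P : Sylow 11 G) : Nat.card (P : Subgroup G) = 11 :=
  haveI : Fact (Nat.Prime 11) := ⟨by norm_num⟩
  (Cfsg.Lib.Small.card_sylow 1 8640 (by rw [F.card]; norm_num) (by norm_num) P).trans (pow_one 11)

/-- No involution centralises an element of order 11. -/
theorem odd_centralizer_eleven {y : G} (hy : orderOf y = 11) :
    ¬ 2 ^ 1 ∣ Nat.card (centralizer ({y} : Set G)) := by
  refine not_two_pow_dvd one_pos fun w hw hyw => False.elim ?_
  rcases F.inf_cases (by rw [hy]; decide) (fun e => by rw [e, orderOf_one] at hy; omega) hw hyw with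
    ⟨h, -⟩ | ⟨p, hp, -⟩
  · have := orderOf_eq_of_isConj h
    rw [hy, S.orderOf_f_cls, cls_of_rep.2.2.2.2.1] at this
    exact absurd this (by decide)
  · exact (F.count_of_five (hp.trans hy)).2.2 rfl

/-- The centraliser of an element of order 5 and the number of Sylow 5-subgroups. -/
theorem five_facts : Nat.card (Sylow 5 G) = 2376 ∧
    ∀ x : G, orderOf x = 5 → Nat.card (centralizer ({x} : Set G)) = 10 := by
  haveI : Fact (Nat.Prime 5) := ⟨by norm_num⟩
  haveI : Fact (Nat.Prime 11) := ⟨by norm_num⟩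
  obtain ⟨z, c, hz5, hz1, hcz, hz4⟩ := five_normal
  set x := F.cb.ι z with hxdef
  have hx : orderOf x = 5 := by
    rw [hxdef, orderOf_injective F.cb.ι F.cb.inj]; exact orderOf_eq_prime hz5 hz1
  obtain ⟨P, hP⟩ := Cfsg.Lib.Small.exists_sylow_eq_zpowers F.sylow_five_card hx
  have hCP : centralizer ((P : Subgroup G) : Set G) = centralizer ({x} : Set G) := by
    rw [hP, Cfsg.Lib.Small.centralizer_zpowers]
  set e := (centralizer ((P : Subgroup G) : Set G)).relIndex (normalizer ((P : Subgroup G) : Set G))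
    with he
  have hed : e ∣ 4 := Cfsg.Lib.Small.relIndex_centralizer_dvd (P : Subgroup G) (F.sylow_five_card P)
  have he1 : e ≠ 1 := fun h => Cfsg.Lib.Small.not_normalizer_le_centralizer F.not_isCyclic P
    (fun hb => by
      have := F.sylow_five_card P
      rw [hb, card_bot] at this
      omega) (relIndex_eq_one.1 h)
  have hg : ∀ v ∈ (P : Subgroup G), F.cb.ι c * v * (F.cb.ι c)⁻¹ ∈ (P : Subgroup G) := by
    intro v hv
    rw [hP] at hv ⊢
    obtain ⟨i, rfl⟩ := mem_zpowers_iff.1 hv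
    rw [← conj_zpow, hxdef, ← map_inv, ← map_mul, ← map_mul, hcz, map_pow]
    exact zpow_mem (pow_mem (mem_zpowers _) 2) i
  have hgN : F.cb.ι c ∈ normalizer ((P : Subgroup G) : Set G) :=
    mem_normalizer_fintype hg
  have he2 : e ≠ 2 := by
    intro h
    have h2 := Subgroup.sq_mem_of_index_two (show ((centralizer ((P : Subgroup G) : Set G)).subgroupOf
      (normalizer ((P : Subgroup G) : Set G))).index = 2 from h) ⟨_, hgN⟩
    rw [mem_subgroupOf, hCP, mem_centralizer_singleton_iff] at h2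
    have h3 : F.cb.ι ((c * c) * z * (c * c)⁻¹) = F.cb.ι z := by
      rw [map_mul, map_mul, map_inv, map_mul]
      rw [coe_pow, sq] at h2
      change F.cb.ι c * F.cb.ι c * x * _ = x
      rw [h2, mul_inv_cancel_right]
    refine hz4 ?_
    calc z ^ 4 = (z ^ 2) ^ 2 := by rw [← pow_mul]
      _ = (c * z * c⁻¹) ^ 2 := by rw [hcz]
      _ = c * z ^ 2 * c⁻¹ := conj_pow
      _ = c * (c * z * c⁻¹) * c⁻¹ := by rw [hcz]
      _ = c * c * z * (c * c)⁻¹ := by group
      _ = z := F.cb.inj h3
  have he4 : e = 4 := by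
    obtain ⟨j, hj, hje⟩ := (Nat.dvd_prime_pow Nat.prime_two).1 (show e ∣ 2 ^ 2 from hed)
    interval_cases j <;> norm_num at hje <;> omega
  have h10 : 10 ∣ Nat.card (centralizer ({x} : Set G)) := by
    have h := card_dvd_of_le (inf_le_right : centralizer ({S.b} : Set G) ⊓ centralizer ({x} : Set G) ≤ _)
    rwa [hxdef, F.cb.card_inf, five_count z hz5 hz1] at h
  have h4 : ¬ 2 ^ 2 ∣ Nat.card (centralizer ({x} : Set G)) := by
    refine not_two_pow_dvd two_pos fun w hw hxw => ?_
    rcases F.inf_cases (by rw [hx]; decide) (fun e => by rw [e, orderOf_one] at hx; omega) hw hxw with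
      ⟨h, -⟩ | ⟨p, hp, -, hc⟩
    · have := orderOf_eq_of_isConj h
      rw [hx, S.orderOf_f_cls, cls_of_rep.2.2.2.2.1] at this
      exact absurd this (by decide)
    · rw [hc, (F.count_of_five (hp.trans hx)).1 rfl]; norm_num
  obtain ⟨m, hm⟩ := h10
  have hmd : m ∣ 9504 := by
    have h := card_subgroup_dvd_card (centralizer ({x} : Set G))
    rw [hm, F.card] at h
    exact Nat.dvd_of_mul_dvd_mul_left (by norm_num : 0 < 10) h
  have hmodd : Odd m := Nat.not_even_iff_odd.1 fun ⟨k, hk⟩ => h4 ⟨5 * k, by rw [hm, hk]; ring⟩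
  have hm297 : m ∣ 297 := (Nat.Coprime.pow_right 5 (Nat.coprime_two_right.2 hmodd)).dvd_of_dvd_mul_left
    (show m ∣ 2 ^ 5 * 297 from hmd)
  have hcount := sylow_count P
  rw [← he, he4, hCP, hm, F.card] at hcount
  have hmod : Nat.card (Sylow 5 G) % 5 = 1 := card_sylow_modEq_one 5 G
  have hcases : m = 1 ∨ m = 11 := by
    have hm' : m ∈ Nat.divisors 297 := Nat.mem_divisors.2 ⟨hm297, by norm_num⟩
    rw [show Nat.divisors 297 = {1, 3, 9, 11, 27, 33, 99, 297} by decide +kernel] at hm'
    simp only [Finset.mem_insert, Finset.mem_singleton] at hm'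
    rcases hm' with h | h | h | h | h | h | h | h <;> rw [h] at hcount <;> omega
  rcases hcases with rfl | rfl
  · refine ⟨by omega, fun y hy => ?_⟩
    rw [card_centralizer_prime F.sylow_five_card hx hy, hm]
  exfalso
  -- a normal subgroup of order 11 of the centraliser
  obtain ⟨⟨y, hyC⟩, hy⟩ := exists_prime_orderOf_dvd_card' (G := centralizer ({x} : Set G)) 11
    (by rw [hm]; norm_num)
  rw [orderOf_mk] at hy
  have huniq : ∀ u : G, u ∈ centralizer ({x} : Set G) → orderOf u = 11 → u ∈ zpowers y := by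
    intro u hu hu11
    have hk : Nat.card (centralizer ({x} : Set G)) = 11 ^ 1 * 10 := by rw [hm]; norm_num
    obtain ⟨hd, hmo⟩ := Cfsg.Lib.Small.sylow_facts (p := 11) 1 10 hk (by norm_num)
    have h1 : Nat.card (Sylow 11 (centralizer ({x} : Set G))) = 1 := by
      have := Nat.le_of_dvd (by norm_num) hd
      omega
    have hPc : ∀ R : Sylow 11 (centralizer ({x} : Set G)), Nat.card (R : Subgroup (centralizer ({x} : Set G))) = 11 := fun R => by
      rw [Cfsg.Lib.Small.card_sylow 1 10 hk (by norm_num) R, pow_one]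
    obtain ⟨R₁, hR₁⟩ := Cfsg.Lib.Small.exists_sylow_eq_zpowers hPc (z := (⟨y, hyC⟩ : centralizer _))
      (by rw [orderOf_mk, hy])
    obtain ⟨R₂, hR₂⟩ := Cfsg.Lib.Small.exists_sylow_eq_zpowers hPc (z := (⟨u, hu⟩ : centralizer _))
      (by rw [orderOf_mk, hu11])
    haveI := (Nat.card_eq_one_iff_unique.1 h1).1
    obtain rfl : R₁ = R₂ := Subsingleton.elim _ _
    have hmem : (⟨u, hu⟩ : centralizer ({x} : Set G)) ∈ zpowers ⟨y, hyC⟩ := by
      rw [← hR₁, hR₂]; exact mem_zpowers _
    obtain ⟨i, hi⟩ := mem_zpowers_iff.1 hmem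
    exact mem_zpowers_iff.2 ⟨i, congrArg Subtype.val hi⟩
  obtain ⟨Q, hQ⟩ := Cfsg.Lib.Small.exists_sylow_eq_zpowers F.sylow_eleven_card hy
  have hNN : normalizer ((P : Subgroup G) : Set G) ≤ normalizer ((Q : Subgroup G) : Set G) := by
    intro g hg
    refine mem_normalizer_fintype fun v hv => ?_
    rw [hQ] at hv ⊢
    obtain ⟨i, rfl⟩ := mem_zpowers_iff.1 hv
    rw [← conj_zpow]
    refine zpow_mem (huniq _ ?_ ((MulEquiv.orderOf_eq (MulAut.conj g) y).trans hy)) i
    rw [← hCP] at hyC ⊢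
    intro v hv
    have hv' : g⁻¹ * v * g ∈ (P : Subgroup G) := (mem_normalizer_iff''.1 hg v).1 hv
    have h := hyC (g⁻¹ * v * g) hv'
    calc v * (g * y * g⁻¹) = g * (g⁻¹ * v * g * y) * g⁻¹ := by group
      _ = g * (y * (g⁻¹ * v * g)) * g⁻¹ := by rw [h]
      _ = g * y * g⁻¹ * v := by group
  have hN := card_dvd_of_le hNN
  rw [card_normalizer_split, ← he, he4, hCP, hm, card_normalizer_split] at hN
  have hoddC : Odd (Nat.card (centralizer ((Q : Subgroup G) : Set G))) := by
    rw [hQ, Cfsg.Lib.Small.centralizer_zpowers]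
    exact Nat.not_even_iff_odd.1 fun h => F.odd_centralizer_eleven hy (even_iff_two_dvd.1 h)
  have h8 : 2 ^ 3 ∣ (centralizer ((Q : Subgroup G) : Set G)).relIndex
      (normalizer ((Q : Subgroup G) : Set G)) :=
    (Nat.Coprime.pow_left 3 (Nat.coprime_two_left.2 hoddC)).dvd_of_dvd_mul_right
      ((show 2 ^ 3 ∣ 4 * (10 * 11) by norm_num).trans hN)
  have := h8.trans (Cfsg.Lib.Small.relIndex_centralizer_dvd (Q : Subgroup G) (F.sylow_eleven_card Q))
  norm_num at this

/-- The centraliser of an element of order 11 and the number of Sylow 11-subgroups. -/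
theorem eleven_facts : Nat.card (Sylow 11 G) = 1728 ∧
    ∀ y : G, orderOf y = 11 → Nat.card (centralizer ({y} : Set G)) = 11 := by
  haveI : Fact (Nat.Prime 5) := ⟨by norm_num⟩
  haveI : Fact (Nat.Prime 11) := ⟨by norm_num⟩
  obtain ⟨y, hy⟩ := exists_prime_orderOf_dvd_card' (G := G) 11 (by rw [F.card]; norm_num)
  obtain ⟨Q, hQ⟩ := Cfsg.Lib.Small.exists_sylow_eq_zpowers F.sylow_eleven_card hy
  have hCQ : centralizer ((Q : Subgroup G) : Set G) = centralizer ({y} : Set G) := by
    rw [hQ, Cfsg.Lib.Small.centralizer_zpowers]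
  set C := centralizer ({y} : Set G) with hC
  have h11 : 11 ∣ Nat.card C := hy ▸ orderOf_dvd_natCard C (mem_centralizer_singleton_iff.2 rfl)
  have hodd : Odd (Nat.card C) :=
    Nat.not_even_iff_odd.1 fun h => F.odd_centralizer_eleven hy (even_iff_two_dvd.1 h)
  have h5 : ¬ 5 ∣ Nat.card C := by
    intro h
    obtain ⟨⟨z, hzC⟩, hz⟩ := exists_prime_orderOf_dvd_card' (G := C) 5 h
    rw [orderOf_mk] at hz
    have hyz : y ∈ centralizer ({z} : Set G) :=
      mem_centralizer_singleton_iff.2 (mem_centralizer_singleton_iff.1 hzC).symm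
    have := orderOf_dvd_natCard _ hyz
    rw [hy, F.five_facts.2 z hz] at this
    norm_num at this
  obtain ⟨m, hm⟩ := h11
  have hmd : m ∣ 8640 := by
    have h := card_subgroup_dvd_card C
    rw [hm, F.card] at h
    exact Nat.dvd_of_mul_dvd_mul_left (by norm_num : 0 < 11) (show 11 * m ∣ 11 * 8640 from h)
  have hm27 : m ∣ 27 := by
    have hmo : Odd m := Odd.of_dvd_nat hodd ⟨11, by rw [hm, mul_comm]⟩
    have hm5 : Nat.Coprime m 5 := ((Nat.Prime.coprime_iff_not_dvd (by norm_num)).2
      fun h => h5 (hm ▸ Dvd.dvd.mul_left h 11)).symm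
    exact hm5.dvd_of_dvd_mul_left ((Nat.Coprime.pow_right 6 (Nat.coprime_two_right.2 hmo)).dvd_of_dvd_mul_left
      (show m ∣ 2 ^ 6 * (5 * 27) from hmd))
  set e := (centralizer ((Q : Subgroup G) : Set G)).relIndex (normalizer ((Q : Subgroup G) : Set G))
    with he
  have hed : e ∣ 10 := Cfsg.Lib.Small.relIndex_centralizer_dvd (Q : Subgroup G) (F.sylow_eleven_card Q)
  have he1 : e ≠ 1 := fun h => Cfsg.Lib.Small.not_normalizer_le_centralizer F.not_isCyclic Q
    (fun hb => by
      have := F.sylow_eleven_card Q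
      rw [hb, card_bot] at this
      omega) (relIndex_eq_one.1 h)
  have hcount := sylow_count Q
  rw [← he, hCQ, hm, F.card] at hcount
  have hmod : Nat.card (Sylow 11 G) % 11 = 1 := card_sylow_modEq_one 11 G
  have hm' : m ∈ Nat.divisors 27 := Nat.mem_divisors.2 ⟨hm27, by norm_num⟩
  have he' : e ∈ Nat.divisors 10 := Nat.mem_divisors.2 ⟨hed, by norm_num⟩
  rw [show Nat.divisors 27 = {1, 3, 9, 27} by decide +kernel] at hm'
  rw [show Nat.divisors 10 = {1, 2, 5, 10} by decide +kernel] at he'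
  simp only [Finset.mem_insert, Finset.mem_singleton] at hm' he'
  have hfin : m = 1 ∧ Nat.card (Sylow 11 G) = 1728 := by
    rcases hm' with h | h | h | h <;> rcases he' with h' | h' | h' | h' <;>
      rw [h, h'] at hcount <;> omega
  refine ⟨hfin.2, fun v hv => ?_⟩
  rw [card_centralizer_prime F.sylow_eleven_card hy hv, ← hC, hm, hfin.1]

/-- The 2-parts of the centralisers of the two kinds of elements of order 3. -/
theorem not_four_dvd_six : ¬ 4 ∣ Nat.card (centralizer ({S.f 6} : Set G)) := by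
  haveI : Fact (Nat.Prime 2) := ⟨Nat.prime_two⟩
  intro hd
  set C := centralizer ({S.f 6} : Set G) with hC
  have htC : S.t ∈ C := mem_centralizer_singleton_iff.2 (S.comm_t 6).symm
  obtain ⟨Q, hQ⟩ := (IsPGroup.of_card (p := 2) (n := 1) (by
    rw [Nat.card_zpowers, orderOf_mk, S.orderOf_t, pow_one]) :
    IsPGroup 2 (zpowers (⟨S.t, htC⟩ : C))).exists_le_sylow
  have hQ4 : 2 ^ 2 ∣ Nat.card (Q : Subgroup C) := Q.pow_dvd_card_of_pow_dvd_card hd
  haveI : Nontrivial Q := Finite.one_lt_card_iff_nontrivial.1 (by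
    have := Nat.le_of_dvd Nat.card_pos hQ4
    exact lt_of_lt_of_le (by norm_num) this)
  haveI := Q.isPGroup'.center_nontrivial
  obtain ⟨⟨⟨⟨z, hzx⟩, hzQ⟩, hzc⟩, hz2⟩ := exists_prime_orderOf_dvd_card' (G := center Q) 2 (by
    obtain ⟨j, hj⟩ := IsPGroup.iff_card.1 (Q.isPGroup'.to_subgroup (center Q))
    rw [hj]
    refine dvd_pow_self 2 fun e => ?_
    rw [e, pow_zero] at hj
    exact absurd hj (Finite.one_lt_card (α := center Q)).ne')
  simp only [orderOf_mk] at hz2
  have hcz : ∀ v : C, v ∈ (Q : Subgroup C) → (v : G) * z = z * v := fun v hv =>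
    congrArg (fun a => ((a : C) : G)) (congrArg Subtype.val (mem_center_iff.1 hzc ⟨v, hv⟩))
  have hzt : z * S.t = S.t * z := (hcz ⟨S.t, htC⟩ (hQ (mem_zpowers _))).symm
  obtain ⟨i, rfl⟩ := (S.mem_iff z).1 hzt
  rcases seven_facts.2 i (S.cCm_of_comm (mem_centralizer_singleton_iff.1 hzx))
    (S.sq_of_orderOf hz2).1 with e | e
  · exact (S.sq_of_orderOf hz2).2 e
  subst e
  have hle : (Q : Subgroup C).map C.subtype ≤ centralizer ({S.t} : Set G) ⊓ C := by
    rintro _ ⟨v, hv, rfl⟩
    refine mem_inf.2 ⟨mem_centralizer_singleton_iff.2 ?_, v.2⟩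
    have := hcz v hv
    rwa [S.f_t] at this
  have h := hQ4.trans (Subgroup.card_map_of_injective (K := (Q : Subgroup C)) C.subtype_injective ▸
    card_dvd_of_le hle)
  rw [hC, S.card_centralizer_inf, seven_facts.1 6 cls_of_rep.2.2.2.2.1] at h
  norm_num at h

/-- The element `f 6` is not conjugate to one in the centraliser of `b`. -/
theorem not_isConj_six {z : Equiv.Perm (Fin 5)} (h3 : z ^ 3 = 1) (h1 : z ≠ 1) :
    ¬ IsConj (S.f 6) (F.cb.ι z) := by
  intro h
  refine F.not_four_dvd_six ?_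
  rw [← card_centralizer_conj h]
  have hd := card_dvd_of_le
    (inf_le_right : centralizer ({S.b} : Set G) ⊓ centralizer ({F.cb.ι z} : Set G) ≤ _)
  rw [F.cb.card_inf, three_count z h3 h1] at hd
  exact (show 4 ∣ 2 * 6 by norm_num).trans hd

theorem not_eight_dvd {z : Equiv.Perm (Fin 5)} (h3 : z ^ 3 = 1) (h1 : z ≠ 1) :
    ¬ 2 ^ 3 ∣ Nat.card (centralizer ({F.cb.ι z} : Set G)) := by
  have hord : orderOf (F.cb.ι z) = 3 := by
    rw [orderOf_injective F.cb.ι F.cb.inj]
    haveI : Fact (Nat.Prime 3) := ⟨Nat.prime_three⟩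
    exact orderOf_eq_prime h3 h1
  refine not_two_pow_dvd three_pos fun w hw hxw => ?_
  rcases F.inf_cases (by rw [hord]; decide) (fun e => by rw [e, orderOf_one] at hord; omega) hw hxw with
    ⟨h, -⟩ | ⟨p, hp, -, hc⟩
  · exact absurd h (F.not_isConj_six h3 h1)
  · rw [hc, (F.count_of_five (hp.trans hord)).2.1 rfl]; norm_num

end Facts

end Cfsg.Lib.MTwelveRecog
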