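import Cfsg.Agent.Lib.MTwelveRecog.Count

/-!
The Sylow 3-subgroup: order 27, centre of order 3, two maximal subgroups made of conjugates of `f 6`.
-/

set_option autoImplicit false
set_option linter.style.haveILetI false
set_option linter.unusedSectionVars false
set_option maxRecDepth 100000

namespace Cfsg.Lib.MTwelveRecog

open Cfsg Subgroup

universe u

theorem seven_inv : ∀ i : Fin 192, cCls i = 7 → cCls (cInv i) = 7 := by decide +kernel

theorem three_inv : ∀ p : Equiv.Perm (Fin 5), p ^ 3 = 1 → p ≠ 1 → p⁻¹ ^ 3 = 1 ∧ p⁻¹ ≠ 1 := by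
  decide +kernel

variable {G : Type u} [Group G] [Finite G]

theorem card_dvd_three {K T : Subgroup G} (h : K ≤ T) (hT : Nat.card T = 27) :
    Nat.card K = 1 ∨ Nat.card K = 3 ∨ Nat.card K = 9 ∨ Nat.card K = 27 := by
  have hd : Nat.card K ∈ Nat.divisors 27 := Nat.mem_divisors.2 ⟨hT ▸ card_dvd_of_le h, by norm_num⟩
  rw [show Nat.divisors 27 = {1, 3, 9, 27} by decide +kernel] at hd
  simpa using hd

theorem nine_le {K T : Subgroup G} (h : K ≤ T) (hT : Nat.card T = 27) {u v : G} (hu : u ∈ K)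
    (hu3 : orderOf u = 3) (hv : v ∈ K) (hvu : v ∉ zpowers u) : 9 ∣ Nat.card K := by
  have h3 : 3 ∣ Nat.card K := hu3 ▸ Subgroup.orderOf_dvd_natCard K hu
  rcases card_dvd_three h hT with e | e | e | e
  all_goals try omega
  exfalso
  refine hvu ?_
  rw [eq_of_le_of_card_ge (zpowers_le.2 hu) (by rw [e, Nat.card_zpowers, hu3])]
  exact hv

theorem double_count (x y : G) :
    Nat.card {a : G // IsConj x a} * Nat.card {b : G // IsConj y b ∧ x * b = b * x} =
      Nat.card {b : G // IsConj y b} * Nat.card {a : G // IsConj x a ∧ y * a = a * y} := by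
  classical
  have := Fintype.ofFinite G
  have key : ∀ (x y a : G), IsConj x a →
      Nat.card {b : G // IsConj y b ∧ a * b = b * a} = Nat.card {b : G // IsConj y b ∧ x * b = b * x} := by
    intro x y a ha
    obtain ⟨g, rfl⟩ := isConj_iff.1 ha
    refine (Nat.card_congr ((MulAut.conj g).toEquiv.subtypeEquiv fun b => ?_)).symm
    show _ ↔ IsConj y (g * b * g⁻¹) ∧ g * x * g⁻¹ * (g * b * g⁻¹) = g * b * g⁻¹ * (g * x * g⁻¹)
    rw [conj_mul, conj_mul]
    exact ⟨fun h => ⟨h.1.trans (isConj_iff.2 ⟨g, rfl⟩), by rw [h.2]⟩,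
      fun h => ⟨h.1.trans (isConj_iff.2 ⟨g, rfl⟩).symm, mul_left_cancel (mul_right_cancel h.2)⟩⟩
  have e : (Σ a : {a : G // IsConj x a}, {b : G // IsConj y b ∧ a.1 * b = b * a.1}) ≃
      Σ b : {b : G // IsConj y b}, {a : G // IsConj x a ∧ b.1 * a = a * b.1} :=
    { toFun := fun s => ⟨⟨s.2.1, s.2.2.1⟩, ⟨s.1.1, s.1.2, s.2.2.2.symm⟩⟩
      invFun := fun s => ⟨⟨s.2.1, s.2.2.1⟩, ⟨s.1.1, s.1.2, s.2.2.2.symm⟩⟩
      left_inv := fun _ => rfl
      right_inv := fun _ => rfl }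
  have h := Nat.card_congr e
  rw [Nat.card_sigma, Nat.card_sigma, Finset.sum_congr rfl (fun a _ => key x y a.1 a.2),
    Finset.sum_congr rfl (fun (b : {b : G // IsConj y b}) _ => key y x b.1 b.2), Finset.sum_const, Finset.sum_const,
    Finset.card_univ, Finset.card_univ, ← Nat.card_eq_fintype_card, ← Nat.card_eq_fintype_card] at h
  simpa using h

namespace Facts

variable [IsSimpleGroup G] {S : Setup G} (F : Facts S)
include F

theorem orderOf_six : orderOf (S.f 6) = 3 := by rw [S.orderOf_f_cls, cls_of_rep.2.2.2.2.1]; rfl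

theorem six_inv : IsConj (S.f 6) (S.f 6)⁻¹ := by
  rw [← S.finv]
  exact S.isConj_of_cls (cls_of_rep.2.2.2.2.1.trans (seven_inv 6 cls_of_rep.2.2.2.2.1).symm)

theorem isConj_inv {z : Equiv.Perm (Fin 5)} (hz3 : z ^ 3 = 1) (hz1 : z ≠ 1) {g : G}
    (h : IsConj (F.cb.ι z) g) : IsConj (F.cb.ι z) g⁻¹ := by
  obtain ⟨c, hc⟩ := three_conj z z⁻¹ hz3 hz1 (three_inv z hz3 hz1).1 (three_inv z hz3 hz1).2
  obtain ⟨g', rfl⟩ := isConj_iff.1 h
  rw [conj_inv, ← map_inv]
  exact (F.cb.isConj_ι hc).1.trans (isConj_iff.2 ⟨g', rfl⟩)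

open scoped Classical in
/-- The three cases for an element of order 3. -/
theorem order_three {z : Equiv.Perm (Fin 5)} (hz3 : z ^ 3 = 1) (hz1 : z ≠ 1) {g : G}
    (hg : Odd (orderOf g)) (h1 : g ≠ 1) (h5 : orderOf g ≠ 5) (h11 : orderOf g ≠ 11) :
    IsConj (S.f 6) g ∨ IsConj (F.cb.ι z) g := by
  letI := Fintype.ofFinite G
  rcases (F.odd_facts hz3 hz1).2.2.2.2.2.2 g (Nat.two_dvd_ne_zero.2 (Nat.odd_iff.1 hg)) with h | h | h | h | h
  exacts [absurd h h1, Or.inl h, Or.inr h, absurd h h5, absurd h h11]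

/-- The Sylow 3-subgroup in the centraliser of `f 6`. -/
theorem exists_T : ∃ T : Subgroup G, Nat.card T = 27 ∧ S.f 6 ∈ T ∧
    (∀ v ∈ T, S.f 6 * v = v * S.f 6) ∧
    (∀ v : G, S.f 6 * v = v * S.f 6 → orderOf v = 3 → v ∈ T) ∧
    ∀ P : Subgroup G, IsPGroup 3 P → ∃ h : G, ∀ v ∈ P, h * v * h⁻¹ ∈ T := by
  haveI : Fact (Nat.Prime 3) := ⟨Nat.prime_three⟩
  obtain ⟨z, hz3, hz1⟩ := three_ex
  letI := Fintype.ofFinite G
  have hC : Nat.card (centralizer ({S.f 6} : Set G)) = 54 := by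
    classical exact (F.odd_facts hz3 hz1).2.2.2.2.1
  set C := centralizer ({S.f 6} : Set G) with hCdef
  obtain ⟨T₀, hT₀⟩ := Sylow.exists_subgroup_card_pow_prime 3 (show 3 ^ 3 ∣ Nat.card C by rw [hC]; norm_num)
  have hidx : T₀.index = 2 := by
    have h := T₀.index_mul_card
    rw [hC, hT₀] at h
    omega
  have hmem3 : ∀ v : C, orderOf (v : G) = 3 → v ∈ T₀ := fun v hv => by
    have h4 : v = (v ^ 2) ^ 2 := by
      apply Subtype.ext
      rw [coe_pow, coe_pow, ← pow_mul, show 2 * 2 = 3 + 1 from rfl, pow_succ, ← hv, pow_orderOf_eq_one,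
        one_mul]
    rw [h4]
    exact Subgroup.sq_mem_of_index_two hidx _
  have hcT : Nat.card (T₀.map C.subtype) = 27 := by
    rw [Subgroup.card_map_of_injective C.subtype_injective, hT₀]; norm_num
  refine ⟨T₀.map C.subtype, hcT, ?_, ?_, fun v hv hv3 => ?_, ?_⟩
  · exact ⟨⟨S.f 6, mem_centralizer_singleton_iff.2 rfl⟩, hmem3 _ F.orderOf_six, rfl⟩
  · rintro _ ⟨v, -, rfl⟩
    exact (mem_centralizer_singleton_iff.1 v.2).symm
  · exact ⟨⟨v, mem_centralizer_singleton_iff.2 hv.symm⟩, hmem3 _ hv3, rfl⟩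
  · intro P hP
    obtain ⟨Q, hQ⟩ := hP.exists_le_sylow
    have hc : Nat.card (T₀.map C.subtype) = 3 ^ (Nat.card G).factorization 3 := by
      have h1 := Cfsg.Lib.Small.card_sylow 3 3520 (by rw [F.card]; norm_num) (by norm_num) Q
      rw [hcT, ← Q.card_eq_multiplicity, h1]
      norm_num
    obtain ⟨h, hh⟩ := MulAction.exists_smul_eq G Q (Sylow.ofCard _ hc : Sylow 3 G)
    refine ⟨h, fun v hv => ?_⟩
    have : h * v * h⁻¹ ∈ ((h • Q : Sylow 3 G) : Subgroup G) := by
      rw [Sylow.coe_subgroup_smul, mem_smul_pointwise_iff_exists]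
      exact ⟨v, hQ hv, rfl⟩
    rw [hh] at this
    exact this

/-- The structure of the Sylow 3-subgroup. -/
theorem three_lines {z : Equiv.Perm (Fin 5)} (hz3 : z ^ 3 = 1) (hz1 : z ≠ 1) :
    ∃ (T : Subgroup G) (g₁ g₂ : G), Nat.card T = 27 ∧ S.f 6 ∈ T ∧
      (∀ v ∈ T, S.f 6 * v = v * S.f 6) ∧
      (∀ P : Subgroup G, IsPGroup 3 P → ∃ h : G, ∀ v ∈ P, h * v * h⁻¹ ∈ T) ∧
      g₁ ∈ T ∧ g₂ ∈ T ∧ IsConj (S.f 6) g₁ ∧ IsConj (S.f 6) g₂ ∧ g₁ ∉ zpowers (S.f 6) ∧
      Nat.card ↥(T ⊓ centralizer ({g₁} : Set G)) = 9 ∧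
      Nat.card ↥(T ⊓ centralizer ({g₂} : Set G)) = 9 ∧
      (∀ v, v ∈ T ⊓ centralizer ({g₁} : Set G) → v ∈ T ⊓ centralizer ({g₂} : Set G) →
        v ∈ zpowers (S.f 6)) ∧
      ∀ v ∈ T, v ≠ 1 → (IsConj (S.f 6) v ↔
        v ∈ T ⊓ centralizer ({g₁} : Set G) ∨ v ∈ T ⊓ centralizer ({g₂} : Set G)) := by
  classical
  haveI : Fact (Nat.Prime 3) := ⟨Nat.prime_three⟩
  letI := Fintype.ofFinite G
  obtain ⟨T, hT, h6T, hTc, hC3, hconj⟩ := F.exists_T
  obtain ⟨hA, hB, -, -, -, hCz, -⟩ := F.odd_facts hz3 hz1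
  have hoz : orderOf (F.cb.ι z) = 3 := by
    rw [orderOf_injective F.cb.ι F.cb.inj]; exact orderOf_eq_prime hz3 hz1
  have h6 := F.orderOf_six
  have hexp : ∀ v ∈ T, v ≠ 1 → orderOf v = 3 ∧ (IsConj (S.f 6) v ∨ IsConj (F.cb.ι z) v) := by
    intro v hv hv1
    have hd : orderOf v ∣ 27 := hT ▸ Subgroup.orderOf_dvd_natCard T hv
    have hodd : Odd (orderOf v) := Odd.of_dvd_nat (by decide) hd
    have h5 : orderOf v ≠ 5 := fun e => by rw [e] at hd; norm_num at hd
    have h11 : orderOf v ≠ 11 := fun e => by rw [e] at hd; norm_num at hd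
    rcases F.order_three hz3 hz1 hodd hv1 h5 h11 with h | h
    · exact ⟨(orderOf_eq_of_isConj h).trans h6, Or.inl h⟩
    · exact ⟨(orderOf_eq_of_isConj h).trans hoz, Or.inr h⟩
  have hnot : ∀ {v}, IsConj (F.cb.ι z) v → ¬ IsConj (S.f 6) v := fun h h' =>
    F.not_isConj_six hz3 hz1 (h'.trans h.symm)
  obtain ⟨h₀, hh₀⟩ := hconj (zpowers (F.cb.ι z))
    (IsPGroup.of_card (n := 1) (by rw [Nat.card_zpowers, hoz, pow_one]))
  set y₀ := h₀ * F.cb.ι z * h₀⁻¹ with hy₀
  have hy₀T : y₀ ∈ T := hh₀ _ (mem_zpowers _)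
  have hy₀c : IsConj (F.cb.ι z) y₀ := isConj_iff.2 ⟨h₀, rfl⟩
  set Z := zpowers (S.f 6) with hZ
  have hZcard : Nat.card Z = 3 := by rw [hZ, Nat.card_zpowers, h6]
  have hZT : Z ≤ T := zpowers_le.2 h6T
  have hycentral : ∀ {v}, IsConj (F.cb.ι z) v → ¬ T ≤ centralizer ({v} : Set G) := by
    intro v hv hle
    have h := card_dvd_of_le hle
    rw [hT, card_centralizer_conj hv, hCz] at h
    norm_num at h
  -- the centre
  set Zc := T ⊓ centralizer (T : Set G) with hZc
  have hZZc : Z ≤ Zc := by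
    refine zpowers_le.2 (mem_inf.2 ⟨h6T, ?_⟩)
    exact fun v hv => (hTc v hv).symm
  have hcent : ∀ v ∈ T, v ∉ Z → ¬ T ≤ centralizer ({v} : Set G) := by
    intro g hg hgZ hle
    have hgc : g ∈ Zc := mem_inf.2 ⟨hg, fun v hv => (mem_centralizer_singleton_iff.1 (hle hv))⟩
    have h9 : 9 ∣ Nat.card Zc := nine_le inf_le_left hT (hZZc (mem_zpowers _)) h6 hgc hgZ
    by_cases hy : y₀ ∈ Zc
    · exact hycentral hy₀c fun v hv => mem_centralizer_singleton_iff.2 ((mem_inf.1 hy).2 v hv)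
    have hlt : Zc < T ⊓ centralizer ({y₀} : Set G) := by
      refine lt_of_le_of_ne (fun v hv => mem_inf.2 ⟨(mem_inf.1 hv).1,
        mem_centralizer_singleton_iff.2 ((mem_inf.1 hv).2 y₀ hy₀T).symm⟩) fun e => hy ?_
      rw [e]
      exact mem_inf.2 ⟨hy₀T, mem_centralizer_singleton_iff.2 rfl⟩
    have hlt' := Set.ncard_lt_ncard (SetLike.coe_ssubset_coe.2 hlt) (Set.toFinite _)
    rw [← Nat.card_coe_set_eq, ← Nat.card_coe_set_eq] at hlt'
    change Nat.card Zc < Nat.card ↥(T ⊓ centralizer ({y₀} : Set G)) at hlt'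
    have h9' := Nat.le_of_dvd Nat.card_pos h9
    refine hycentral hy₀c ?_
    have h27 : Nat.card ↥(T ⊓ centralizer ({y₀} : Set G)) = 27 := by
      rcases card_dvd_three (inf_le_left : T ⊓ centralizer ({y₀} : Set G) ≤ T) hT with e | e | e | e <;>
        omega
    exact inf_eq_left.1 (eq_of_le_of_card_ge inf_le_left (by rw [h27, hT]))
  let K := fun g : G => T ⊓ centralizer ({g} : Set G)
  have hgK : ∀ g ∈ T, g ∈ K g := fun g hg => mem_inf.2 ⟨hg, mem_centralizer_singleton_iff.2 rfl⟩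
  have h6K : ∀ g ∈ T, S.f 6 ∈ K g := fun g hg =>
    mem_inf.2 ⟨h6T, mem_centralizer_singleton_iff.2 (hTc g hg)⟩
  have hK9 : ∀ g ∈ T, g ∉ Z → Nat.card (K g) = 9 := by
    intro g hg hgZ
    have h9 := Nat.le_of_dvd Nat.card_pos
      (nine_le (inf_le_left : K g ≤ T) hT (h6K g hg) h6 (hgK g hg) hgZ)
    rcases card_dvd_three (inf_le_left : K g ≤ T) hT with e | e | e | e
    all_goals try omega
    exact absurd (inf_eq_left.1 (eq_of_le_of_card_ge inf_le_left (by rw [e, hT]))) (hcent g hg hgZ)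
  have hrep : ∀ g ∈ T, g ∉ Z → ∀ v ∈ K g, ∃ i j : Fin 3, v = S.f 6 ^ (i : ℕ) * g ^ (j : ℕ) := by
    intro g hg hgZ v hv
    let Φ : Fin 3 × Fin 3 → K g := fun p =>
      ⟨S.f 6 ^ (p.1 : ℕ) * g ^ (p.2 : ℕ), mul_mem (pow_mem (h6K g hg) _) (pow_mem (hgK g hg) _)⟩
    have hΦ : Function.Injective Φ := by
      rintro ⟨i, j⟩ ⟨i', j'⟩ e
      have e' : S.f 6 ^ (i : ℕ) * g ^ (j : ℕ) = S.f 6 ^ (i' : ℕ) * g ^ (j' : ℕ) := congrArg Subtype.val e
      have hg3 : g ^ 3 = 1 := by
        rw [← (hexp g hg fun h => hgZ (h ▸ one_mem _)).1, pow_orderOf_eq_one]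
      have hjj : j = j' := by
        by_contra hne
        apply hgZ
        have hmem : g ^ (j : ℕ) * (g ^ (j' : ℕ))⁻¹ ∈ Z := by
          rw [show g ^ (j : ℕ) * (g ^ (j' : ℕ))⁻¹ = (S.f 6 ^ (i : ℕ))⁻¹ * S.f 6 ^ (i' : ℕ) from by
            rw [eq_inv_mul_iff_mul_eq, ← mul_assoc, e', mul_inv_cancel_right]]
          exact mul_mem (inv_mem (pow_mem (mem_zpowers _) _)) (pow_mem (mem_zpowers _) _)
        rw [show (g ^ (j' : ℕ))⁻¹ = g ^ (3 - (j' : ℕ)) from inv_eq_of_mul_eq_one_right (by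
          rw [← pow_add, Nat.add_sub_cancel' j'.2.le, hg3]), ← pow_add] at hmem
        have hne' : ((j : ℕ) + (3 - (j' : ℕ))) % 3 ≠ 0 := fun e => hne (Fin.ext (by omega))
        rw [← Nat.mod_add_div ((j : ℕ) + (3 - (j' : ℕ))) 3, pow_add, pow_mul, hg3, one_pow, mul_one] at hmem
        rcases (show ((j : ℕ) + (3 - (j' : ℕ))) % 3 = 1 ∨ ((j : ℕ) + (3 - (j' : ℕ))) % 3 = 2 by omega) with e | e
        · rwa [e, pow_one] at hmem
        · rw [e] at hmem
          have h2 := mul_mem hmem hmem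
          rwa [← pow_add, show 2 + 2 = 3 + 1 from rfl, pow_add, hg3, one_mul, pow_one] at h2
      subst hjj
      have hi := pow_inj_mod.1 (mul_right_cancel e')
      rw [h6, Nat.mod_eq_of_lt i.2, Nat.mod_eq_of_lt i'.2] at hi
      exact Prod.ext (Fin.ext hi) rfl
    obtain ⟨p, hp⟩ := ((Nat.bijective_iff_injective_and_card Φ).2 ⟨hΦ, by
      rw [hK9 g hg hgZ, Nat.card_prod, Nat.card_fin]⟩).2 ⟨v, hv⟩
    exact ⟨p.1, p.2, (congrArg Subtype.val hp).symm⟩
  -- the type is constant on the lines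
  have htype : ∀ g ∈ T, g ∉ Z → ∀ v ∈ K g, v ∉ Z → (IsConj (S.f 6) v ↔ IsConj (S.f 6) g) := by
    intro g hg hgZ
    have hg1 : g ≠ 1 := fun h => hgZ (h ▸ one_mem _)
    have hg3 : g ^ 3 = 1 := by rw [← (hexp g hg hg1).1, pow_orderOf_eq_one]
    have h63 : S.f 6 ^ 3 = 1 := by rw [← h6, pow_orderOf_eq_one]
    obtain ⟨h, hhT, hhg⟩ : ∃ h ∈ T, h * g ≠ g * h := by
      by_contra hall
      push_neg at hall
      exact hcent g hg hgZ fun v hv => mem_centralizer_singleton_iff.2 (hall v hv)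
    have hnormK : ∀ v ∈ K g, h * v * h⁻¹ ∈ K g := by
      intro v hv
      haveI := (IsPGroup.of_card (p := 3) (n := 3) (by rw [hT]; norm_num) : IsPGroup 3 T).isNilpotent
      have hne : (K g).subgroupOf T ≠ ⊤ := fun e => by
        rw [subgroupOf_eq_top] at e
        have := card_dvd_of_le e
        rw [hT, hK9 g hg hgZ] at this
        norm_num at this
      have hlt := Group.normalizerCondition_of_isNilpotent _ (lt_top_iff_ne_top.2 hne)
      have htop : normalizer (((K g).subgroupOf T : Subgroup T) : Set T) = ⊤ := by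
        refine eq_top_of_le_card _ ?_
        have h1 := Set.ncard_lt_ncard (SetLike.coe_ssubset_coe.2 hlt) (Set.toFinite _)
        rw [← Nat.card_coe_set_eq, ← Nat.card_coe_set_eq] at h1
        change Nat.card ((K g).subgroupOf T) < Nat.card ↥(normalizer _) at h1
        rw [Nat.card_congr (subgroupOfEquivOfLe (inf_le_left : K g ≤ T)).toEquiv, hK9 g hg hgZ] at h1
        have h2 := card_subgroup_dvd_card (normalizer (((K g).subgroupOf T : Subgroup T) : Set T))
        rw [hT] at h2 ⊢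
        have h3 := (Nat.mem_divisors.2 ⟨h2, by norm_num⟩ : _ ∈ Nat.divisors 27)
        rw [show Nat.divisors 27 = {1, 3, 9, 27} by decide +kernel] at h3
        simp only [Finset.mem_insert, Finset.mem_singleton] at h3
        omega
      have h' := (mem_normalizer_iff.1 (htop ▸ mem_top (⟨h, hhT⟩ : T)) ⟨v, (mem_inf.1 hv).1⟩).1
        (mem_subgroupOf.2 hv)
      exact mem_subgroupOf.1 h'
    obtain ⟨i, j, hij⟩ := hrep g hg hgZ _ (hnormK g (hgK g hg))
    have hh6 : ∀ n : ℕ, h * S.f 6 ^ n * h⁻¹ = S.f 6 ^ n := fun n => by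
      rw [← conj_pow, ← hTc h hhT, mul_inv_cancel_right]
    have h2 : h * h * g * (h * h)⁻¹ = S.f 6 ^ (i : ℕ) * (S.f 6 ^ (i : ℕ) * g ^ (j : ℕ)) ^ (j : ℕ) := by
      calc h * h * g * (h * h)⁻¹ = h * (h * g * h⁻¹) * h⁻¹ := by group
        _ = h * S.f 6 ^ (i : ℕ) * h⁻¹ * (h * g ^ (j : ℕ) * h⁻¹) := by rw [hij]; group
        _ = _ := by rw [hh6, ← conj_pow, hij]
    have hh3 : h ^ 3 = 1 := by
      have := (hexp h hhT fun e => hhg (by rw [e, one_mul, mul_one])).1
      rw [← this, pow_orderOf_eq_one]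
    have hc6 : Commute (S.f 6) g := hTc g hg
    have hj1 : (j : ℕ) = 1 := by
      fin_cases j
      · exfalso
        simp only [pow_zero, mul_one] at hij
        exact hgZ (by
          have : g = h⁻¹ * S.f 6 ^ (i : ℕ) * h := by rw [← hij]; group
          rw [this, show h⁻¹ * S.f 6 ^ (i : ℕ) * h = S.f 6 ^ (i : ℕ) by
            conv_lhs => rw [← hh6 i]
            group]
          exact pow_mem (mem_zpowers _) _)
      · rfl
      · exfalso
        change h * h * g * (h * h)⁻¹ = S.f 6 ^ (i : ℕ) * (S.f 6 ^ (i : ℕ) * g ^ 2) ^ 2 at h2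
        rw [((hc6.pow_pow _ 2)).mul_pow, ← mul_assoc, ← pow_mul, ← pow_add, ← pow_mul,
          show (i : ℕ) + i * 2 = 3 * i by ring, pow_mul, h63, one_pow, one_mul,
          show 2 * 2 = 3 + 1 from rfl, pow_succ, hg3, one_mul] at h2
        apply hhg
        have c : Commute (h * h) g := mul_inv_eq_iff_eq_mul.1 h2
        have c2 := (c.mul_left c).eq
        rwa [show h * h * (h * h) = h ^ 3 * h by simp only [pow_succ, pow_zero, one_mul, mul_assoc],
          hh3, one_mul] at c2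
    rw [hj1, pow_one] at hij
    rw [hj1, pow_one, pow_one, ← mul_assoc, ← pow_add] at h2
    have hi0 : (i : ℕ) ≠ 0 := fun e => by
      rw [e, pow_zero, one_mul] at hij
      exact hhg (mul_inv_eq_iff_eq_mul.1 hij)
    have hz' : ∀ k : ℕ, IsConj g (S.f 6 ^ k * g) := by
      intro k
      have hk : S.f 6 ^ k = S.f 6 ^ (k % 3) := by
        conv_lhs => rw [← Nat.mod_add_div k 3, pow_add, pow_mul, h63, one_pow, mul_one]
      rw [hk]
      have hi2 : (i : ℕ) = 1 ∨ (i : ℕ) = 2 := by omega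
      rcases hi2 with hi | hi <;> rcases (show k % 3 = 0 ∨ k % 3 = 1 ∨ k % 3 = 2 by omega) with e | e | e <;>
        rw [e]
      all_goals rw [hi] at hij h2
      · rw [pow_zero, one_mul]
      · exact isConj_iff.2 ⟨h, hij⟩
      · exact isConj_iff.2 ⟨h * h, h2⟩
      · rw [pow_zero, one_mul]
      · refine isConj_iff.2 ⟨h * h, h2.trans ?_⟩
        rw [show 2 + 2 = 3 + 1 from rfl, pow_succ, h63, one_mul, pow_one]
      · exact isConj_iff.2 ⟨h, hij⟩
    intro v hv hvZ
    obtain ⟨a, c, rfl⟩ := hrep g hg hgZ v hv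
    fin_cases c
    · refine absurd ?_ hvZ
      simp only [pow_zero, mul_one]
      exact pow_mem (mem_zpowers _) _
    · simp only [pow_one]
      exact ⟨fun h => h.trans (hz' a).symm, fun h => h.trans (hz' a)⟩
    · show IsConj (S.f 6) (S.f 6 ^ (a : ℕ) * g ^ 2) ↔ _
      have hinv : S.f 6 ^ (a : ℕ) * g ^ 2 = (S.f 6 ^ (2 * (a : ℕ)) * g)⁻¹ := by
        refine eq_inv_of_mul_eq_one_left ?_
        rw [(hc6.pow_left (2 * a : ℕ)).eq, mul_assoc, ← mul_assoc (g ^ 2), ← pow_succ, hg3, one_mul,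
          ← pow_add, show (a : ℕ) + 2 * a = 3 * a by ring, pow_mul, h63, one_pow]
      rw [hinv]
      constructor
      · intro h
        obtain ⟨c, hc⟩ := isConj_iff.1 h
        have h' : IsConj (S.f 6)⁻¹ (S.f 6 ^ (2 * (a : ℕ)) * g) :=
          isConj_iff.2 ⟨c, by rw [← conj_inv, hc, inv_inv]⟩
        exact (F.six_inv.trans h').trans (hz' _).symm
      · intro h
        obtain ⟨c, hc⟩ := isConj_iff.1 (h.trans (hz' (2 * a)))
        exact F.six_inv.trans (isConj_iff.2 ⟨c, by rw [← conj_inv, hc]⟩)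
  have hZX : ∀ v ∈ Z, v ≠ 1 → IsConj (S.f 6) v := by
    intro v hv hv1
    rw [hZ, mem_zpowers_iff_mem_range_orderOf, h6, Finset.mem_image] at hv
    obtain ⟨k, hk, rfl⟩ := hv
    rw [Finset.mem_range] at hk
    interval_cases k
    · exact absurd (pow_zero _) hv1
    · rw [pow_one]
    · rw [show S.f 6 ^ 2 = (S.f 6)⁻¹ from (inv_eq_of_mul_eq_one_right (by
        rw [← pow_succ', show 2 + 1 = 3 from rfl, ← h6, pow_orderOf_eq_one])).symm]
      exact F.six_inv
  -- counting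
  set YT := (Finset.univ : Finset G).filter fun v => v ∈ T ∧ IsConj (F.cb.ι z) v with hYT
  have hy₀Z : y₀ ∉ Z := fun h => hnot hy₀c (hZX _ h fun e => by
    have := orderOf_eq_of_isConj hy₀c
    rw [e, orderOf_one, hoz] at this
    omega)
  have hY6 : 6 ≤ YT.card := by
    have hsub : ((Finset.univ : Finset G).filter fun v => v ∈ K y₀) \
        (Finset.univ.filter fun v => v ∈ Z) ⊆ YT := by
      intro v hv
      simp only [Finset.mem_sdiff, Finset.mem_filter, Finset.mem_univ, true_and] at hv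
      refine Finset.mem_filter.2 ⟨Finset.mem_univ _, (mem_inf.1 hv.1).1, ?_⟩
      exact ((hexp v (mem_inf.1 hv.1).1 fun e => hv.2 (e ▸ one_mem _)).2).resolve_left fun h =>
        hnot hy₀c ((htype y₀ hy₀T hy₀Z v hv.1 hv.2).1 h)
    have h1 := Finset.le_card_sdiff (Finset.univ.filter fun v => v ∈ Z)
      ((Finset.univ : Finset G).filter fun v => v ∈ K y₀)
    have h2 : ∀ H : Subgroup G, ((Finset.univ : Finset G).filter fun v => v ∈ H).card = Nat.card H := fun H => by
      rw [Nat.card_eq_fintype_card, Fintype.card_subtype]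
    rw [h2, h2, hK9 y₀ hy₀T hy₀Z, hZcard] at h1
    have := Finset.card_le_card hsub
    omega
  have hy12 : YT.card = 12 := by
    have hdc := double_count (S.f 6) (F.cb.ι z)
    have hn : Nat.card {b : G // IsConj (F.cb.ι z) b ∧ S.f 6 * b = b * S.f 6} = YT.card := by
      rw [Nat.card_eq_fintype_card, Fintype.card_subtype]
      congr 1
      ext v
      simp only [hYT, Finset.mem_filter, Finset.mem_univ, true_and]
      exact ⟨fun h => ⟨hC3 v h.2 ((orderOf_eq_of_isConj h.1).trans hoz), h.1⟩,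
        fun h => ⟨h.2, hTc v h.1⟩⟩
    set Cz := centralizer ({F.cb.ι z} : Set G) with hCzdef
    have hzC : F.cb.ι z ∈ Cz := mem_centralizer_singleton_iff.2 rfl
    have hP9 : ∀ P : Sylow 3 Cz, Nat.card (P : Subgroup Cz) = 9 := fun P => by
      rw [Cfsg.Lib.Small.card_sylow 2 4 (by rw [hCz]; norm_num) (by norm_num) P]; norm_num
    have hzP : ∀ P : Sylow 3 Cz, (⟨F.cb.ι z, hzC⟩ : Cz) ∈ (P : Subgroup Cz) := fun P => by
      obtain ⟨Q, hQ⟩ := (IsPGroup.of_card (p := 3) (n := 1)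
        (by rw [Nat.card_zpowers, orderOf_mk, hoz, pow_one]) :
        IsPGroup 3 (zpowers (⟨F.cb.ι z, hzC⟩ : Cz))).exists_le_sylow
      obtain ⟨c, hc⟩ := MulAction.exists_smul_eq Cz Q P
      rw [← hc, Sylow.coe_subgroup_smul, mem_smul_pointwise_iff_exists]
      refine ⟨⟨F.cb.ι z, hzC⟩, hQ (mem_zpowers _), Subtype.ext ?_⟩
      show (c : G) * F.cb.ι z * (c : G)⁻¹ = F.cb.ι z
      rw [mem_centralizer_singleton_iff.1 c.2, mul_inv_cancel_right]
    -- a Sylow subgroup of the centraliser, moved into `T`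
    have hmove : ∀ P : Sylow 3 Cz, ∃ h : G, h * F.cb.ι z * h⁻¹ ∈ T ∧
        ∀ v : G, (∃ hv : v ∈ Cz, (⟨v, hv⟩ : Cz) ∈ (P : Subgroup Cz)) ↔
          h * v * h⁻¹ ∈ K (h * F.cb.ι z * h⁻¹) := by
      intro P
      obtain ⟨h, hh⟩ := hconj ((P : Subgroup Cz).map Cz.subtype) (P.isPGroup'.map _)
      have hyT := hh _ ⟨⟨F.cb.ι z, hzC⟩, hzP P, rfl⟩
      refine ⟨h, hyT, ?_⟩
      have hyZ : h * F.cb.ι z * h⁻¹ ∉ Z := fun hm => hnot (isConj_iff.2 ⟨h, rfl⟩) (hZX _ hm fun e => by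
        rw [conj_eq_one_iff.1 e, orderOf_one] at hoz
        omega)
      have heq : ((P : Subgroup Cz).map Cz.subtype).map (MulAut.conj h).toMonoidHom =
          K (h * F.cb.ι z * h⁻¹) := by
        refine eq_of_le_of_card_ge ?_ ?_
        · rintro _ ⟨_, ⟨v, hv, rfl⟩, rfl⟩
          refine mem_inf.2 ⟨hh _ ⟨v, hv, rfl⟩, mem_centralizer_singleton_iff.2 ?_⟩
          show h * (v : G) * h⁻¹ * (h * F.cb.ι z * h⁻¹) = h * F.cb.ι z * h⁻¹ * (h * (v : G) * h⁻¹)
          rw [conj_mul, conj_mul, mem_centralizer_singleton_iff.1 v.2]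
        · rw [hK9 (h * F.cb.ι z * h⁻¹) hyT hyZ, Subgroup.card_map_of_injective (MulEquiv.injective _),
            Subgroup.card_map_of_injective Cz.subtype_injective, hP9]
      intro v
      rw [← heq]
      constructor
      · rintro ⟨hv, hvP⟩
        exact ⟨v, ⟨⟨v, hv⟩, hvP, rfl⟩, rfl⟩
      · rintro ⟨_, ⟨w, hw, rfl⟩, e⟩
        have e' : (w : G) = v := (MulAut.conj h).injective e
        subst e'
        exact ⟨w.2, hw⟩
    have hfib : ∀ P : Sylow 3 Cz,
        Nat.card {a : G // ∃ hv : a ∈ Cz, (⟨a, hv⟩ : Cz) ∈ (P : Subgroup Cz) ∧ IsConj (S.f 6) a} = 2 := by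
      intro P
      obtain ⟨h, hyT, hP⟩ := hmove P
      have hyc : IsConj (F.cb.ι z) (h * F.cb.ι z * h⁻¹) := isConj_iff.2 ⟨h, rfl⟩
      have hyZ : h * F.cb.ι z * h⁻¹ ∉ Z := fun hm => hnot hyc (hZX _ hm fun e => by
        rw [conj_eq_one_iff.1 e, orderOf_one] at hoz
        omega)
      have key : ∀ a : G, (∃ hv : a ∈ Cz, (⟨a, hv⟩ : Cz) ∈ (P : Subgroup Cz) ∧ IsConj (S.f 6) a) ↔
          h * a * h⁻¹ ∈ Z ∧ h * a * h⁻¹ ≠ 1 := by
        intro a
        have hca : IsConj a (h * a * h⁻¹) := isConj_iff.2 ⟨h, rfl⟩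
        constructor
        · rintro ⟨hv, hvP, hX⟩
          have hm := (hP a).1 ⟨hv, hvP⟩
          refine ⟨by_contra fun hn => hnot hyc ((htype _ hyT hyZ _ hm hn).1 (hX.trans hca)), fun e => ?_⟩
          have := orderOf_eq_of_isConj hX
          rw [conj_eq_one_iff.1 e, orderOf_one, h6] at this
          omega
        · rintro ⟨hm, hne⟩
          obtain ⟨hv, hvP⟩ := (hP a).2 (mem_inf.2 ⟨hZT hm, mem_centralizer_singleton_iff.2 (by
            obtain ⟨k, hk⟩ := mem_zpowers_iff.1 hm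
            rw [← hk]
            exact ((show Commute (S.f 6) _ from hTc _ hyT).zpow_left k).eq)⟩)
          exact ⟨hv, hvP, (hZX _ hm hne).trans hca.symm⟩
      rw [Nat.card_congr ((MulAut.conj h).toEquiv.subtypeEquiv (q := fun b => b ∈ Z ∧ b ≠ 1) key),
        Nat.card_eq_fintype_card, Fintype.card_subtype, Finset.filter_and,
        show (Finset.univ.filter fun b : G => b ≠ 1) = Finset.univ.erase 1 by ext; simp,
        Finset.inter_erase, Finset.inter_univ, Finset.card_erase_of_mem (by simp [one_mem]),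
        ← Fintype.card_subtype, ← Nat.card_eq_fintype_card, hZcard]
    have hm2 : Nat.card {a : G // IsConj (S.f 6) a ∧ F.cb.ι z * a = a * F.cb.ι z} =
        2 * Nat.card (Sylow 3 Cz) := by
      let Ψ : (Σ P : Sylow 3 Cz, {a : G // ∃ hv : a ∈ Cz, (⟨a, hv⟩ : Cz) ∈ (P : Subgroup Cz) ∧
          IsConj (S.f 6) a}) → {a : G // IsConj (S.f 6) a ∧ F.cb.ι z * a = a * F.cb.ι z} := fun s =>
        ⟨s.2.1, s.2.2.2.2, (mem_centralizer_singleton_iff.1 s.2.2.1).symm⟩
      have hΨ : Function.Bijective Ψ := by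
        constructor
        · rintro ⟨P, a, hv, hvP, hX⟩ ⟨Q, a', hv', hvQ, hX'⟩ e
          have e' : a = a' := congrArg Subtype.val e
          subst e'
          have hPQ : P = Q := by
            refine Sylow.ext ?_
            have hd := card_dvd_of_le (inf_le_left : (P : Subgroup Cz) ⊓ Q ≤ P)
            rw [hP9] at hd
            have h3 : 3 ∣ Nat.card ↥((P : Subgroup Cz) ⊓ Q) := by
              have hd' := Subgroup.orderOf_dvd_natCard _ (mem_inf.2 ⟨hzP P, hzP Q⟩)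
              rwa [orderOf_mk, hoz] at hd'
            have hne : Nat.card ↥((P : Subgroup Cz) ⊓ Q) ≠ 3 := fun e3 => by
              have hz' : zpowers (⟨F.cb.ι z, hzC⟩ : Cz) = (P : Subgroup Cz) ⊓ Q :=
                eq_of_le_of_card_ge (zpowers_le.2 (mem_inf.2 ⟨hzP P, hzP Q⟩))
                  (by rw [e3, Nat.card_zpowers, orderOf_mk, hoz])
              have hm : (⟨a, hv⟩ : Cz) ∈ zpowers (⟨F.cb.ι z, hzC⟩ : Cz) :=
                hz' ▸ mem_inf.2 ⟨hvP, hvQ⟩
              rw [mem_zpowers_iff_mem_range_orderOf, orderOf_mk, hoz, Finset.mem_image] at hm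
              obtain ⟨k, hk, hka⟩ := hm
              have hka' : F.cb.ι z ^ k = a := congrArg Subtype.val hka
              rw [Finset.mem_range] at hk
              interval_cases k
              · rw [pow_zero] at hka'
                have := orderOf_eq_of_isConj hX
                rw [← hka', orderOf_one, h6] at this
                omega
              · rw [pow_one] at hka'
                exact F.not_isConj_six hz3 hz1 (hka' ▸ hX)
              · refine hnot (F.isConj_inv hz3 hz1 (IsConj.refl _)) ?_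
                rw [show (F.cb.ι z)⁻¹ = a from inv_eq_of_mul_eq_one_right (by
                  rw [← hka', ← pow_succ', show 2 + 1 = 3 from rfl, ← map_pow, hz3, map_one])]
                exact hX
            have h9 : 9 ≤ Nat.card ↥((P : Subgroup Cz) ⊓ Q) := by
              obtain ⟨c, hc⟩ := h3
              rw [hc] at hd hne ⊢
              have := Nat.dvd_of_mul_dvd_mul_left (by norm_num : 0 < 3) (show 3 * c ∣ 3 * 3 from hd)
              rcases (Nat.dvd_prime Nat.prime_three).1 this with e | e <;> omega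
            rw [← eq_of_le_of_card_ge (inf_le_left : (P : Subgroup Cz) ⊓ Q ≤ P) (by rw [hP9]; exact h9)]
            exact eq_of_le_of_card_ge inf_le_right (by rw [hP9]; exact h9)
          subst hPQ
          rfl
        · rintro ⟨a, hX, hca⟩
          have ha : a ∈ Cz := mem_centralizer_singleton_iff.2 hca.symm
          obtain ⟨P, hP⟩ := (IsPGroup.of_card (p := 3) (n := 1)
            (by rw [Nat.card_zpowers, orderOf_mk, orderOf_eq_of_isConj hX, h6, pow_one]) :
            IsPGroup 3 (zpowers (⟨a, ha⟩ : Cz))).exists_le_sylow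
          exact ⟨⟨P, a, ha, hP (mem_zpowers _), hX⟩, rfl⟩
      haveI := Fintype.ofFinite (Sylow 3 Cz)
      rw [← Nat.card_eq_of_bijective Ψ hΨ, Nat.card_sigma, Finset.sum_congr rfl fun P _ => hfib P,
        Finset.sum_const, Finset.card_univ, ← Nat.card_eq_fintype_card, smul_eq_mul, mul_comm]
    obtain ⟨hs1, hs2⟩ := Cfsg.Lib.Small.sylow_facts (G := Cz) (p := 3) 2 4 (by rw [hCz]; norm_num) (by norm_num)
    have hs : Nat.card (Sylow 3 Cz) = 1 ∨ Nat.card (Sylow 3 Cz) = 4 := by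
      have h4 := Nat.le_of_dvd (by norm_num) hs1
      omega
    rw [hn, hm2, Nat.card_eq_fintype_card (α := {a : G // IsConj (S.f 6) a}), Fintype.card_subtype, hA,
      Nat.card_eq_fintype_card (α := {b : G // IsConj (F.cb.ι z) b}), Fintype.card_subtype, hB] at hdc
    omega
  -- the two lines
  set XT := (Finset.univ : Finset G).filter fun v => v ∈ T ∧ v ∉ Z ∧ IsConj (S.f 6) v with hXT
  have hXc : XT.card = 12 := by
    have hunion : XT ∪ YT ∪ (Finset.univ.filter fun v => v ∈ Z) = Finset.univ.filter fun v => v ∈ T := by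
      ext v
      simp only [hXT, hYT, Finset.mem_union, Finset.mem_filter, Finset.mem_univ, true_and]
      constructor
      · rintro ((h | h) | h)
        exacts [h.1, h.1, hZT h]
      · intro hv
        by_cases hvZ : v ∈ Z
        · exact Or.inr hvZ
        · rcases (hexp v hv fun e => hvZ (e ▸ one_mem _)).2 with h | h
          · exact Or.inl (Or.inl ⟨hv, hvZ, h⟩)
          · exact Or.inl (Or.inr ⟨hv, h⟩)
    have hd1 : Disjoint XT YT := Finset.disjoint_left.2 fun v h h' =>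
      hnot (Finset.mem_filter.1 h').2.2 (Finset.mem_filter.1 h).2.2.2
    have hd2 : Disjoint (XT ∪ YT) (Finset.univ.filter fun v => v ∈ Z) := Finset.disjoint_left.2 fun v h h' => by
      have hvZ := (Finset.mem_filter.1 h').2
      rcases Finset.mem_union.1 h with h | h
      · exact (Finset.mem_filter.1 h).2.2.1 hvZ
      · refine hnot (Finset.mem_filter.1 h).2.2 (hZX v hvZ fun e => ?_)
        have := orderOf_eq_of_isConj (Finset.mem_filter.1 h).2.2
        rw [e, orderOf_one, hoz] at this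
        omega
    have h2 : ∀ H : Subgroup G, ((Finset.univ : Finset G).filter fun v => v ∈ H).card = Nat.card H := fun H => by
      rw [Nat.card_eq_fintype_card, Fintype.card_subtype]
    have h := congrArg Finset.card hunion
    rw [Finset.card_union_of_disjoint hd2, Finset.card_union_of_disjoint hd1, hy12, h2, h2, hT, hZcard] at h
    omega
  have hline : ∀ g ∈ XT, ((Finset.univ : Finset G).filter fun v => v ∈ K g ∧ v ∉ Z).card = 6 ∧
      ((Finset.univ : Finset G).filter fun v => v ∈ K g ∧ v ∉ Z) ⊆ XT := by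
    intro g hg
    obtain ⟨-, hgT, hgZ, hgX⟩ := Finset.mem_filter.1 hg
    refine ⟨?_, fun v hv => ?_⟩
    · have hs : ((Finset.univ : Finset G).filter fun v => v ∈ K g ∧ v ∉ Z) =
          ((Finset.univ : Finset G).filter fun v => v ∈ K g) \ Finset.univ.filter fun v => v ∈ Z := by
        ext; simp
      have hsub : (Finset.univ.filter fun v => v ∈ Z) ⊆ (Finset.univ : Finset G).filter fun v => v ∈ K g := by
        intro v hv
        simp only [Finset.mem_filter, Finset.mem_univ, true_and] at hv ⊢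
        exact zpowers_le.2 (h6K g hgT) hv
      rw [hs, Finset.card_sdiff_of_subset hsub]
      have h2 : ∀ H : Subgroup G, ((Finset.univ : Finset G).filter fun v => v ∈ H).card = Nat.card H := fun H => by
        rw [Nat.card_eq_fintype_card, Fintype.card_subtype]
      rw [h2, h2, hK9 g hgT hgZ, hZcard]
    · obtain ⟨-, hvK, hvZ⟩ := Finset.mem_filter.1 hv
      exact Finset.mem_filter.2 ⟨Finset.mem_univ _, (mem_inf.1 hvK).1, hvZ, (htype g hgT hgZ v hvK hvZ).2 hgX⟩
  obtain ⟨g₁, hg₁⟩ : XT.Nonempty := Finset.card_pos.1 (by omega)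
  obtain ⟨g₂, hg₂, hg₂1⟩ : ∃ g₂ ∈ XT, g₂ ∉ K g₁ := by
    by_contra hall
    push_neg at hall
    have := Finset.card_le_card (show XT ⊆ Finset.univ.filter fun v => v ∈ K g₁ ∧ v ∉ Z from fun v hv =>
      Finset.mem_filter.2 ⟨Finset.mem_univ _, hall v hv, (Finset.mem_filter.1 hv).2.2.1⟩)
    rw [(hline g₁ hg₁).1] at this
    omega
  obtain ⟨-, h1T, h1Z, h1X⟩ := Finset.mem_filter.1 hg₁
  obtain ⟨-, h2T, h2Z, h2X⟩ := Finset.mem_filter.1 hg₂
  have hmeet : ∀ v, v ∈ K g₁ → v ∈ K g₂ → v ∈ Z := by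
    intro v hv1 hv2
    by_contra hvZ
    apply hg₂1
    have h9 := Nat.le_of_dvd Nat.card_pos (nine_le (inf_le_left.trans inf_le_left : K g₁ ⊓ K g₂ ≤ T) hT
      (mem_inf.2 ⟨h6K g₁ h1T, h6K g₂ h2T⟩) h6 (mem_inf.2 ⟨hv1, hv2⟩) hvZ)
    have e1 : K g₁ ⊓ K g₂ = K g₂ := eq_of_le_of_card_ge inf_le_right (by rw [hK9 g₂ h2T h2Z]; exact h9)
    exact inf_le_left (a := K g₁) (b := K g₂) (e1.symm ▸ hgK g₂ h2T)
  refine ⟨T, g₁, g₂, hT, h6T, hTc, hconj, h1T, h2T, h1X, h2X, h1Z, hK9 g₁ h1T h1Z, hK9 g₂ h2T h2Z,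
    hmeet, fun v hv hv1 => ?_⟩
  by_cases hvZ : v ∈ Z
  · exact iff_of_true (hZX v hvZ hv1) (Or.inl (zpowers_le.2 (h6K g₁ h1T) hvZ))
  refine ⟨fun hX => ?_, ?_⟩
  · have hsub := Finset.union_subset (hline g₁ hg₁).2 (hline g₂ hg₂).2
    have hd : Disjoint ((Finset.univ : Finset G).filter fun v => v ∈ K g₁ ∧ v ∉ Z)
        ((Finset.univ : Finset G).filter fun v => v ∈ K g₂ ∧ v ∉ Z) :=
      Finset.disjoint_left.2 fun w h h' =>
        (Finset.mem_filter.1 h).2.2 (hmeet w (Finset.mem_filter.1 h).2.1 (Finset.mem_filter.1 h').2.1)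
    have heq := Finset.eq_of_subset_of_card_le hsub (by
      rw [Finset.card_union_of_disjoint hd, (hline g₁ hg₁).1, (hline g₂ hg₂).1, hXc])
    have : v ∈ XT := Finset.mem_filter.2 ⟨Finset.mem_univ _, hv, hvZ, hX⟩
    rw [← heq, Finset.mem_union, Finset.mem_filter, Finset.mem_filter] at this
    exact this.imp (fun h => h.2.1) fun h => h.2.1
  · rintro (h | h)
    · exact (htype g₁ h1T h1Z v h hvZ).2 h1X
    · exact (htype g₂ h2T h2Z v h hvZ).2 h2X

end Facts

end Cfsg.Lib.MTwelveRecog
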